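import Cfsg.Agent.H7.AutCore
import Cfsg.Prelude.Def_LieTypeDatum

/-!
Transport of the action of the semisimilarity group to the matrix carriers.
-/

set_option autoImplicit false

namespace Cfsg.Agent.H7

open QuadraticMap Module Matrix

section abstract
variable {F V : Type*} [Field F] [AddCommGroup V] [Module F V] (Q : QuadraticForm F V)

/-- similarities -/
def GO : Subgroup (SS Q) := (SS.sig Q).ker

/-- scalars -/
def ZS : Subgroup (SS Q) := (SS.sc Q).range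

/-- isometries -/
def OO : Subgroup (SS Q) := (SS.ofO Q).range

/-- the image of `Ω` -/
def OmS : Subgroup (SS Q) := (Om Q).map (SS.ofO Q)

instance instNormalGO : (GO Q).Normal := MonoidHom.normal_ker _

instance instNormalZS : (ZS Q).Normal :=
  ⟨by rintro _ ⟨l, rfl⟩ g; exact ⟨_, (SS.conj_sc g l).symm⟩⟩

instance instNormalOO : (OO Q).Normal :=
  ⟨by rintro _ ⟨l, rfl⟩ g; exact SS.conj_ofO_mem g l⟩

instance instNormalOmS : (OmS Q).Normal :=
  ⟨by rintro _ ⟨l, hl, rfl⟩ g; exact ⟨_, (actOm Q g ⟨l, hl⟩).2, SS.ofO_actO g l⟩⟩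

/-- scalar multiples of elements of `Ω` -/
def KS : Subgroup (SS Q) := OmS Q ⊔ ZS Q

instance instNormalKS : (KS Q).Normal := Subgroup.sup_normal _ _

variable {Q}

lemma mem_GO {g : SS Q} : g ∈ GO Q ↔ g.σ = 1 := Iff.rfl

lemma mem_OO {g : SS Q} : g ∈ OO Q ↔ g.σ = 1 ∧ g.c = 1 := SS.mem_range_ofO

lemma mem_KS {g : SS Q} : g ∈ KS Q ↔ ∃ h ∈ Om Q, ∃ l, g = SS.ofO Q h * SS.sc Q l := by
  rw [← SetLike.mem_coe, KS, Subgroup.mul_normal]
  constructor
  · rintro ⟨_, ⟨h, hh, rfl⟩, _, ⟨l, rfl⟩, rfl⟩; exact ⟨h, hh, l, rfl⟩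
  · rintro ⟨h, hh, l, rfl⟩; exact ⟨_, ⟨h, hh, rfl⟩, _, ⟨l, rfl⟩, rfl⟩

lemma KS_le_GO : KS Q ≤ GO Q := fun g hg => by
  obtain ⟨h, -, l, rfl⟩ := mem_KS.1 hg
  simp [mem_GO]

lemma sc_mem_KS (l : Fˣ) : SS.sc Q l ∈ KS Q := Subgroup.mem_sup_right ⟨l, rfl⟩

lemma ofO_mem_KS {h : OG Q} (hh : h ∈ Om Q) : SS.ofO Q h ∈ KS Q :=
  Subgroup.mem_sup_left ⟨h, hh, rfl⟩

/-- the linear map of a similarity -/
def SS.lin (g : SS Q) (h : g.σ = 1) : V ≃ₗ[F] V :=
  { g.γ with map_smul' := fun a v => by simp [g.map_smul, h] }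

@[simp] lemma SS.lin_apply (g : SS Q) (h : g.σ = 1) (x : V) : g.lin h x = g.γ x := rfl

/-- a similarity given as a linear map -/
def SS.ofLin (g : V ≃ₗ[F] V) (c : Fˣ) (h : ∀ v, Q (g v) = c * Q v) : SS Q :=
  ⟨1, c, g.toAddEquiv, fun a v => g.map_smul a v, h⟩

@[simp] lemma SS.ofLin_apply (g : V ≃ₗ[F] V) (c : Fˣ) (h : ∀ v, Q (g v) = c * Q v) (x : V) :
    (SS.ofLin g c h).γ x = g x := rfl
@[simp] lemma SS.ofLin_σ (g : V ≃ₗ[F] V) (c : Fˣ) (h : ∀ v, Q (g v) = c * Q v) :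
    (SS.ofLin g c h).σ = 1 := rfl
@[simp] lemma SS.ofLin_c (g : V ≃ₗ[F] V) (c : Fˣ) (h : ∀ v, Q (g v) = c * Q v) :
    (SS.ofLin g c h).c = c := rfl

lemma sc_comm_of_GO {g : SS Q} (hg : g ∈ GO Q) (l : Fˣ) : g * SS.sc Q l = SS.sc Q l * g := by
  rw [← mul_inv_eq_iff_eq_mul, SS.conj_sc, mem_GO.1 hg]; rfl

end abstract

section matrices
variable {F : Type*} [Field F] {ι : Type} [Fintype ι] [DecidableEq ι]
  (Q : QuadraticForm F (ι → F))

/-- `Ω` of the Prelude and the abstract `Ω` -/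
def omEquiv : Cfsg.Omega F ⇑Q ≃* Om Q where
  toFun s := ⟨isoEquiv Q s, (mem_Omega_iff _).1 s.2⟩
  invFun s := ⟨(isoEquiv Q).symm s, (mem_Omega_iff _).2 (by simp)⟩
  left_inv s := by simp
  right_inv s := by simp
  map_mul' s t := by simp

/-- `PΩ` of the Prelude and the abstract `PΩ` -/
def pomEquiv : Cfsg.POmega F ⇑Q ≃* POm Q :=
  QuotientGroup.congr _ _ (omEquiv Q) (by
    ext x
    simp only [Subgroup.mem_map, Subgroup.mem_center_iff, MonoidHom.coe_coe]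
    constructor
    · rintro ⟨y, hy, rfl⟩ g
      obtain ⟨g, rfl⟩ := (omEquiv Q).surjective g
      rw [← map_mul, hy, map_mul]
    · intro h
      exact ⟨(omEquiv Q).symm x, fun g => (omEquiv Q).injective (by simpa using h _), by simp⟩)

lemma pomEquiv_mk (s : Cfsg.Omega F ⇑Q) :
    pomEquiv Q (QuotientGroup.mk s) = pm Q (omEquiv Q s) := rfl

/-- the action of the semisimilarities on `PΩ` of the Prelude -/
noncomputable def actP : SS Q →* MulAut (Cfsg.POmega F ⇑Q) :=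
  (MulAut.congr (pomEquiv Q)).symm.toMonoidHom.comp (act Q)

variable {Q}

lemma actP_apply (g : SS Q) (x : Cfsg.POmega F ⇑Q) :
    actP Q g x = (pomEquiv Q).symm (act Q g (pomEquiv Q x)) := rfl

lemma actP_eq_one_iff {g : SS Q} : actP Q g = 1 ↔ act Q g = 1 :=
  (MulAut.congr (pomEquiv Q)).symm.map_eq_one_iff

/-- the semilinear map `g` has matrix `A` -/
def HasMat (g : SS Q) (A : GL ι F) : Prop :=
  ∀ v, g.γ v = (A : Matrix ι ι F) *ᵥ fun i => g.σ (v i)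

lemma exists_hasMat (g : SS Q) : ∃ A, HasMat g A := by
  let τ : (ι → F) ≃+ (ι → F) := AddEquiv.piCongrRight fun _ => g.σ.symm.toAddEquiv
  let l : (ι → F) ≃ₗ[F] (ι → F) :=
    { τ.trans g.γ with
      map_smul' := fun a v => by
        have : τ (a • v) = g.σ.symm a • τ v := by ext i; simp [τ]
        simp [this, g.map_smul] }
  refine ⟨(glEquiv ι F).symm l, fun v => ?_⟩
  rw [glEquiv_symm_mulVec]
  change _ = g.γ (τ _)
  congr 1
  ext i; simp [τ]

/-- the semisimilarity attached to a semisimilarity pair -/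
def SS.ofPair (A : GL ι F) (σ : F ≃+* F) (c : Fˣ)
    (h : ∀ v : ι → F, Q ((A : Matrix ι ι F) *ᵥ fun i => σ (v i)) = c * σ (Q v)) : SS Q :=
  ⟨σ, c, (AddEquiv.piCongrRight fun _ => σ.toAddEquiv).trans (glEquiv ι F A).toAddEquiv,
    fun a v => by
      change (A : Matrix ι ι F) *ᵥ (fun i => σ (a * v i)) = σ a • (A : Matrix ι ι F) *ᵥ _
      rw [← mulVec_smul]
      congr 1
      ext i; simp, h⟩

lemma hasMat_ofPair (A : GL ι F) (σ : F ≃+* F) (c : Fˣ)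
    (h : ∀ v : ι → F, Q ((A : Matrix ι ι F) *ᵥ fun i => σ (v i)) = c * σ (Q v)) :
    HasMat (SS.ofPair A σ c h) A := fun _ => rfl

lemma map_mulVec_apply (σ : F ≃+* F) (M : Matrix ι ι F) (v : ι → F) :
    (fun i => σ ((M *ᵥ v) i)) = M.map σ *ᵥ fun i => σ (v i) := by
  funext i
  exact RingHom.map_mulVec (σ : F →+* F) M v i

lemma HasMat.conj_iff {g : SS Q} {A : GL ι F} (h : HasMat g A) (s s' : Cfsg.Omega F ⇑Q) :
    (((s' : Cfsg.isometryGroup F ⇑Q) : GL ι F) : Matrix ι ι F) =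
      (A : Matrix ι ι F) * (((s : Cfsg.isometryGroup F ⇑Q) : GL ι F) : Matrix ι ι F).map g.σ *
        ((A⁻¹ : GL ι F) : Matrix ι ι F) ↔ omEquiv Q s' = actOm Q g (omEquiv Q s) := by
  have key : ∀ v, (SS.actO Q g (isoEquiv Q s)).1 v = ((A : Matrix ι ι F) *
      (((s : Cfsg.isometryGroup F ⇑Q) : GL ι F) : Matrix ι ι F).map g.σ *
        ((A⁻¹ : GL ι F) : Matrix ι ι F)) *ᵥ v := fun v => by
    obtain ⟨v, rfl⟩ := g.γ.surjective v
    rw [SS.actO_apply', h, h, isoEquiv_apply, map_mulVec_apply, mulVec_mulVec, mulVec_mulVec,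
      mul_assoc, mul_assoc, Units.inv_mul, mul_one]
  constructor
  · intro e
    refine Subtype.ext (OG.ext' fun v => ?_)
    rw [actOm_coe]
    exact (congrArg (· *ᵥ v) e).trans (key v).symm
  · intro e
    refine matrix_ext_mulVec fun v => ?_
    rw [← key]
    exact congrArg (fun k : Om Q => k.1.1 v) e

lemma HasMat.isInduced_iff {g : SS Q} {A : GL ι F} (h : HasMat g A)
    (β : MulAut (Cfsg.POmega F ⇑Q)) :
    Cfsg.IsInducedBySemilinearPOmega ⇑Q A g.σ β ↔ β = actP Q g := by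
  constructor
  · intro hβ
    ext x
    induction x using QuotientGroup.induction_on with
    | H s =>
      rw [hβ s ((omEquiv Q).symm (actOm Q g (omEquiv Q s))) ((h.conj_iff _ _).2 (by simp)),
        actP_apply, pomEquiv_mk, act_pm, MulEquiv.eq_symm_apply, pomEquiv_mk]
      simp
  · rintro rfl s s' e
    rw [actP_apply, pomEquiv_mk, act_pm, ← (h.conj_iff _ _).1 e, MulEquiv.symm_apply_eq]
    rfl

lemma HasMat.isField_iff {g : SS Q} (h : HasMat g 1) (β : MulAut (Cfsg.POmega F ⇑Q)) :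
    Cfsg.IsFieldAutPOmegaOf ⇑Q g.σ β ↔ β = actP Q g := by
  rw [← h.isInduced_iff]
  simp [Cfsg.IsFieldAutPOmegaOf, Cfsg.IsInducedBySemilinearPOmega]

lemma autSubgroupOf_eq_map {P : (Cfsg.POmega F ⇑Q ≃* Cfsg.POmega F ⇑Q) → Prop}
    (H : Subgroup (SS Q)) (h : ∀ β, P β ↔ ∃ g ∈ H, actP Q g = β) :
    Cfsg.autSubgroupOf P = H.map (actP Q) := by
  have : {β : MulAut (Cfsg.POmega F ⇑Q) | P β} = (H.map (actP Q) : Set _) := by
    ext β
    simp only [Set.mem_ofPred_eq, h, SetLike.mem_coe, Subgroup.mem_map]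
  rw [Cfsg.autSubgroupOf, this, Subgroup.closure_eq]

lemma gammaPOmega_eq : Cfsg.gammaPOmega F ⇑Q = (actP Q).range := by
  rw [MonoidHom.range_eq_map]
  refine autSubgroupOf_eq_map _ fun β => ⟨?_, ?_⟩
  · rintro ⟨A, σ, ⟨c, hc⟩, h⟩
    exact ⟨_, trivial, (((hasMat_ofPair A σ c hc).isInduced_iff β).1 h).symm⟩
  · rintro ⟨g, -, rfl⟩
    obtain ⟨A, hA⟩ := exists_hasMat g
    exact ⟨A, g.σ, ⟨g.c, fun v => by rw [← hA, g.map_Q]⟩, (hA.isInduced_iff _).2 rfl⟩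

/-- automorphisms induced by similarities with an extra property of the matrix -/
lemma sim_induced_iff {R : GL ι F → Prop} {H : Subgroup (SS Q)} (hH : H ≤ GO Q)
    (h : ∀ g ∈ GO Q, ∀ A, HasMat g A → (R A ↔ g ∈ H)) (β : MulAut (Cfsg.POmega F ⇑Q)) :
    (∃ A : GL ι F, A ∈ Geo.quadSimilarityGroup (F := F) ⇑Q ∧ R A ∧
      Cfsg.IsInducedBySemilinearPOmega ⇑Q A (RingEquiv.refl F) β) ↔ ∃ g ∈ H, actP Q g = β := by
  constructor
  · rintro ⟨A, ⟨c, hc⟩, h1, h2⟩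
    have hm := hasMat_ofPair (Q := Q) A 1 c hc
    exact ⟨_, (h _ rfl A hm).1 h1, ((hm.isInduced_iff β).1 h2).symm⟩
  · rintro ⟨g, hg, rfl⟩
    obtain ⟨A, hA⟩ := exists_hasMat g
    have h1 : g.σ = RingEquiv.refl F := hH hg
    refine ⟨A, ⟨g.c, fun v => ?_⟩, (h g (hH hg) A hA).2 hg, h1 ▸ (hA.isInduced_iff _).2 rfl⟩
    have := g.map_Q v
    rwa [hA, h1] at this

lemma pgoAut_eq : Cfsg.pgoAut F ⇑Q = (GO Q).map (actP Q) :=
  autSubgroupOf_eq_map _ fun β => by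
    rw [← sim_induced_iff (R := fun _ => True) le_rfl (fun g hg _ _ => by simpa using hg)]
    simp [Cfsg.IsSimilarityInducedAutPOmega]

lemma hasMat_ofO (A : Cfsg.isometryGroup F ⇑Q) : HasMat (SS.ofO Q (isoEquiv Q A)) A :=
  fun _ => rfl

/-- automorphisms induced by isometries in a subgroup -/
lemma iso_induced_iff (H : Subgroup (OG Q)) (β : MulAut (Cfsg.POmega F ⇑Q)) :
    (∃ A : Cfsg.isometryGroup F ⇑Q, isoEquiv Q A ∈ H ∧
      Cfsg.IsInducedBySemilinearPOmega ⇑Q A (RingEquiv.refl F) β) ↔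
      ∃ g ∈ H.map (SS.ofO Q), actP Q g = β := by
  constructor
  · rintro ⟨A, h1, h2⟩
    exact ⟨_, ⟨_, h1, rfl⟩, (((hasMat_ofO A).isInduced_iff β).1 h2).symm⟩
  · rintro ⟨_, ⟨g, hg, rfl⟩, rfl⟩
    obtain ⟨A, rfl⟩ := (isoEquiv Q).surjective g
    exact ⟨A, hg, ((hasMat_ofO A).isInduced_iff _).2 rfl⟩

lemma poAut_eq : Cfsg.poAut F ⇑Q = (OO Q).map (actP Q) :=
  autSubgroupOf_eq_map _ fun β => by
    rw [OO, MonoidHom.range_eq_map, ← iso_induced_iff]
    simp [Cfsg.IsIsometryInducedAutPOmega]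

variable (Q) in
/-- isometries of determinant one -/
noncomputable def SOG {V : Type*} [AddCommGroup V] [Module F V] (Q : QuadraticForm F V) :
    Subgroup (OG Q) := (LinearEquiv.det.comp (OG Q).subtype).ker

lemma mem_SOG {V : Type*} [AddCommGroup V] [Module F V] {Q : QuadraticForm F V} {g : OG Q} :
    g ∈ SOG Q ↔ LinearMap.det g.1.toLinearMap = 1 := by
  rw [SOG, MonoidHom.mem_ker, ← Units.val_eq_one]
  simp

lemma psoAut_eq : Cfsg.psoAut F ⇑Q = ((SOG Q).map (SS.ofO Q)).map (actP Q) :=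
  autSubgroupOf_eq_map _ fun β => by
    rw [← iso_induced_iff]
    constructor
    · rintro ⟨A, ⟨h1, h2⟩, h3⟩
      refine ⟨⟨A, h1⟩, ?_, h3⟩
      rw [mem_SOG, ← det_eq]
      exact congrArg Units.val h2
    · rintro ⟨A, h1, h2⟩
      rw [mem_SOG, ← det_eq] at h1
      exact ⟨A, ⟨A.2, Units.ext h1⟩, h2⟩

lemma inn_eq : Cfsg.Inn (Cfsg.POmega F ⇑Q) = (OmS Q).map (actP Q) := by
  have key : ∀ s : Cfsg.Omega F ⇑Q, actP Q (SS.ofO Q (omEquiv Q s)) =
      MulAut.conj (QuotientGroup.mk s : Cfsg.POmega F ⇑Q) := fun s => by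
    ext x
    rw [actP_apply, act_ofO, ← pomEquiv_mk, MulEquiv.symm_apply_eq]
    simp
  ext β
  constructor
  · rintro ⟨x, rfl⟩
    induction x using QuotientGroup.induction_on with
    | H s => exact ⟨_, ⟨_, (omEquiv Q s).2, rfl⟩, key s⟩
  · rintro ⟨_, ⟨g, hg, rfl⟩, rfl⟩
    refine ⟨_, (key ((omEquiv Q).symm ⟨g, hg⟩)).symm.trans ?_⟩
    simp

lemma actP_sc (l : Fˣ) : actP Q (SS.sc Q l) = 1 := actP_eq_one_iff.2 (act_sc l)

variable [Finite F]

lemma ker_actP (hQ : ND Q) (h : 5 ≤ Fintype.card ι) : (actP Q).ker = ZS Q := by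
  ext g
  rw [MonoidHom.mem_ker, actP_eq_one_iff, act_eq_one_iff hQ (by simpa using h)]
  exact exists_congr fun _ => eq_comm

lemma comap_inn (hQ : ND Q) (h : 5 ≤ Fintype.card ι) :
    (Cfsg.Inn (Cfsg.POmega F ⇑Q)).comap (actP Q) = KS Q := by
  rw [inn_eq, Subgroup.comap_map_eq, ker_actP hQ h, KS]

lemma inn_eq_KS : Cfsg.Inn (Cfsg.POmega F ⇑Q) = (KS Q).map (actP Q) := by
  rw [KS, Subgroup.map_sup, inn_eq, eq_comm, sup_eq_left]
  rintro _ ⟨_, ⟨l, rfl⟩, rfl⟩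
  rw [actP_sc]; exact one_mem _

theorem actP_surjective (hQ : ND Q) (h7 : 7 ≤ Fintype.card ι)
    (h : Fintype.card ι = 8 → ¬ PlusType Q) : Function.Surjective (actP Q) :=
  (MulAut.congr (pomEquiv Q)).symm.surjective.comp
    (act_surjective hQ (by simpa using h7) (by simpa using h))

theorem actP_surjective_QO {m : ℕ} (h2 : (2 : F) ≠ 0) (hm : 3 ≤ m) :
    Function.Surjective (actP (QO F m)) :=
  actP_surjective (nd_QO h2) (by simp; omega) (by simp; omega)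

theorem actP_surjective_QP {m : ℕ} (hm : 5 ≤ m) : Function.Surjective (actP (QP F m)) :=
  actP_surjective (nd_QP m) (by simp; omega) (by simp; omega)

theorem actP_surjective_QM {m : ℕ} (hm : 3 ≤ m) {a b : F}
    (hab : ∀ z₁ z₂ : F, z₁ ^ 2 + a * z₁ * z₂ + b * z₂ ^ 2 = 0 → z₁ = 0 ∧ z₂ = 0) :
    Function.Surjective (actP (QM F m a b)) :=
  actP_surjective (nd_QM (disc_ne_zero_of_aniso hab)) (by simp; omega)
    fun _ => not_plusType_QM hab

end matrices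

end Cfsg.Agent.H7
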