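import Cfsg.Agent.H7.PCentral

/-!
Automorphisms of `PΩ` that respect meeting of long root lines are induced by semisimilarities.
-/

set_option autoImplicit false

namespace Cfsg.Agent.H7

open QuadraticMap Module

variable {F V : Type*} [Field F] [AddCommGroup V] [Module F V] {Q : QuadraticForm F V}

/-- `α` maps the class of `s` to the class of `s'` -/
def Cor (α : MulAut (POm Q)) (s s' : Om Q) : Prop := α (pm Q s) = pm Q s'

variable {α β : MulAut (POm Q)}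

lemma Cor.symm {s s' : Om Q} (h : Cor α s s') : Cor α⁻¹ s' s := by
  rw [Cor, ← h, MulAut.inv_apply_self]

lemma Cor.mul {s s' t t' : Om Q} (h : Cor α s s') (h' : Cor α t t') : Cor α (s * t) (s' * t') := by
  rw [Cor, map_mul, map_mul, h, h', map_mul]

lemma Cor.inv {s s' : Om Q} (h : Cor α s s') : Cor α s⁻¹ s'⁻¹ := by
  rw [Cor, map_inv, map_inv, h, map_inv]

lemma Cor.comp {s s' s'' : Om Q} (h : Cor α s s') (h' : Cor β s' s'') : Cor (β * α) s s'' := by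
  rw [Cor, MulAut.mul_apply, h, h']

lemma Cor.pm_eq {s s' s'' : Om Q} (h : Cor α s s') (h' : Cor α s s'') : pm Q s' = pm Q s'' :=
  (Eq.symm h).trans h'

lemma cor_one : Cor α 1 1 := by rw [Cor, map_one, map_one]

lemma cor_act (g : SS Q) (s : Om Q) : Cor (act Q g) s (actOm Q g s) := rfl

lemma exists_cor (α : MulAut (POm Q)) (s : Om Q) : ∃ s', Cor α s s' :=
  (QuotientGroup.mk'_surjective _ (α (pm Q s))).imp fun _ h => h.symm

/-- `α` maps long root elements with meeting lines to such -/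
def MeetPres (α : MulAut (POm Q)) : Prop :=
  ∀ s t s' t' : Om Q, LR s.1 → LR t.1 → LR s'.1 → LR t'.1 → Cor α s s' → Cor α t t' →
    Meet s.1 t.1 → Meet s'.1 t'.1

/-- `α` maps the singular point of `e` to the point of `e'` -/
def PC (α : MulAut (POm Q)) (e e' : V) : Prop :=
  Q e = 0 ∧ e ≠ 0 ∧ e' ≠ 0 ∧
    ∀ s s' : Om Q, LR s.1 → LR s'.1 → Cor α s s' → e ∈ movS s.1 → e' ∈ movS s'.1

lemma PC.smul_right {e e' : V} (h : PC α e e') {a : F} (ha : a ≠ 0) : PC α e (a • e') :=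
  ⟨h.1, h.2.1, smul_ne_zero ha h.2.2.1, fun s s' h1 h2 h3 h4 =>
    Submodule.smul_mem _ _ (h.2.2.2 s s' h1 h2 h3 h4)⟩

lemma PC.smul_left {e e' : V} (h : PC α e e') {a : F} (ha : a ≠ 0) : PC α (a • e) e' :=
  ⟨by rw [Q_smul, h.1, mul_zero], smul_ne_zero ha h.2.1, h.2.2.1, fun s s' h1 h2 h3 h4 =>
    h.2.2.2 s s' h1 h2 h3 ((Submodule.smul_mem_iff _ ha).1 h4)⟩

lemma PC.map {e e' : V} (h : PC α e e') {g g' : Om Q} (hg : Cor α g g') :
    PC α (g.1.1 e) (g'.1.1 e') := by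
  refine ⟨by simp [h.1], by simpa using h.2.1, by simpa using h.2.2.1,
    fun s s' h1 h2 h3 h4 => ?_⟩
  have := h.2.2.2 (g⁻¹ * s * g⁻¹⁻¹) (g'⁻¹ * s' * g'⁻¹⁻¹) (h1.conj _) (h2.conj _)
    ((hg.inv.mul h3).mul hg.inv.inv) (by
      change e ∈ movS (g.1⁻¹ * s.1 * g.1⁻¹⁻¹)
      rwa [movS_conj, mem_img, inv_inv])
  change e' ∈ movS (g'.1⁻¹ * s'.1 * g'.1⁻¹⁻¹) at this
  rwa [movS_conj, mem_img, inv_inv] at this

lemma LR.actO {s : OG Q} (h : LR s) (g : SS Q) : LR (SS.actO Q g s) := by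
  obtain ⟨e, f, he, hef, hf, he0, hfe, rfl⟩ := h
  refine ⟨_, _, _, _, by simp [g.map_Q, hf],
    smul_ne_zero (inv_ne_zero g.c.ne_zero) (g.apply_ne_zero he0), ?_, SS.actO_siegel g he hef⟩
  intro hm
  obtain ⟨a, ha⟩ := Submodule.mem_span_singleton.1 hm
  apply hfe
  refine Submodule.mem_span_singleton.2 ⟨g.σ.symm (a * (g.c : F)⁻¹), g.γ.injective ?_⟩
  rw [g.map_smul, RingEquiv.apply_symm_apply, mul_smul, ha]

lemma mem_movS_actO {s : OG Q} (g : SS Q) {x : V} (hx : x ∈ movS s) :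
    g.γ x ∈ movS (SS.actO Q g s) := by
  obtain ⟨y, rfl⟩ := mem_movS.1 hx
  exact mem_movS.2 ⟨g.γ y, by rw [SS.actO_apply', map_sub]⟩

variable [FiniteDimensional F V] [Finite F]

/-- Siegel transformations as elements of `Ω` -/
def sgO (hQ : ND Q) (h : 7 ≤ finrank F V) (e w : V) (he : Q e = 0) (hw : polar Q e w = 0) : Om Q :=
  ⟨siegel e w he hw, siegel_mem_Om hQ (by omega) he hw⟩

section
variable (hQ : ND Q) (h7 : 7 ≤ finrank F V)
include hQ h7

lemma eq_of_pm_eq3 {s t u : Om Q} (hs : finrank F (movS s.1) ≤ 2) (ht : finrank F (movS t.1) ≤ 2)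
    (hu : finrank F (movS u.1) ≤ 2) (h : pm Q (s * t) = pm Q u) : s * t = u := by
  obtain ⟨v, hv0, h1, h2, h3⟩ := exists_fix3 hQ h7 hs ht hu
  exact eq_of_pm_eq hQ (by omega) h hv0 (by simp [h1, h2]) h3

omit hQ h7 [FiniteDimensional F V] [Finite F] in
lemma rk_one_le : finrank F (movS (1 : Om Q).1) ≤ 2 := (rk_one (Q := Q)).le.trans (by norm_num)

lemma lr_unique {s t : Om Q} (hs : LR s.1) (ht : LR t.1) (h : pm Q s = pm Q t) : s = t := by
  simpa using eq_of_pm_eq3 hQ h7 (hs.rk_eq hQ).le rk_one_le (ht.rk_eq hQ).le (by simpa using h)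

lemma exists_lr (α : MulAut (POm Q)) {s : Om Q} (hs : LR s.1) : ∃ s', LR s'.1 ∧ Cor α s s' := by
  have : Finite V := Module.finite_of_finite F
  have : Finite (V ≃ₗ[F] V) := Finite.of_injective _ DFunLike.coe_injective
  obtain ⟨p, hp⟩ := CharP.exists F
  have : Fact p.Prime := ⟨CharP.char_is_prime F p⟩
  have h1 : H6.PCentral p (pm Q s) :=
    ((pCentral_iff hQ (by omega) s).2 (Or.inl hs)).map_surjective (QuotientGroup.mk'_surjective _)
  obtain ⟨s', h2, h3⟩ := ((H6.pCentral_aut_iff α _).2 h1).exists_lift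
    (QuotientGroup.mk'_surjective (Subgroup.center (Om Q))) (fun z hz k hk => by
      obtain ⟨l, hl⟩ := (mem_center_Om_iff hQ (by omega)).1 ((QuotientGroup.eq_one_iff z).1 hz)
      obtain ⟨e, he0, -⟩ := exists_sing_of_three_le Q (by omega)
      have h4 : ∀ n : ℕ, (z ^ n).1.1 e = l ^ n • e := fun n => by
        induction n with
        | zero => simp
        | succ n ih => rw [pow_succ', pow_succ', mul_smul, ← ih, ← hl]; rfl
      have h5 := h4 (p ^ k)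
      rw [hk] at h5
      have h6 : l ^ p ^ k = 1 := (smul_left_injective F he0 (by simpa using h5)).symm
      have h7 : (l - 1) ^ p ^ k = 0 := by rw [sub_pow_char_pow, h6, one_pow, sub_self]
      have h8 := sub_eq_zero.1 (pow_eq_zero_iff (pow_ne_zero k (Fact.out : p.Prime).ne_zero) |>.1 h7)
      exact Subtype.ext (OG.ext' fun x => by simp [hl, h8]))
  refine ⟨s', ((pCentral_iff hQ (by omega) s').1 h2).resolve_right fun h4 => ?_, h3.symm⟩
  have h5 : s' = 1 := Subtype.ext h4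
  rw [h5, map_one, eq_comm, EmbeddingLike.map_eq_one_iff] at h3
  have := eq_of_pm_eq3 hQ h7 (hs.rk_eq hQ).le rk_one_le rk_one_le (by simpa using h3)
  exact hs.ne_one hQ (by simpa using congrArg Subtype.val this)

lemma Cor.meet_or_prp {s t s' t' : Om Q} (hs : LR s.1) (ht : LR t.1) (hs' : LR s'.1)
    (ht' : LR t'.1) (h1 : Cor α s s') (h2 : Cor α t t') (h : Meet s.1 t.1 ∨ Prp s.1 t.1) :
    Meet s'.1 t'.1 ∨ Prp s'.1 t'.1 := by
  have h3 : s * t = t * s :=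
    Subtype.ext (h.elim (commute_of_meet hQ hs ht) (commute_of_prp hQ ht))
  obtain ⟨v, hv0, h4, h5, -⟩ := exists_fix3 hQ h7 (hs'.rk_eq hQ).le (ht'.rk_eq hQ).le rk_one_le
  have h6 := eq_of_pm_eq hQ (by omega) ((h1.mul h2).pm_eq (h3 ▸ h2.mul h1)) hv0
    (by simp [h4, h5]) (by simp [h4, h5])
  exact meet_or_prp_of_commute (congrArg Subtype.val h6)

lemma Cor.meet_prp {s t s' t' : Om Q} (hs : LR s.1) (ht : LR t.1) (hs' : LR s'.1)
    (ht' : LR t'.1) (h1 : Cor α s s') (h2 : Cor α t t') (h : Meet s.1 t.1 ∧ Prp s.1 t.1) :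
    Meet s'.1 t'.1 ∧ Prp s'.1 t'.1 := by
  apply meet_prp_of_rl hQ hs' ht'
  rcases rl_of_meet_prp hQ hs ht h.1 h.2 with h3 | h3
  · obtain ⟨u, hu, h4⟩ := exists_lr hQ h7 α (s := s * t) h3
    left
    have := eq_of_pm_eq3 hQ h7 (hs'.rk_eq hQ).le (ht'.rk_eq hQ).le (hu.rk_eq hQ).le
      ((h1.mul h2).pm_eq h4)
    exact (congrArg Subtype.val this ▸ hu :)
  · right
    have h4 : s * t = 1 := Subtype.ext h3
    exact congrArg Subtype.val (eq_of_pm_eq3 hQ h7 (hs'.rk_eq hQ).le (ht'.rk_eq hQ).le rk_one_le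
      ((h1.mul h2).pm_eq (by rw [h4]; exact cor_one)))

omit [Finite F] h7 in
lemma ts_sup_of_prp {s t : OG Q} (hs : LR s) (ht : LR t) (h : Prp s t) :
    TS Q (movS s ⊔ movS t) := by
  intro x hx
  obtain ⟨a, ha, b, hb, rfl⟩ := Submodule.mem_sup.1 hx
  rw [Q_add, hs.ts hQ a ha, ht.ts hQ b hb, h a ha b hb]; ring

omit [Finite F] [FiniteDimensional F V] hQ h7 in
lemma inf_eq_bot_of_not_meet {s t : OG Q} (h : ¬ Meet s t) : movS s ⊓ movS t = ⊥ := by
  rw [eq_bot_iff]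
  rintro x ⟨h1, h2⟩
  by_contra h0
  exact h ⟨x, h0, h1, h2⟩

theorem meetPres_of_index (h : ∀ U, TS Q U → finrank F U ≤ 3) (α : MulAut (POm Q)) :
    MeetPres α := by
  intro s t s' t' hs ht hs' ht' h1 h2 h3
  by_contra hm
  have h4 := h _ (ts_sup_of_prp hQ hs' ht'
    ((Cor.meet_or_prp hQ h7 hs ht hs' ht' h1 h2 (Or.inl h3)).resolve_left hm))
  have h5 := Submodule.finrank_sup_add_finrank_inf_eq (movS s'.1) (movS t'.1)
  rw [inf_eq_bot_of_not_meet hm, finrank_bot, hs'.rk_eq hQ, ht'.rk_eq hQ] at h5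
  omega

omit [Finite F] in
lemma lr_sgO {e w : V} (he : Q e = 0) (hw : polar Q e w = 0) (hw0 : Q w = 0) (he0 : e ≠ 0)
    (hwe : w ∉ F ∙ e) : LR (sgO hQ h7 e w he hw).1 := ⟨e, w, he, hw, hw0, he0, hwe, rfl⟩

omit [Finite F] in
lemma movS_sgO {e w : V} (he : Q e = 0) (hw : polar Q e w = 0) (hw0 : Q w = 0) (he0 : e ≠ 0)
    (hwe : w ∉ F ∙ e) : movS (sgO hQ h7 e w he hw).1 = Submodule.span F {e, w} :=
  movS_siegel hQ he hw hw0 he0 hwe

omit hQ h7 [Finite F] [FiniteDimensional F V] in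
lemma notMem_span_of_B {e f w : V} (hef : polar Q e f = 1) (hw0 : w ≠ 0) (hw : polar Q w f = 0) :
    w ∉ F ∙ e := by
  intro hm
  obtain ⟨a, rfl⟩ := Submodule.mem_span_singleton.1 hm
  rw [B_smul_left, hef, mul_one] at hw
  exact hw0 (by rw [hw, zero_smul])

omit h7 in
lemma exists_config3 (h : 3 ≤ finrank F V) : ∃ g : Fin 3 → V, (∀ i, Q (g i) = 0) ∧
    ∀ i j, i ≠ j → polar Q (g i) (g j) ≠ 0 := by
  obtain ⟨e, f, he, hf, hef⟩ := exists_hyp_pair hQ h
  obtain ⟨z, hz, hz0⟩ := exists_nonsing ((hypSys_one he hf hef).nd_hperp' hQ) (by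
    intro h0
    have := finrank_hp1 he hf hef
    rw [show hp1 Q e f = ⊥ from h0, finrank_bot] at this
    omega)
  obtain ⟨h1, h2⟩ := mem_hp1.1 hz
  have a1 : polar Q e (e + z - Q z • f) = - Q z := by
    qsimp; rw [he, hef, B_comm, h1]; ring
  have a2 : polar Q f (e + z - Q z • f) = 1 := by
    qsimp; rw [hf, B_comm, hef, B_comm, h2]; ring
  refine ⟨![e, f, e + z - Q z • f], fun i => ?_, fun i j hij => ?_⟩
  · fin_cases i
    · exact he
    · exact hf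
    · change Q (e + z - Q z • f) = 0
      qsimp; rw [he, hf, hef, h2, B_comm Q e z, h1]; ring
  · fin_cases i <;> fin_cases j <;> first | exact absurd rfl hij | skip
    · simp [hef]
    · change polar Q e _ ≠ 0
      simpa only [Fin.reduceFinMk, Matrix.cons_val, a1, ne_eq, neg_eq_zero] using hz0
    · simp [B_comm Q f e, hef]
    · change polar Q f (e + z - Q z • f) ≠ 0
      rw [a2]; exact one_ne_zero
    · change polar Q (e + z - Q z • f) e ≠ 0
      rw [B_comm, a1]; exact neg_ne_zero.2 hz0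
    · change polar Q (e + z - Q z • f) f ≠ 0
      rw [B_comm, a2]; exact one_ne_zero

omit h7 in
lemma exists_config5 (h : 5 ≤ finrank F V) : ∃ (g₀ : V) (g : Fin 3 → V), g₀ ≠ 0 ∧ Q g₀ = 0 ∧
    (∀ i, Q (g i) = 0) ∧ (∀ i, polar Q g₀ (g i) = 0) ∧
    ∀ i j, i ≠ j → polar Q (g i) (g j) ≠ 0 := by
  obtain ⟨e, f, he, hf, hef⟩ := exists_hyp_pair hQ (by omega)
  have hd := finrank_hp1 he hf hef
  obtain ⟨g, h1, h2⟩ := exists_config3 (nd_hp1 hQ he hf hef) (by omega)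
  exact ⟨e, fun i => g i, by rintro rfl; simp at hef, he, h1,
    fun i => by rw [B_comm]; exact (mem_hp1.1 (g i).2).1,
    fun i j hij => by rw [← polar_restrict]; exact h2 i j hij⟩

lemma exists_config7 {e : V} (he : Q e = 0) (he0 : e ≠ 0) : ∃ (g₀ : V) (g : Fin 3 → V),
    g₀ ∉ F ∙ e ∧ (∀ i, g i ∉ F ∙ e) ∧ Q g₀ = 0 ∧ (∀ i, Q (g i) = 0) ∧ polar Q e g₀ = 0 ∧
    (∀ i, polar Q e (g i) = 0) ∧ (∀ i, polar Q g₀ (g i) = 0) ∧
    ∀ i j, i ≠ j → polar Q (g i) (g j) ≠ 0 := by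
  obtain ⟨f, hf, hef⟩ := exists_hyp_partner hQ he0 he
  have hd := finrank_hp1 he hf hef
  obtain ⟨g₀, g, h0, h1, h2, h3, h4⟩ := exists_config5 (nd_hp1 hQ he hf hef) (by omega)
  simp only [polar_restrict] at h3 h4
  refine ⟨g₀, fun i => g i, notMem_span_of_B hef (by simpa using h0) (mem_hp1.1 g₀.2).2,
    fun i => notMem_span_of_B hef (fun h5 => ?_) (mem_hp1.1 (g i).2).2, h1, h2,
    by rw [B_comm]; exact (mem_hp1.1 g₀.2).1, fun i => by rw [B_comm]; exact (mem_hp1.1 (g i).2).1,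
    h3, h4⟩
  exact h4 i (i + 1) (by fin_cases i <;> decide) (by rw [show (g i : V) = 0 from h5, polar_zero_left])

omit h7 in
lemma exists_config9 (h9 : 9 ≤ finrank F V) {e y z : V} (he : Q e = 0) (he0 : e ≠ 0)
    (hy : Q y = 0) (hz : Q z = 0) (hey : polar Q e y = 0) (hez : polar Q e z = 0)
    (hyz : polar Q y z ≠ 0) : ∃ (g₀ : V) (g : Fin 3 → V),
    g₀ ∉ F ∙ e ∧ (∀ i, g i ∉ F ∙ e) ∧ Q g₀ = 0 ∧ (∀ i, Q (g i) = 0) ∧ polar Q e g₀ = 0 ∧
    (∀ i, polar Q e (g i) = 0) ∧ (∀ i, polar Q g₀ (g i) = 0) ∧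
    (∀ i j, i ≠ j → polar Q (g i) (g j) ≠ 0) ∧ polar Q g₀ y = 0 ∧ polar Q g₀ z = 0 ∧
    (∀ i, polar Q (g i) y = 0) ∧ ∀ i, polar Q (g i) z = 0 := by
  have hz' : Q ((polar Q y z)⁻¹ • z) = 0 := by rw [Q_smul, hz, mul_zero]
  have hyz' : polar Q y ((polar Q y z)⁻¹ • z) = 1 := by rw [B_smul_right, inv_mul_cancel₀ hyz]
  have hd := finrank_hp1 hy hz' hyz'
  have hem : e ∈ hp1 Q y ((polar Q y z)⁻¹ • z) :=
    mem_hp1.2 ⟨hey, by rw [B_smul_right, hez, mul_zero]⟩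
  have pz : ∀ x : hp1 Q y ((polar Q y z)⁻¹ • z), polar Q x z = 0 := fun x => by
    have := (mem_hp1.1 x.2).2
    rw [B_smul_right] at this
    exact (mul_eq_zero.1 this).resolve_left (inv_ne_zero hyz)
  have py : ∀ x : hp1 Q y ((polar Q y z)⁻¹ • z), polar Q x y = 0 := fun x => (mem_hp1.1 x.2).1
  have hnd := nd_hp1 hQ hy hz' hyz'
  generalize hp1 Q y ((polar Q y z)⁻¹ • z) = W at *
  obtain ⟨g₀, g, c1, c2, c3, c4, c5, c6, c7, c8⟩ := exists_config7 hnd
    (by omega) (e := ⟨e, hem⟩) he (fun h => he0 (congrArg Subtype.val h))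
  simp only [polar_restrict] at c5 c6 c7 c8
  have nm : ∀ {x : W}, x ∉ F ∙ (⟨e, hem⟩ : W) → (x : V) ∉ F ∙ e := fun hx hm => by
    obtain ⟨a, ha⟩ := Submodule.mem_span_singleton.1 hm
    exact hx (Submodule.mem_span_singleton.2 ⟨a, Subtype.ext ha⟩)
  exact ⟨g₀, fun i => g i, nm c1, fun i => nm (c2 i), c3, c4, c5, c6, c7, c8, py _, pz _,
    fun i => py _, fun i => pz _⟩

omit [Finite F] h7 in
lemma meet_prp_siegel {e a b : V} (he : Q e = 0) (he0 : e ≠ 0) (ha : Q a = 0) (hb : Q b = 0)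
    (hea : polar Q e a = 0) (heb : polar Q e b = 0) (hae : a ∉ F ∙ e) (hbe : b ∉ F ∙ e) :
    Meet (siegel e a he hea) (siegel e b he heb) ∧ Prp (siegel e a he hea) (siegel e b he heb) ↔
      polar Q a b = 0 := by
  rw [Meet, Prp, movS_siegel hQ he hea ha he0 hae, movS_siegel hQ he heb hb he0 hbe]
  constructor
  · exact fun h => h.2 a (Submodule.subset_span (by simp)) b (Submodule.subset_span (by simp))
  · intro h
    refine ⟨⟨e, he0, Submodule.subset_span (by simp), Submodule.subset_span (by simp)⟩,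
      fun x hx y hy => ?_⟩
    obtain ⟨c, d, rfl⟩ := Submodule.mem_span_pair.1 hx
    obtain ⟨c', d', rfl⟩ := Submodule.mem_span_pair.1 hy
    qsimp; rw [he, heb, B_comm Q a e, hea, h]; ring

omit [Finite F] h7 in
lemma grid_lemma {s t u : OG Q} {v : Fin 3 → OG Q} (hs : LR s) (ht : LR t) (hu : LR u)
    (hv : ∀ i, LR (v i)) (h1 : ¬ Meet s t) (h2 : Prp s t) (h3 : Meet u s) (h4 : Meet u t)
    (h5 : ∀ i, Meet (v i) s) (h6 : ∀ i, Meet (v i) t) (h8 : ∀ i, Meet u (v i)) :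
    ∃ i j, i ≠ j ∧ Meet (v i) (v j) ∧ Prp (v i) (v j) := by
  have hb := inf_eq_bot_of_not_meet h1
  have key : ∀ {w}, LR w → Meet w s → Meet w t → ∃ a b, a ≠ 0 ∧ b ≠ 0 ∧ a ∈ movS s ∧ b ∈ movS t ∧
      movS w = Submodule.span F {a, b} := by
    rintro w hw ⟨a, ha0, ha, ha'⟩ ⟨b, hb0, hb1, hb'⟩
    refine ⟨a, b, ha0, hb0, ha', hb', hw.movS_eq hQ ha hb1 ha0 fun hm => ?_⟩
    exact h1 ⟨b, hb0, (Submodule.span_singleton_le_iff_mem _ _).2 ha' hm, hb'⟩
  obtain ⟨a, b, ha0, hb0, ha, hb', hab⟩ := key hu h3 h4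
  have k2 : ∀ i, movS (v i) ≤ movS s ⊔ movS t ∧ (a ∈ movS (v i) ∨ b ∈ movS (v i)) := fun i => by
    obtain ⟨c, d, hc0, hd0, hc, hd, hcd⟩ := key (hv i) (h5 i) (h6 i)
    obtain ⟨x, hx0, hx1, hx2⟩ := h8 i
    rw [hab] at hx1
    rw [hcd] at hx2 ⊢
    refine ⟨Submodule.span_le.2 ?_, ?_⟩
    · rintro _ (rfl | rfl)
      · exact Submodule.mem_sup_left hc
      · exact Submodule.mem_sup_right hd
    obtain ⟨p, q, rfl⟩ := Submodule.mem_span_pair.1 hx1
    obtain ⟨p', q', h9⟩ := Submodule.mem_span_pair.1 hx2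
    have h10 : p • a - p' • c ∈ movS s ⊓ movS t := by
      refine ⟨sub_mem (Submodule.smul_mem _ _ ha) (Submodule.smul_mem _ _ hc), ?_⟩
      rw [show p • a - p' • c = q' • d - q • b by linear_combination (norm := module) -h9]
      exact sub_mem (Submodule.smul_mem _ _ hd) (Submodule.smul_mem _ _ hb')
    rw [hb, Submodule.mem_bot, sub_eq_zero] at h10
    by_cases hp : p = 0
    · right
      have hq : q ≠ 0 := by rintro rfl; simp [hp] at hx0
      rw [← Submodule.smul_mem_iff _ hq]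
      simpa [hp] using hx2
    · left
      rw [← Submodule.smul_mem_iff _ hp, h10]
      exact Submodule.smul_mem _ _ (Submodule.subset_span (by simp))
  have k3 : ∀ i j, Prp (v i) (v j) := fun i j x hx y hy =>
    (ts_sup_of_prp hQ hs ht h2).polar_eq ((k2 i).1 hx) ((k2 j).1 hy)
  rcases (k2 0).2 with a0 | a0 <;> rcases (k2 1).2 with a1 | a1 <;> rcases (k2 2).2 with a2 | a2
  all_goals first
    | exact ⟨0, 1, by decide, ⟨_, ha0, a0, a1⟩, k3 _ _⟩
    | exact ⟨0, 1, by decide, ⟨_, hb0, a0, a1⟩, k3 _ _⟩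
    | exact ⟨0, 2, by decide, ⟨_, ha0, a0, a2⟩, k3 _ _⟩
    | exact ⟨0, 2, by decide, ⟨_, hb0, a0, a2⟩, k3 _ _⟩
    | exact ⟨1, 2, by decide, ⟨_, ha0, a1, a2⟩, k3 _ _⟩
    | exact ⟨1, 2, by decide, ⟨_, hb0, a1, a2⟩, k3 _ _⟩

theorem meetPres_of_nine (h9 : 9 ≤ finrank F V) (α : MulAut (POm Q)) : MeetPres α := by
  intro s t s' t' hs ht hs' ht' h1 h2 h3
  by_contra hm
  have h4 := (Cor.meet_or_prp hQ h7 hs ht hs' ht' h1 h2 (Or.inl h3)).resolve_left hm
  have h5 : ¬ Prp s.1 t.1 := fun h => hm (Cor.meet_prp hQ h7 hs ht hs' ht' h1 h2 ⟨h3, h⟩).1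
  obtain ⟨e, he0, h6, h8⟩ := h3
  obtain ⟨y, he, hey, hy, hye, es⟩ := hs.exists_eq hQ h6 he0
  obtain ⟨z, he', hez, hz, hze, et⟩ := ht.exists_eq hQ h8 he0
  have hyz : polar Q y z ≠ 0 := fun h => h5 (by
    rw [es, et]; exact ((meet_prp_siegel hQ he he0 hy hz hey hez hye hze).2 h).2)
  obtain ⟨g₀, g, c1, c2, c3, c4, c5, c6, c7, c8, d1, d2, d3, d4⟩ :=
    exists_config9 hQ h9 he he0 hy hz hey hez hyz
  have hu := lr_sgO hQ h7 he c5 c3 he0 c1
  have hv := fun i => lr_sgO hQ h7 he (c6 i) (c4 i) he0 (c2 i)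
  obtain ⟨u', hu', cu⟩ := exists_lr hQ h7 α hu
  choose v' hv' cv using fun i => exists_lr hQ h7 α (hv i)
  have k1 : ∀ {a b : V} (ha : Q a = 0) (hb : Q b = 0) (hea : polar Q e a = 0)
      (heb : polar Q e b = 0) (hae : a ∉ F ∙ e) (hbe : b ∉ F ∙ e) {x y x' y' : Om Q},
      x.1 = siegel e a he hea → y.1 = siegel e b he heb → LR x'.1 → LR y'.1 → Cor α x x' →
      Cor α y y' → ((Meet x'.1 y'.1 ∧ Prp x'.1 y'.1) ↔ polar Q a b = 0) := by
    intro a b ha hb hea heb hae hbe x y x' y' ex ey lx ly cx cy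
    have lx0 : LR x.1 := ⟨e, a, he, hea, ha, he0, hae, ex⟩
    have ly0 : LR y.1 := ⟨e, b, he, heb, hb, he0, hbe, ey⟩
    rw [← meet_prp_siegel hQ he he0 ha hb hea heb hae hbe, ← ex, ← ey]
    exact ⟨Cor.meet_prp hQ h7 lx ly lx0 ly0 cx.symm cy.symm,
      Cor.meet_prp hQ h7 lx0 ly0 lx ly cx cy⟩
  obtain ⟨i, j, hij, h10⟩ := grid_lemma hQ hs' ht' hu' hv' hm h4
    ((k1 c3 hy c5 hey c1 hye rfl es hu' hs' cu h1).2 d1).1
    ((k1 c3 hz c5 hez c1 hze rfl et hu' ht' cu h2).2 d2).1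
    (fun i => ((k1 (c4 i) hy (c6 i) hey (c2 i) hye rfl es (hv' i) hs' (cv i) h1).2 (d3 i)).1)
    (fun i => ((k1 (c4 i) hz (c6 i) hez (c2 i) hze rfl et (hv' i) ht' (cv i) h2).2 (d4 i)).1)
    (fun i => ((k1 c3 (c4 i) c5 (c6 i) c1 (c2 i) rfl rfl hu' (hv' i) cu (cv i)).2 (c7 i)).1)
  exact c8 i j hij ((k1 (c4 i) (c4 j) (c6 i) (c6 j) (c2 i) (c2 j) rfl rfl (hv' i) (hv' j) (cv i)
    (cv j)).1 h10)

/-- two non-perpendicular long root lines through a singular point -/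
lemma exists_two_lines {e : V} (he : Q e = 0) (he0 : e ≠ 0) :
    ∃ s t : Om Q, LR s.1 ∧ LR t.1 ∧ e ∈ movS s.1 ∧ e ∈ movS t.1 ∧ ¬ Prp s.1 t.1 ∧
      ∀ x, x ∈ movS s.1 → x ∈ movS t.1 → x ∈ F ∙ e := by
  obtain ⟨f, hf, hef⟩ := exists_hyp_partner hQ he0 he
  have hd := finrank_hp1 he hf hef
  obtain ⟨y, z, hy, hz, hyz⟩ := exists_hyp_pair (nd_hp1 hQ he hf hef) (by omega)
  rw [polar_restrict] at hyz
  have hy0 : (y : V) ≠ 0 := by intro h0; simp [h0] at hyz
  have hz0 : (z : V) ≠ 0 := by intro h0; simp [h0] at hyz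
  have hey : polar Q e y = 0 := by rw [B_comm]; exact (mem_hp1.1 y.2).1
  have hez : polar Q e z = 0 := by rw [B_comm]; exact (mem_hp1.1 z.2).1
  have hye := notMem_span_of_B hef hy0 (mem_hp1.1 y.2).2
  have hze := notMem_span_of_B hef hz0 (mem_hp1.1 z.2).2
  refine ⟨sgO hQ h7 e y he hey, sgO hQ h7 e z he hez, lr_sgO hQ h7 he hey hy he0 hye,
    lr_sgO hQ h7 he hez hz he0 hze, ?_⟩
  rw [Prp, movS_sgO hQ h7 he hey hy he0 hye, movS_sgO hQ h7 he hez hz he0 hze]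
  refine ⟨Submodule.subset_span (by simp), Submodule.subset_span (by simp), fun h => ?_,
    fun x h1 h2 => ?_⟩
  · have := h y (Submodule.subset_span (by simp)) z (Submodule.subset_span (by simp))
    rw [hyz] at this; exact one_ne_zero this
  · obtain ⟨a, b, rfl⟩ := Submodule.mem_span_pair.1 h1
    obtain ⟨c, d, h3⟩ := Submodule.mem_span_pair.1 h2
    have h4 := congrArg (fun x => polar Q x z) h3
    simp only [polar_add_left, B_smul_left, hez, hyz, B_self] at h4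
    change Q z = 0 at hz
    have : b = 0 := by rw [hz] at h4; linear_combination -h4
    rw [this, zero_smul, add_zero]
    exact Submodule.smul_mem _ _ (Submodule.mem_span_singleton_self e)

lemma mem_span_of_lines {e x : V} (he : Q e = 0) (he0 : e ≠ 0)
    (h : ∀ s : Om Q, LR s.1 → e ∈ movS s.1 → x ∈ movS s.1) : x ∈ F ∙ e := by
  obtain ⟨s, t, hs, ht, h1, h2, -, h3⟩ := exists_two_lines hQ h7 he he0
  exact h3 x (h s hs h1) (h t ht h2)

lemma PC.sing {e e' : V} (h : PC α e e') : Q e' = 0 := by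
  obtain ⟨s, -, hs, -, h1, -⟩ := exists_two_lines hQ h7 h.1 h.2.1
  obtain ⟨s', hs', h2⟩ := exists_lr hQ h7 α hs
  exact hs'.ts hQ _ (h.2.2.2 s s' hs hs' h2 h1)

lemma exists_pc (hα : MeetPres α) {e : V} (he : Q e = 0) (he0 : e ≠ 0) : ∃ e', PC α e e' := by
  obtain ⟨s, t, hs, ht, h1, h2, h3, -⟩ := exists_two_lines hQ h7 he he0
  obtain ⟨s', hs', h4⟩ := exists_lr hQ h7 α hs
  obtain ⟨t', ht', h5⟩ := exists_lr hQ h7 α ht
  obtain ⟨e', he0', h6, h7'⟩ := hα s t s' t' hs ht hs' ht' h4 h5 ⟨e, he0, h1, h2⟩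
  refine ⟨e', he, he0, he0', fun u u' hu hu' h8 h9 => ?_⟩
  by_contra hn
  obtain ⟨a, ha0, ha1, ha2⟩ := hα u s u' s' hu hs hu' hs' h8 h4 ⟨e, he0, h9, h1⟩
  obtain ⟨b, hb0, hb1, hb2⟩ := hα u t u' t' hu ht hu' ht' h8 h5 ⟨e, he0, h9, h2⟩
  have key : ∀ {x}, x ≠ 0 → x ∈ movS u'.1 → x ∉ F ∙ e' := fun hx0 hx hm => by
    obtain ⟨c, rfl⟩ := Submodule.mem_span_singleton.1 hm
    exact hn ((Submodule.smul_mem_iff _ (by rintro rfl; simp at hx0)).1 hx)
  refine h3 (Cor.meet_prp hQ h7 hs' ht' hs ht h4.symm h5.symm ⟨⟨e', he0', h6, h7'⟩, ?_⟩).2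
  rw [Prp, hs'.movS_eq hQ h6 ha2 he0' (key ha0 ha1), ht'.movS_eq hQ h7' hb2 he0' (key hb0 hb1)]
  intro x hx y hy
  obtain ⟨c, d, rfl⟩ := Submodule.mem_span_pair.1 hx
  obtain ⟨c', d', rfl⟩ := Submodule.mem_span_pair.1 hy
  qsimp
  rw [hs'.ts hQ _ h6, (ht'.ts hQ).polar_eq h7' hb2, (hs'.ts hQ).polar_eq ha2 h6,
    (hu'.ts hQ).polar_eq ha1 hb1]
  ring

lemma PC.symm (hα : MeetPres α⁻¹) {e e' : V} (h : PC α e e') : PC α⁻¹ e' e := by
  obtain ⟨e'', h1⟩ := exists_pc hQ h7 hα (h.sing hQ h7) h.2.2.1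
  obtain ⟨a, rfl⟩ := Submodule.mem_span_singleton.1 (mem_span_of_lines hQ h7 h.1 h.2.1
    (x := e'') fun s hs h2 => by
      obtain ⟨s', hs', h3⟩ := exists_lr hQ h7 α hs
      exact h1.2.2.2 s' s hs' hs h3.symm (h.2.2.2 s s' hs hs' h3 h2))
  have ha : a ≠ 0 := by rintro rfl; exact h1.2.2.1 (zero_smul _ _)
  simpa [ha] using h1.smul_right (inv_ne_zero ha)

lemma PC.unique (hα : MeetPres α⁻¹) {e e' e'' : V} (h : PC α e e') (h' : PC α e e'') :
    e'' ∈ F ∙ e' := by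
  refine mem_span_of_lines hQ h7 (h.sing hQ h7) h.2.2.1 fun s' hs' h1 => ?_
  obtain ⟨s, hs, h2⟩ := exists_lr hQ h7 α⁻¹ hs'
  exact h'.2.2.2 s s' hs hs' h2.symm ((h.symm hQ h7 hα).2.2.2 s' s hs' hs h2 h1)

lemma PC.unique' (hα : MeetPres α) (hα' : MeetPres α⁻¹) {e e' d : V} (h : PC α e e')
    (h' : PC α d e') : d ∈ F ∙ e :=
  (h.symm hQ h7 hα').unique hQ h7 (by rwa [inv_inv]) (h'.symm hQ h7 hα')

lemma PC.comp {e e' e'' : V} (h : PC α e e') (h' : PC β e' e'') : PC (β * α) e e'' := by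
  refine ⟨h.1, h.2.1, h'.2.2.1, fun s s'' hs hs'' h1 h2 => ?_⟩
  obtain ⟨s', hs', h3⟩ := exists_lr hQ h7 α hs
  refine h'.2.2.2 s' s'' hs' hs'' ?_ (h.2.2.2 s s' hs hs' h3 h2)
  simpa using h3.symm.comp h1

lemma pc_act (g : SS Q) {e : V} (he : Q e = 0) (he0 : e ≠ 0) : PC (act Q g) e (g.γ e) := by
  refine ⟨he, he0, g.apply_ne_zero he0, fun s s' hs hs' h1 h2 => ?_⟩
  rw [← lr_unique hQ h7 (s := actOm Q g s) (hs.actO g) hs' h1]
  exact mem_movS_actO g h2

lemma meetPres_act (g : SS Q) : MeetPres (act Q g) := by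
  rintro s t s' t' hs ht hs' ht' h1 h2 ⟨x, hx0, h3, h4⟩
  have := pc_act hQ h7 g (hs.ts hQ x h3) hx0
  exact ⟨_, this.2.2.1, this.2.2.2 s s' hs hs' h1 h3, this.2.2.2 t t' ht ht' h2 h4⟩

lemma MeetPres.mul (hα : MeetPres α) (hβ : MeetPres β) : MeetPres (β * α) := by
  intro s t s'' t'' hs ht hs'' ht'' h1 h2 h3
  obtain ⟨s', hs', h4⟩ := exists_lr hQ h7 α hs
  obtain ⟨t', ht', h5⟩ := exists_lr hQ h7 α ht
  exact hβ s' t' s'' t'' hs' ht' hs'' ht'' (by simpa using h4.symm.comp h1)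
    (by simpa using h5.symm.comp h2) (hα s t s' t' hs ht hs' ht' h4 h5 h3)

/-- An automorphism fixing all singular points is trivial. -/
lemma eq_one_of_pc (hα : MeetPres α⁻¹) (h : ∀ x, Q x = 0 → x ≠ 0 → PC α x x) : α = 1 := by
  ext y
  obtain ⟨g, rfl⟩ := QuotientGroup.mk'_surjective _ y
  obtain ⟨g', hg⟩ := exists_cor α g
  rw [hg, MulAut.one_apply, eq_comm, pm_eq_iff hQ (by omega)]
  obtain ⟨l, hl⟩ := scalar_of_fix_sing hQ (by omega) ((g.1⁻¹ * g'.1).1 : V →+ V) fun u hu => by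
    by_cases hu0 : u = 0
    · simp [hu0]
    obtain ⟨a, ha⟩ := Submodule.mem_span_singleton.1
      ((h (g.1.1 u) (by simp [hu]) (by simpa using hu0)).unique hQ h7 hα ((h u hu hu0).map hg))
    refine Submodule.mem_span_singleton.2 ⟨a, ?_⟩
    change _ = (g.1⁻¹).1 (g'.1.1 u)
    rw [← ha, map_smul, OG.inv_apply_apply]
  refine ⟨l, fun v => ?_⟩
  have := hl v
  change (g.1⁻¹).1 (g'.1.1 v) = _ at this
  rw [OG.inv_apply_eq.1 this, map_smul]

/-- An automorphism centralising `Q_e` and fixing the opposite point `f` is trivial. -/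
lemma eq_one_of_centralizes (hα : MeetPres α) (hα' : MeetPres α⁻¹) {e f : V} (he : Q e = 0)
    (hef : polar Q e f = 1) (h1 : PC α e e) (h2 : PC α f f)
    (h3 : ∀ w hw, polar Q w f = 0 → Cor α (sgO hQ h7 e w he hw) (sgO hQ h7 e w he hw)) :
    α = 1 := by
  have hf := h2.1
  have k1 : ∀ x, Q x = 0 → polar Q x e ≠ 0 → PC α x x := fun x hx hxe => by
    obtain ⟨h4, h5⟩ := mem_hp1.1 (proj_mem_hp1 he hf hef x)
    set w := x - polar Q x f • e - polar Q x e • f with hw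
    have hxw : x = polar Q x f • e + polar Q x e • f + w := by rw [hw]; module
    have hQw : Q w = - (polar Q x f * polar Q x e) := by
      rw [hxw] at hx
      revert hx
      qsimp; rw [he, hf, hef, B_comm Q e w, B_comm Q f w, h4, h5]
      intro hx; linear_combination hx
    have h6 := (h2.map (h3 (-(polar Q x e)⁻¹ • w) (by rw [B_smul_right, B_comm Q e w, h4, mul_zero])
      (by rw [B_smul_left, h5, mul_zero])))
    have h7 : polar Q x e • (sgO hQ h7 e (-(polar Q x e)⁻¹ • w) he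
        (by rw [B_smul_right, B_comm Q e w, h4, mul_zero])).1.1 f = x := by
      refine Eq.trans ?_ hxw.symm
      simp only [sgO, siegel_apply]
      qsimp
      rw [B_comm Q f w, h5, B_comm Q f e, hef, hQw]
      match_scalars <;> field_simp <;> ring
    simpa only [h7] using (h6.smul_left hxe).smul_right hxe
  refine eq_one_of_pc hQ h7 hα' fun x hx hx0 => ?_
  by_cases hxe : polar Q x e = 0
  swap
  · exact k1 x hx hxe
  by_cases hm : x ∈ F ∙ e
  · obtain ⟨a, rfl⟩ := Submodule.mem_span_singleton.1 hm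
    have ha : a ≠ 0 := by rintro rfl; simp at hx0
    exact (h1.smul_left ha).smul_right ha
  obtain ⟨g, hg⟩ := exists_hypSys_pair hQ he (by rw [B_comm, hxe]) hx h1.2.1 hm
  have hy : Q (g 0) = 0 := hg.Qf 0
  have hye : polar Q (g 0) e = 1 := by simpa using hg.fe 0 0
  have hxy : polar Q x (g 0) = 0 := by simpa using hg.ef 1 0
  set y := g 0
  have hyx : y ∉ F ∙ x := fun h => by
    obtain ⟨a, ha⟩ := Submodule.mem_span_singleton.1 h
    rw [← ha, B_smul_left, hxe, mul_zero] at hye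
    exact zero_ne_one hye
  obtain ⟨x', hx'⟩ := exists_pc hQ h7 hα hx hx0
  have hs := lr_sgO hQ h7 hx hxy hy hx0 hyx
  have hm := movS_sgO hQ h7 hx hxy hy hx0 hyx
  obtain ⟨s', hs', h4⟩ := exists_lr hQ h7 α hs
  have m1 : y ∈ movS s'.1 := (k1 y hy (by rw [hye]; exact one_ne_zero)).2.2.2 _ _ hs hs' h4
    (hm ▸ Submodule.subset_span (by simp))
  have m2 : x + y ∈ movS s'.1 := (k1 (x + y) (by rw [Q_add, hx, hy, hxy]; ring)
    (by rw [polar_add_left, hxe, hye]; simp)).2.2.2 _ _ hs hs' h4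
    (hm ▸ Submodule.mem_span_pair.2 ⟨1, 1, by simp⟩)
  have m3 : x' ∈ movS s'.1 := hx'.2.2.2 _ _ hs hs' h4 (hm ▸ Submodule.subset_span (by simp))
  rw [hs'.movS_eq hQ (by simpa using sub_mem m2 m1) m1 hx0 hyx] at m3
  obtain ⟨a, b, rfl⟩ := Submodule.mem_span_pair.1 m3
  by_cases hb : b = 0
  · have ha : a ≠ 0 := by rintro rfl; exact hx'.2.2.1 (by simp [hb])
    simpa [hb, ha] using hx'.smul_right (inv_ne_zero ha)
  · exfalso
    have h5 : polar Q (a • x + b • y) e = b := by qsimp; rw [hxe, hye]; ring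
    obtain ⟨c, hc⟩ := Submodule.mem_span_singleton.1
      ((k1 _ (hx'.sing hQ h7) (by rwa [h5])).unique' hQ h7 hα hα' hx')
    have h6 : c = 0 := by
      rw [← hc, B_smul_left, h5] at hxe
      exact (mul_eq_zero.1 hxe).resolve_right hb
    exact hx0 (by rw [← hc, h6, zero_smul])

lemma th_unique {e f : V} (he : Q e = 0) (hef : polar Q e f = 1) {w w' : V} {hw hw'}
    (h1 : polar Q w f = 0) (h2 : polar Q w' f = 0)
    (h : pm Q (sgO hQ h7 e w he hw) = pm Q (sgO hQ h7 e w' he hw')) : w = w' := by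
  have he0 : e ≠ 0 := by rintro rfl; simp at hef
  obtain ⟨a, ha⟩ := Submodule.mem_span_singleton.1 (sub_mem_of_siegel_eq hQ he0 he hw hw'
    (congrArg Subtype.val (eq_of_pm_eq hQ (by omega) h he0 (siegel_self he hw) (siegel_self he hw'))))
  have h3 := congrArg (fun x => polar Q x f) ha
  simp only [B_smul_left, polar_sub_left, hef, h1, h2, mul_one, sub_self] at h3
  rw [h3, zero_smul, eq_comm, sub_eq_zero] at ha
  exact ha.symm

lemma th_total {e f e' f' : V} (hf : Q f = 0) (hef : polar Q e f = 1)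
    (hef' : polar Q e' f' = 1) (h : PC α e e') :
    ∃ θ : hp1 Q e f →+ hp1 Q e' f', (∀ w : hp1 Q e f, Q w = 0 → Q (θ w) = 0) ∧
      ∀ (w : hp1 Q e f) hw hw', Cor α (sgO hQ h7 e w h.1 hw)
        (sgO hQ h7 e' (θ w) (h.sing hQ h7) hw') := by
  have he := h.1
  have he' := h.sing hQ h7
  have hd := finrank_hp1 he hf hef
  have p1 : ∀ w : hp1 Q e f, polar Q e w = 0 := fun w => by
    rw [B_comm]; exact (mem_hp1.1 w.2).1
  have p2 : ∀ w : hp1 Q e' f', polar Q e' w = 0 := fun w => by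
    rw [B_comm]; exact (mem_hp1.1 w.2).1
  let R : hp1 Q e f → hp1 Q e' f' → Prop := fun w w' =>
    Cor α (sgO hQ h7 e w he (p1 w)) (sgO hQ h7 e' w' he' (p2 w'))
  have uniq : ∀ {w w₁ w₂}, R w w₁ → R w w₂ → w₁ = w₂ := fun {w w₁ w₂} h1 h2 =>
    Subtype.ext (th_unique hQ h7 he' hef' (mem_hp1.1 w₁.2).2 (mem_hp1.1 w₂.2).2 (h1.pm_eq h2))
  have radd : ∀ {w₁ w₂ w₁' w₂'}, R w₁ w₁' → R w₂ w₂' → R (w₁ + w₂) (w₁' + w₂') :=
    fun {w₁ w₂ w₁' w₂'} h1 h2 => by
      have := h1.mul h2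
      convert this using 1
      · exact Subtype.ext (siegel_mul he (p1 _) (p1 _)).symm
      · exact Subtype.ext (siegel_mul he' (p2 _) (p2 _)).symm
  have rzero : R 0 0 := by
    have : Cor α 1 1 := cor_one
    convert this using 1
    · exact Subtype.ext (siegel_zero he (by simp))
    · exact Subtype.ext (siegel_zero he' (by simp))
  have rsing : ∀ w : hp1 Q e f, Q w = 0 → ∃ w', R w w' ∧ Q w' = 0 := fun w hw => by
    by_cases hw0 : w = 0
    · exact ⟨0, hw0 ▸ rzero, by simp⟩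
    have hwe := notMem_span_of_B hef (fun h => hw0 (Subtype.ext h)) (mem_hp1.1 w.2).2
    have hs := lr_sgO hQ h7 he (p1 w) hw h.2.1 hwe
    obtain ⟨s', hs', h1⟩ := exists_lr hQ h7 α hs
    obtain ⟨y, h2, h3, hy, -, h4⟩ := hs'.exists_eq hQ (h.2.2.2 _ _ hs hs' h1
      (movS_sgO hQ h7 he (p1 w) hw h.2.1 hwe ▸ Submodule.subset_span (by simp))) h.2.2.1
    refine ⟨⟨y + (-polar Q y f') • e', mem_hp1.2 ⟨?_, ?_⟩⟩, ?_, ?_⟩
    · qsimp; rw [he', B_comm Q y e', h3]; ring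
    · qsimp; rw [hef']; ring
    · convert h1 using 1
      exact Subtype.ext ((siegel_add_smul _ h3 _ (by qsimp; rw [he', h3]; ring)).trans h4.symm)
    · change Q (y + (-polar Q y f') • e') = 0
      qsimp; rw [he', hy, B_comm Q y e', h3]; ring
  have rtot : ∀ w, ∃ w', R w w' := fun w => by
    let S : AddSubgroup (hp1 Q e f) :=
      { carrier := {w | ∃ w', R w w'}
        zero_mem' := ⟨0, rzero⟩
        add_mem' := fun ⟨_, h1⟩ ⟨_, h2⟩ => ⟨_, radd h1 h2⟩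
        neg_mem' := fun {w} ⟨w', h1⟩ => ⟨-w', by
          have := h1.inv
          convert this using 1
          · refine Subtype.ext (eq_inv_of_mul_eq_one_left ?_)
            exact (siegel_mul he (p1 _) (p1 _)).trans ((siegel_congr _ _ rfl (by simp)).trans
              (siegel_zero he (by simp)))
          · refine Subtype.ext (eq_inv_of_mul_eq_one_left ?_)
            exact (siegel_mul he' (p2 _) (p2 _)).trans ((siegel_congr _ _ rfl (by simp)).trans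
              (siegel_zero he' (by simp)))⟩ }
    exact sing_gen (nd_hp1 hQ he hf hef) (by omega) S
      (fun u hu => (rsing u hu).imp fun _ h => h.1) w
  choose θ hθ using rtot
  refine ⟨AddMonoidHom.mk' θ fun a b => uniq (hθ _) (radd (hθ a) (hθ b)), fun w hw => ?_,
    fun w _ _ => hθ w⟩
  obtain ⟨w', h1, h2⟩ := rsing w hw
  change Q (θ w) = 0
  rw [uniq (hθ w) h1, h2]

lemma th_line (hα : MeetPres α) (hα' : MeetPres α⁻¹) {e f e' f' : V} (hef : polar Q e f = 1)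
    (hef' : polar Q e' f' = 1) (h : PC α e e') {u u₁ u₂ : V} {a : F} {p₁ p₂ p₃ p₄}
    (hu : Q u = 0) (hu₁ : Q u₁ = 0) (hu₂ : Q u₂ = 0) (q : polar Q u f = 0)
    (q₁ : polar Q u₁ f' = 0) (q₂ : polar Q u₂ f' = 0) (hu0 : u ≠ 0) (hu₁0 : u₁ ≠ 0)
    (hu₂0 : u₂ ≠ 0) (ha : a ≠ 0)
    (h1 : Cor α (sgO hQ h7 e u h.1 p₁) (sgO hQ h7 e' u₁ (h.sing hQ h7) p₂))
    (h2 : Cor α (sgO hQ h7 e (a • u) h.1 p₃) (sgO hQ h7 e' u₂ (h.sing hQ h7) p₄)) :
    u₂ ∈ F ∙ u₁ := by
  obtain ⟨u', hu'⟩ := exists_pc hQ h7 hα hu hu0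
  have n0 := notMem_span_of_B hef hu0 q
  have n1 := notMem_span_of_B hef' hu₁0 q₁
  have n2 := notMem_span_of_B hef' hu₂0 q₂
  have hau : Q (a • u) = 0 := by rw [Q_smul, hu, mul_zero]
  have n3 : a • u ∉ F ∙ e := by rwa [Submodule.smul_mem_iff _ ha]
  have m1 := hu'.2.2.2 _ _ (lr_sgO hQ h7 _ _ hu h.2.1 n0) (lr_sgO hQ h7 _ _ hu₁ h.2.2.1 n1) h1
    (movS_sgO hQ h7 _ _ hu h.2.1 n0 ▸ Submodule.subset_span (by simp))
  have m2 := hu'.2.2.2 _ _ (lr_sgO hQ h7 _ _ hau h.2.1 n3) (lr_sgO hQ h7 _ _ hu₂ h.2.2.1 n2) h2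
    (movS_sgO hQ h7 _ _ hau h.2.1 n3 ▸ Submodule.mem_span_pair.2 ⟨0, a⁻¹, by simp [ha]⟩)
  rw [movS_sgO hQ h7 _ _ hu₁ h.2.2.1 n1] at m1
  rw [movS_sgO hQ h7 _ _ hu₂ h.2.2.1 n2] at m2
  obtain ⟨x, y, rfl⟩ := Submodule.mem_span_pair.1 m1
  obtain ⟨x', y', h3⟩ := Submodule.mem_span_pair.1 m2
  have h4 := congrArg (fun v => polar Q v f') h3
  simp only [polar_add_left, B_smul_left, hef', q₁, q₂, mul_one, mul_zero, add_zero] at h4
  rw [h4, add_right_inj] at h3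
  have hy : y' ≠ 0 := by
    rintro rfl
    rw [← h3, zero_smul, add_zero] at hu'
    have hx : x ≠ 0 := by rintro rfl; exact hu'.2.2.1 (zero_smul _ _)
    exact n0 ((h.smul_right hx).unique' hQ h7 hα hα' hu')
  exact Submodule.mem_span_singleton.2 ⟨y'⁻¹ * y, by rw [mul_smul, ← h3]; simp [hy]⟩

/-- **Main theorem.** -/
theorem exists_act_eq (hα : MeetPres α) (hα' : MeetPres α⁻¹) : ∃ g, α = act Q g := by
  have : Finite V := Module.finite_of_finite F
  obtain ⟨e, f, he, hf, hef⟩ := exists_hyp_pair hQ (by omega)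
  have he0 : e ≠ 0 := by rintro rfl; simp at hef
  have hf0 : f ≠ 0 := by rintro rfl; simp at hef
  obtain ⟨e', h1⟩ := exists_pc hQ h7 hα he he0
  obtain ⟨f'', h2'⟩ := exists_pc hQ h7 hα hf hf0
  have he' := h1.sing hQ h7
  have hne : polar Q e' f'' ≠ 0 := by
    intro h0
    by_cases hm : f'' ∈ F ∙ e'
    · obtain ⟨a, rfl⟩ := Submodule.mem_span_singleton.1 hm
      have ha : a ≠ 0 := by rintro rfl; exact h2'.2.2.1 (zero_smul _ _)
      obtain ⟨b, rfl⟩ := Submodule.mem_span_singleton.1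
        ((h1.smul_right ha).unique' hQ h7 hα hα' h2')
      rw [B_smul_right, B_self, he] at hef
      simp at hef
    · have hs' := lr_sgO hQ h7 he' h0 (h2'.sing hQ h7) h1.2.2.1 hm
      have hm' := movS_sgO hQ h7 he' h0 (h2'.sing hQ h7) h1.2.2.1 hm
      obtain ⟨s, hs, h3⟩ := exists_lr hQ h7 α⁻¹ hs'
      have := (hs.ts hQ).polar_eq
        ((h1.symm hQ h7 hα').2.2.2 _ _ hs' hs h3 (hm' ▸ Submodule.subset_span (by simp)))
        ((h2'.symm hQ h7 hα').2.2.2 _ _ hs' hs h3 (hm' ▸ Submodule.subset_span (by simp)))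
      rw [hef] at this
      exact one_ne_zero this
  have h2 := h2'.smul_right (inv_ne_zero hne)
  set f' := (polar Q e' f'')⁻¹ • f''
  have hef' : polar Q e' f' = 1 := by rw [B_smul_right, inv_mul_cancel₀ hne]
  have hf' := h2.sing hQ h7
  have hd := finrank_hp1 he hf hef
  have p1 : ∀ w : hp1 Q e f, polar Q e w = 0 := fun w => by
    rw [B_comm]; exact (mem_hp1.1 w.2).1
  have p2 : ∀ w : hp1 Q e' f', polar Q e' w = 0 := fun w => by
    rw [B_comm]; exact (mem_hp1.1 w.2).1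
  have h1' := h1.symm hQ h7 hα'
  obtain ⟨θ, t1, t2⟩ := th_total hQ h7 hf hef hef' h1
  obtain ⟨θ', t1', t2'⟩ := th_total hQ h7 hf' hef' hef h1'
  have i1 : ∀ w, θ' (θ w) = w := fun w => Subtype.ext (th_unique hQ h7 he hef
    (mem_hp1.1 (θ' (θ w)).2).2 (mem_hp1.1 w.2).2
    ((t2' (θ w) (p2 _) (p1 _)).pm_eq (t2 w (p1 _) (p2 _)).symm))
  have i2 : ∀ w, θ (θ' w) = w := fun w => Subtype.ext (th_unique hQ h7 he' hef'
    (mem_hp1.1 (θ (θ' w)).2).2 (mem_hp1.1 w.2).2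
    ((t2 (θ' w) (p1 _) (p2 _)).pm_eq (by simpa using (t2' w (p2 _) (p1 _)).symm)))
  let Θ : hp1 Q e f ≃+ hp1 Q e' f' := { θ with invFun := θ', left_inv := i1, right_inv := i2 }
  have l1 : ∀ u : hp1 Q e f, Q u = 0 → ∀ a : F, θ (a • u) ∈ F ∙ θ u := fun u hu a => by
    by_cases hu0 : u = 0
    · simp [hu0]
    by_cases ha : a = 0
    · simp [ha]
    obtain ⟨b, hb⟩ := Submodule.mem_span_singleton.1 (th_line hQ h7 hα hα' hef hef' h1 hu (t1 u hu)
      (t1 (a • u) (by simp [Q_smul, hu])) (mem_hp1.1 u.2).2 (mem_hp1.1 (θ u).2).2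
      (mem_hp1.1 (θ (a • u)).2).2 (by simpa using hu0)
      (fun h => hu0 (Θ.map_eq_zero_iff.1 (Subtype.ext h)))
      (fun h => smul_ne_zero ha hu0 (Θ.map_eq_zero_iff.1 (Subtype.ext h))) ha
      (t2 u (p1 _) (p2 _)) (t2 (a • u) (p1 _) (p2 _)))
    exact Submodule.mem_span_singleton.2 ⟨b, Subtype.ext hb⟩
  have l2 : ∀ u : hp1 Q e' f', Q u = 0 → ∀ a : F, θ' (a • u) ∈ F ∙ θ' u := fun u hu a => by
    by_cases hu0 : u = 0
    · simp [hu0]
    by_cases ha : a = 0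
    · simp [ha]
    obtain ⟨b, hb⟩ := Submodule.mem_span_singleton.1 (th_line hQ h7 hα' (by rwa [inv_inv]) hef' hef
      h1' hu (t1' u hu)
      (t1' (a • u) (by simp [Q_smul, hu])) (mem_hp1.1 u.2).2 (mem_hp1.1 (θ' u).2).2
      (mem_hp1.1 (θ' (a • u)).2).2 (by simpa using hu0)
      (fun h => hu0 (Θ.symm.map_eq_zero_iff.1 (Subtype.ext h)))
      (fun h => smul_ne_zero ha hu0 (Θ.symm.map_eq_zero_iff.1 (Subtype.ext h))) ha
      (t2' u (p2 _) (p1 _)) (t2' (a • u) (p2 _) (p1 _)))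
    exact Submodule.mem_span_singleton.2 ⟨b, Subtype.ext hb⟩
  obtain ⟨σ, hσ⟩ := semilinear_of_sing (nd_hp1 hQ he hf hef) (by omega) Θ l1 fun u v hu hv => by
    obtain ⟨b, hb⟩ := Submodule.mem_span_singleton.1 hv
    have := l2 (θ u) (t1 u hu) b
    rwa [show b • θ u = θ v from hb, i1, i1] at this
  obtain ⟨c, hc⟩ := similar_of_sing (nd_hp1 hQ he hf hef) (by omega)
    (Q' := Q.restrict (hp1 Q e' f')) θ hσ t1
  have hc0 : c ≠ 0 := by
    rintro rfl
    obtain ⟨z, hz, hz0⟩ := exists_nonsing ((hypSys_one he' hf' hef').nd_hperp' hQ) (by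
      intro h0
      have := finrank_hp1 he' hf' hef'
      rw [show hp1 Q e' f' = ⊥ from h0, finrank_bot] at this
      omega)
    have := hc (θ' ⟨z, hz⟩)
    rw [i2, zero_mul] at this
    exact hz0 this
  let pr : V →ₗ[F] hp1 Q e f := LinearMap.codRestrict _
    (LinearMap.id - (polarBilin Q f).smulRight e - (polarBilin Q e).smulRight f) fun x => by
      simpa [B_comm Q f, B_comm Q e] using proj_mem_hp1 he hf hef x
  have hpr : ∀ x, (pr x : V) = x - polar Q x f • e - polar Q x e • f := fun x => by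
    simp [pr, B_comm Q f, B_comm Q e]
  let γ : V →+ V := AddMonoidHom.mk'
    (fun x => (c * σ (polar Q x f)) • e' + σ (polar Q x e) • f' + (θ (pr x) : V)) fun x y => by
      simp only [polar_add_left, map_add, Submodule.coe_add]; module
  have hγ : ∀ x, γ x = (c * σ (polar Q x f)) • e' + σ (polar Q x e) • f' + (θ (pr x) : V) :=
    fun _ => rfl
  have hγi : Function.Injective γ := by
    rw [injective_iff_map_eq_zero]
    intro x hx
    rw [hγ] at hx
    have a1 := congrArg (fun v => polar Q v f') hx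
    have a2 := congrArg (fun v => polar Q v e') hx
    simp only [polar_add_left, B_smul_left, hef', B_self, hf', (mem_hp1.1 (θ (pr x)).2).2,
      polar_zero_left, he', B_comm Q f' e', (mem_hp1.1 (θ (pr x)).2).1] at a1 a2
    have b1 : polar Q x f = 0 := by simpa [hc0] using a1
    have b2 : polar Q x e = 0 := by simpa using a2
    have b3 : θ (pr x) = 0 := by simpa [b1, b2] using hx
    have b4 := hpr x
    rw [(Θ.map_eq_zero_iff.1 b3 : pr x = 0), b1, b2] at b4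
    simpa using b4.symm
  have hQx : ∀ x, Q x = polar Q x f * polar Q x e + Q (pr x) := fun x => by
    have : x = polar Q x f • e + polar Q x e • f + pr x := by rw [hpr]; module
    nth_rewrite 1 [this]
    qsimp; rw [he, hf, hef, p1, B_comm Q f, (mem_hp1.1 (pr x).2).2]; ring
  let g : SS Q := ⟨σ, Units.mk0 c hc0,
    AddEquiv.ofBijective γ (Finite.injective_iff_bijective.1 hγi),
    fun a v => by
      change γ (a • v) = σ a • γ v
      have := congrArg Subtype.val (hσ a (pr v))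
      change (θ (a • pr v) : V) = σ a • (θ (pr v) : V) at this
      simp only [hγ, B_smul_left, map_smul, map_mul, this]; module,
    fun v => by
      change Q (γ v) = c * _
      have := hc (pr v)
      change Q (θ (pr v)) = c * σ (Q (pr v)) at this
      rw [hγ, hQx v]
      qsimp
      rw [he', hf', hef', this, p2, B_comm Q f', (mem_hp1.1 (θ (pr v)).2).2, map_add, map_mul]
      ring⟩
  have hg : ∀ x, g.γ x = γ x := fun _ => rfl
  have ge : g.γ e = c • e' := by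
    have : pr e = 0 := Subtype.ext (by rw [hpr, B_self, he, hef]; simp)
    rw [hg, hγ, this, B_self, he, hef]; simp
  have gf : g.γ f = f' := by
    have : pr f = 0 := Subtype.ext (by rw [hpr, B_self, hf, B_comm, hef]; simp)
    rw [hg, hγ, this, B_self, hf, B_comm, hef]; simp
  have gw : ∀ w : hp1 Q e f, g.γ w = θ w := fun w => by
    have : pr w = w := Subtype.ext (by rw [hpr, (mem_hp1.1 w.2).1, (mem_hp1.1 w.2).2]; simp)
    rw [hg, hγ, this, (mem_hp1.1 w.2).1, (mem_hp1.1 w.2).2]; simp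
  refine ⟨g, (inv_mul_eq_one.1 ?_).symm⟩
  rw [← map_inv]
  refine eq_one_of_centralizes hQ h7 (hα.mul hQ h7 (meetPres_act hQ h7 _)) ?_ he hef ?_ ?_ ?_
  · rw [mul_inv_rev, ← map_inv]
    exact (meetPres_act hQ h7 _).mul hQ h7 hα'
  · have := (h1.smul_right hc0).comp hQ h7 (pc_act hQ h7 g⁻¹ (by rw [Q_smul, he', mul_zero])
      (smul_ne_zero hc0 h1.2.2.1))
    rwa [← ge, SS.inv_apply] at this
  · have := h2.comp hQ h7 (pc_act hQ h7 g⁻¹ hf' h2.2.2.1)
    rwa [← gf, SS.inv_apply] at this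
  · intro w hw hwf
    have hw' : w ∈ hp1 Q e f := mem_hp1.2 ⟨by rw [B_comm, hw], hwf⟩
    have h3 := (cor_act g (sgO hQ h7 e w he hw)).symm
    rw [← map_inv] at h3
    refine (t2 ⟨w, hw'⟩ hw (p2 _)).comp ?_
    convert h3 using 1
    apply Subtype.ext
    rw [actOm_coe]
    refine Eq.trans ?_ (SS.actO_siegel g he hw).symm
    exact siegel_congr he' (p2 _) (by rw [ge]; simp [g, hc0]) (gw ⟨w, hw'⟩).symm

/-- Outside the hyperbolic eight-dimensional case all automorphisms are induced. -/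
theorem act_surjective (h : finrank F V = 8 → ¬ PlusType Q) : Function.Surjective (act Q) := by
  have key : ∀ α : MulAut (POm Q), MeetPres α := fun α => by
    by_cases h9 : 9 ≤ finrank F V
    · exact meetPres_of_nine hQ h7 h9 α
    · refine meetPres_of_index hQ h7 (fun U hU => ?_) α
      have := hU.two_mul_finrank_le hQ
      by_contra h4
      exact h (by omega) ⟨U, hU, by omega⟩
  intro α
  obtain ⟨g, hg⟩ := exists_act_eq hQ h7 (key α) (key α⁻¹)
  exact ⟨g, hg.symm⟩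

end

end Cfsg.Agent.H7
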