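import Cfsg.Agent.H7.OutB

/-!
Counting the vectors of given norm.
-/

set_option autoImplicit false

namespace Cfsg.Agent.H7

open QuadraticMap Module

variable {F V W : Type*} [Field F] [AddCommGroup V] [Module F V] [AddCommGroup W] [Module F W]
  {Q : QuadraticForm F V} {Q' : QuadraticForm F W}

/-- the number of vectors of norm `c` -/
noncomputable def nQ (Q : QuadraticForm F V) (c : F) : ℕ := Nat.card {v // Q v = c}

open Classical in
/-- the sign of an even-dimensional form -/
noncomputable def eps (Q : QuadraticForm F V) : ℤ := if PlusType Q then 1 else -1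

lemma eps_plus (h : PlusType Q) : eps Q = 1 := if_pos h
lemma eps_minus (h : ¬ PlusType Q) : eps Q = -1 := if_neg h
lemma eps_eq_one_iff : eps Q = 1 ↔ PlusType Q := by
  unfold eps; split_ifs with h <;> simp [h]
lemma eps_cases (Q : QuadraticForm F V) : eps Q = 1 ∨ eps Q = -1 :=
  (em _).imp eps_plus eps_minus

lemma nQ_congr (e : V ≃ W) {c d : F} (h : ∀ x, Q' (e x) = d ↔ Q x = c) : nQ Q' d = nQ Q c :=
  (Nat.card_congr (e.subtypeEquiv fun x => (h x).symm)).symm

lemma card_prod_subtype {A B : Type*} [Finite A] [Fintype B] (P : A × B → Prop) :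
    Nat.card {x // P x} = ∑ y, Nat.card {x // P (x, y)} := by
  rw [← Nat.card_sigma]
  exact Nat.card_congr
    { toFun := fun x => ⟨x.1.2, x.1.1, x.2⟩
      invFun := fun x => ⟨(x.2.1, x.1), x.2.2⟩
      left_inv := fun _ => rfl
      right_inv := fun _ => rfl }

lemma nQ_prod [Finite V] [Fintype W] (c : F) : nQ (Q.prod Q') c = ∑ y, nQ Q (c - Q' y) := by
  rw [nQ, card_prod_subtype]
  simp [nQ, eq_sub_iff_add_eq]

lemma sum_nQ [Fintype F] [Finite V] : ∑ c, nQ Q c = Nat.card V := by
  rw [← Nat.card_congr (Equiv.sigmaFiberEquiv Q), Nat.card_sigma]; rfl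

open Classical in
lemma sum_ite_nQ [Fintype V] (c : F) (a b : ℤ) :
    ∑ y, (if Q y = c then a else b) = nQ Q c * (a - b) + Nat.card V * b := by
  rw [Finset.sum_congr rfl (g := fun y => (if Q y = c then a - b else 0) + b) fun y _ => by
    split_ifs <;> simp, Finset.sum_add_distrib, ← Finset.sum_filter]
  simp [nQ, Fintype.card_subtype, mul_sub]

lemma card_fiber_mul [Finite F] [FiniteDimensional F V] {φ : V →ₗ[F] F} (h : φ ≠ 0) (c : F) :
    Nat.card F * Nat.card {v // φ v = c} = Nat.card V := by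
  obtain ⟨w, hw⟩ := LinearMap.surjective h 1
  rw [← Nat.card_prod]
  exact Nat.card_congr
    { toFun := fun x => x.2.1 + x.1 • w
      invFun := fun v => (φ v - c, ⟨v - (φ v - c) • w, by simp [hw]⟩)
      left_inv := fun x => by ext <;> simp [hw, x.2.2]
      right_inv := fun v => by simp }

variable [Finite F]

open Classical in
lemma nQ_QP (m : ℕ) (c : F) : (Nat.card F : ℤ) * nQ (QP F m) c =
    Nat.card F ^ (2 * m) + Nat.card F ^ m * (if c = 0 then (Nat.card F : ℤ) - 1 else -1) := by
  have := Fintype.ofFinite F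
  have h1 : Nat.card (Fin m → F) = Nat.card F ^ m := by simp
  rw [nQ, Nat.card_congr ((Equiv.sumArrowEquivProdArrow _ _ _).subtypeEquiv
    (q := fun x => x.2 ⬝ᵥ x.1 = c) fun x => by rw [QP_eq_dotProduct, dotProduct_comm]; rfl),
    card_prod_subtype]
  push_cast
  rw [Finset.mul_sum, Finset.sum_congr rfl (g := fun y => (if y = 0 then
    Nat.card F ^ m * (if c = 0 then (Nat.card F : ℤ) - 1 else -1) else 0) + Nat.card F ^ m) fun y _ => ?_]
  · simp [Finset.sum_add_distrib, two_mul, pow_add, add_comm]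
  split_ifs with h2 h3
  · simp [h2, h3]; ring
  · simp [h2, Ne.symm h3]
  · have := card_fiber_mul (φ := dotProductBilin F F y) (fun h => h2 (dotProduct_eq_zero _ fun w =>
      LinearMap.congr_fun h w)) c
    rw [h1] at this
    rw [zero_add]
    exact_mod_cast this

open Classical in
lemma nQ_QM (m : ℕ) {a b : F}
    (hab : ∀ z₁ z₂ : F, z₁ ^ 2 + a * z₁ * z₂ + b * z₂ ^ 2 = 0 → z₁ = 0 ∧ z₂ = 0) (c : F) :
    (Nat.card F : ℤ) * nQ (QM F m a b) c = Nat.card F ^ (2 * (m + 1)) -
      Nat.card F ^ (m + 1) * (if c = 0 then (Nat.card F : ℤ) - 1 else -1) := by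
  have := Fintype.ofFinite F
  have h0 : (Nat.card F : ℤ) * nQ (QM F m a b) 0 =
      Nat.card F ^ (2 * (m + 1)) - Nat.card F ^ (m + 1) * (Nat.card F - 1) := by
    rw [nQ, Nat.card_congr ((Equiv.sumArrowEquivProdArrow _ _ _).subtypeEquiv
      (q := fun x => QP F m x.1 = -(x.2 0 ^ 2 + a * x.2 0 * x.2 1 + b * x.2 1 ^ 2)) fun x => by
        rw [eq_neg_iff_add_eq_zero]; rfl), card_prod_subtype]
    push_cast
    rw [Finset.mul_sum, Finset.sum_congr rfl (g := fun y => (if y = 0 then
      (Nat.card F : ℤ) ^ (m + 1) else 0) + (Nat.card F ^ (2 * m) - Nat.card F ^ m)) fun y _ => ?_]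
    · simp [Finset.sum_add_distrib]; ring
    refine (nQ_QP m _).trans ?_
    by_cases h : y = 0
    · simp [h]; ring
    · rw [if_neg h, if_neg fun h2 => h (funext fun i => by
        have := hab _ _ (neg_eq_zero.1 h2)
        fin_cases i <;> simp [this])]
      ring
  split_ifs with h
  · exact h ▸ h0
  have hQ := nd_QM (m := m) (disc_ne_zero_of_aniso hab)
  have h1 : ∀ d : F, d ≠ 0 → nQ (QM F m a b) d = nQ (QM F m a b) c := fun d hd => by
    obtain ⟨δ, h1, h2⟩ := exists_DS_c hQ (nonExc_QM hab) (by rw [finrank_QM]; simp)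
      (Units.mk0 (d / c) (div_ne_zero hd h))
    refine nQ_congr δ.γ.toEquiv fun x => ?_
    change QM F m a b (δ.γ x) = d ↔ _
    rw [δ.map_Q, mem_GO.1 (DS_le_GO h1), h2, Units.val_mk0, div_mul_eq_mul_div, div_eq_iff h]
    exact mul_right_inj' hd
  have h2 := sum_nQ (Q := QM F m a b)
  rw [← Finset.add_sum_erase _ _ (Finset.mem_univ 0), Finset.sum_congr rfl fun d hd =>
    h1 d (Finset.ne_of_mem_erase hd), Finset.sum_const, Finset.card_erase_of_mem (Finset.mem_univ _),
    natCard_eq_pow_finrank (K := F), finrank_QM, Finset.card_univ, ← Nat.card_eq_fintype_card] at h2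
  have h3 : 1 < Nat.card F := Finite.one_lt_card
  zify [h3.le, smul_eq_mul] at h2
  refine mul_left_cancel₀ (a := (Nat.card F : ℤ) - 1) (by omega) ?_
  linear_combination (Nat.card F : ℤ) * h2 - h0

variable [FiniteDimensional F V]

open Classical in
theorem nQ_eq (hQ : ND Q) {m : ℕ} (hV : finrank F V = 2 * m) (c : F) : (Nat.card F : ℤ) * nQ Q c =
    Nat.card F ^ (2 * m) + eps Q * Nat.card F ^ m * (if c = 0 then (Nat.card F : ℤ) - 1 else -1) := by
  by_cases h : PlusType Q
  · obtain ⟨φ, hφ⟩ := exists_equiv_QP hQ hV h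
    rw [nQ_congr φ.toEquiv fun x => by rw [← hφ]; rfl, nQ_QP, eps_plus h, one_mul]
  · obtain ⟨m, rfl⟩ : ∃ k, m = k + 1 := Nat.exists_eq_succ_of_ne_zero (by
      rintro rfl; exact h ⟨⊥, fun u hu => by simp_all, by simp [hV]⟩)
    obtain ⟨ζ, hζ, φ, hφ⟩ := exists_equiv_QM_one hQ (m := m) hV h
    rw [nQ_congr φ.toEquiv fun x => by rw [← hφ]; rfl, nQ_QM m (aniso_of_no_root hζ), eps_minus h]
    ring

theorem eps_prod [FiniteDimensional F W] (hQ : ND Q) (hQ' : ND Q') (h : Even (finrank F V))
    (h' : Even (finrank F W)) : eps (Q.prod Q') = eps Q * eps Q' := by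
  classical
  obtain ⟨a, ha⟩ := h.two_dvd
  obtain ⟨b, hb⟩ := h'.two_dvd
  have := Module.finite_of_finite F (M := V)
  have := Module.finite_of_finite F (M := W)
  have := Fintype.ofFinite W
  have h1 := nQ_eq (hQ.prod hQ') (m := a + b) (by rw [finrank_prod]; omega) 0
  have h2 := nQ_eq hQ' hb 0
  rw [nQ_prod] at h1
  push_cast at h1
  rw [Finset.mul_sum] at h1
  simp only [nQ_eq hQ ha, Finset.sum_add_distrib, ← Finset.mul_sum, zero_sub,
    neg_eq_zero, sum_ite_nQ, Finset.sum_const, Finset.card_univ, ← Nat.card_eq_fintype_card,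
    natCard_eq_pow_finrank (K := F) (V := W), hb, if_true, nsmul_eq_mul] at h1 h2
  push_cast at h1
  have h3 : 1 < Nat.card F := Finite.one_lt_card
  refine mul_left_cancel₀ (a := (Nat.card F : ℤ) ^ (a + b) * (Nat.card F - 1))
    (mul_ne_zero (by positivity) (by omega)) ?_
  linear_combination eps Q * (Nat.card F : ℤ) ^ a * h2 - h1

/-- a fixed-point-free isometry of prime order determines the type -/
theorem eps_modEq (hQ : ND Q) {m : ℕ} (hV : finrank F V = 2 * m) {r : ℕ} [Fact r.Prime] {g : OG Q}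
    (hg : g ^ r = 1) (hf : ∀ v, g.1 v = v → v = 0) (hr : (Nat.card F : ZMod r) ≠ 0) :
    (Nat.card F : ZMod r) ^ m = eps Q := by
  classical
  have := Module.finite_of_finite F (M := V)
  have := Fintype.ofFinite {v // Q v = 1}
  let f : Function.End {v // Q v = 1} := fun v => ⟨g.1 v, (OG.map_Q g v).trans v.2⟩
  have h1 : ∀ n v, ((f ^ n) v).1 = (g ^ n).1 v := fun n => by
    induction n with
    | zero => exact fun _ => rfl
    | succ n ih => exact fun v => by rw [pow_succ, pow_succ]; exact ih _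
  have h2 := Equiv.Perm.card_fixedPoints_modEq (f := f) (p := r) (n := 1)
    (funext fun v => Subtype.ext (by rw [pow_one, h1, hg]; rfl))
  have : IsEmpty f.fixedPoints := ⟨fun v => by
    have := v.1.2
    rw [hf _ (congrArg Subtype.val v.2), map_zero] at this
    exact zero_ne_one this⟩
  rw [Fintype.card_eq_zero (α := f.fixedPoints), ← Nat.card_eq_fintype_card,
    ← ZMod.natCast_eq_natCast_iff] at h2
  have h3 := congrArg (Int.cast : ℤ → ZMod r) (nQ_eq hQ hV 1)
  push_cast [one_ne_zero] at h3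
  rw [nQ, h2] at h3
  refine mul_left_cancel₀ (pow_ne_zero m hr) ?_
  simp only [Nat.cast_zero, mul_zero] at h3
  linear_combination -h3

end Cfsg.Agent.H7
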