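import Cfsg.Agent.H7.Ext

/-!
The class-preserving similarities of an even-dimensional quadratic space.
-/

set_option autoImplicit false

namespace Cfsg.Agent.H7

open QuadraticMap Module

variable {F V : Type*} [Field F] [AddCommGroup V] [Module F V] {Q : QuadraticForm F V}

open Classical in
/-- determinant of a similarity -/
noncomputable def SS.det (g : SS Q) : F :=
  if h : g.σ = 1 then LinearMap.det (g.lin h).toLinearMap else 0

lemma SS.det_eq {g : SS Q} (hg : g ∈ GO Q) {a : V →ₗ[F] V} (h : ∀ x, g.γ x = a x) :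
    g.det = LinearMap.det a := by
  rw [SS.det, dif_pos (mem_GO.1 hg)]
  congr 1
  exact LinearMap.ext h

lemma SS.det_mul {g h : SS Q} (hg : g ∈ GO Q) (hh : h ∈ GO Q) : (g * h).det = g.det * h.det := by
  rw [SS.det_eq (mul_mem hg hh) (a := (g.lin hg).toLinearMap ∘ₗ (h.lin hh).toLinearMap)
    fun _ => rfl, LinearMap.det_comp, SS.det_eq hg (a := (g.lin hg).toLinearMap) fun _ => rfl,
    SS.det_eq hh (a := (h.lin hh).toLinearMap) fun _ => rfl]

lemma SS.det_ofO (h : OG Q) : (SS.ofO Q h).det = LinearMap.det h.1.toLinearMap :=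
  SS.det_eq rfl fun _ => rfl

lemma SS.det_one : (1 : SS Q).det = 1 := by
  rw [SS.det_eq (one_mem _) (a := LinearMap.id) fun _ => rfl, LinearMap.det_id]

lemma SS.det_sc (l : Fˣ) : (SS.sc Q l).det = (l : F) ^ finrank F V := by
  rw [SS.det_eq rfl (a := (l : F) • LinearMap.id) fun _ => rfl, LinearMap.det_smul,
    LinearMap.det_id, mul_one]

lemma SS.mul_c_of_GO {g : SS Q} (hg : g ∈ GO Q) (h : SS Q) : (g * h).c = g.c * h.c := by
  ext; simp [mem_GO.1 hg]

lemma SS.inv_c_of_GO {g : SS Q} (hg : g ∈ GO Q) : g⁻¹.c = g.c⁻¹ := by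
  ext; simp [SS.inv_c, mem_GO.1 hg]

lemma SS.conj_c (g d : SS Q) (hd : d ∈ GO Q) : ((g * d * g⁻¹).c : F) = g.σ d.c := by
  simp [SS.inv_c, mem_GO.1 hd]; field_simp

lemma ofO_mem_GO (h : OG Q) : SS.ofO Q h ∈ GO Q := rfl

lemma sc_mem_GO (l : Fˣ) : SS.sc Q l ∈ GO Q := rfl

lemma exists_ofO_mul_sc {g : SS Q} (hg : g ∈ GO Q) {l : Fˣ} (hl : g.c = l ^ 2) :
    ∃ h : OG Q, g = SS.ofO Q h * SS.sc Q l := by
  obtain ⟨h, hh⟩ := mem_OO.2 (show (g * SS.sc Q l⁻¹).σ = 1 ∧ (g * SS.sc Q l⁻¹).c = 1 from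
    ⟨by simp [mem_GO.1 hg], by rw [SS.mul_c_of_GO hg, hl, SS.sc_c, inv_pow, mul_inv_cancel]⟩)
  exact ⟨h, by rw [hh, mul_assoc, ← map_mul]; simp⟩

lemma exists_ofO_mul_sc' {g : SS Q} (hg : g ∈ GO Q) (hl : IsSquare (g.c : F)) :
    ∃ (h : OG Q) (l : Fˣ), g = SS.ofO Q h * SS.sc Q l := by
  obtain ⟨l, hl⟩ := hl
  have hl0 : l ≠ 0 := by rintro rfl; simp at hl
  obtain ⟨h, hh⟩ := exists_ofO_mul_sc hg (l := Units.mk0 l hl0) (by ext; simp [hl, pow_two])
  exact ⟨h, _, hh⟩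

lemma sc_neg_one : SS.sc Q (-1) = SS.ofO Q (negOne Q) :=
  SS.ext rfl (by simp) (by ext; simp)

lemma ofO_mem_KS_iff {h : OG Q} : SS.ofO Q h ∈ KS Q ↔ h ∈ Om Q ∨ h * negOne Q ∈ Om Q := by
  constructor
  · intro hh
    obtain ⟨h', hh', l, e⟩ := mem_KS.1 hh
    have h1 := congrArg (fun g : SS Q => (g.c : F)) e
    simp only [SS.ofO_c, Units.val_one, SS.mul_c, SS.ofO_σ, SS.sc_c, Units.val_pow_eq_pow_val,
      RingAut.one_apply, one_mul] at h1
    rcases mul_self_eq_one_iff.1 ((pow_two _).symm.trans h1.symm) with h2 | h2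
    · rw [show l = 1 from Units.ext h2, map_one, mul_one] at e
      exact Or.inl (SS.ofO_injective e ▸ hh')
    · rw [show l = -1 from Units.ext h2, sc_neg_one, ← map_mul] at e
      right
      rw [SS.ofO_injective e, mul_assoc, show negOne Q * negOne Q = 1 from OG.ext' fun x => by simp]
      simpa using hh'
  · rintro (hh | hh)
    · exact ofO_mem_KS hh
    · have := mul_mem (ofO_mem_KS hh) (sc_mem_KS (-1))
      rwa [sc_neg_one, ← map_mul, mul_assoc,
        show negOne Q * negOne Q = 1 from OG.ext' fun x => by simp, mul_one] at this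

lemma negOne_of_two (h2 : (2 : F) = 0) : negOne Q = 1 := OG.ext' fun x => by
  rw [negOne_apply, OG.one_apply, neg_eq_iff_add_eq_zero, ← two_smul F, h2, zero_smul]

variable (Q) in
/-- similarities with `det = c ^ (n / 2)` -/
noncomputable def detSub : Subgroup (SS Q) where
  carrier := {g | g ∈ GO Q ∧ g.det = (g.c : F) ^ (finrank F V / 2)}
  one_mem' := ⟨one_mem _, by simp [SS.det_one]⟩
  mul_mem' {g h} hg hh := ⟨mul_mem hg.1 hh.1, by
    rw [SS.det_mul hg.1 hh.1, SS.mul_c_of_GO hg.1, hg.2, hh.2, Units.val_mul, mul_pow]⟩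
  inv_mem' {g} hg := ⟨inv_mem hg.1, by
    have := SS.det_mul hg.1 (inv_mem hg.1)
    rw [mul_inv_cancel, SS.det_one, hg.2] at this
    rw [SS.inv_c_of_GO hg.1, Units.val_inv_eq_inv_val, inv_pow]
    exact eq_inv_of_mul_eq_one_right this.symm⟩

variable (Q) in
open Classical in
/-- the class-preserving similarities -/
noncomputable def DS : Subgroup (SS Q) := if (2 : F) = 0 then KS Q else detSub Q

lemma DS_of_two (h2 : (2 : F) = 0) : DS Q = KS Q := if_pos h2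

lemma mem_DS (h2 : (2 : F) ≠ 0) {g : SS Q} :
    g ∈ DS Q ↔ g ∈ GO Q ∧ g.det = (g.c : F) ^ (finrank F V / 2) := by
  rw [DS, if_neg h2]; rfl

lemma DS_le_GO : DS Q ≤ GO Q := by
  by_cases h2 : (2 : F) = 0
  · rw [DS_of_two h2]; exact KS_le_GO
  · exact fun g hg => ((mem_DS h2).1 hg).1

section hyp
variable {m : ℕ} {e f : Fin m → V}

lemma hcomb_inl (i : Fin m) : hcomb e f (Pi.single (Sum.inl i) (1 : F)) = e i := by
  simp [hcomb_apply, Pi.single_apply]

lemma hcomb_inr (i : Fin m) : hcomb e f (Pi.single (Sum.inr i) (1 : F)) = f i := by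
  simp [hcomb_apply, Pi.single_apply]

lemma HypSys.lin_ext (h : HypSys Q e f) {W : Type*} [AddCommGroup W] [Module F W]
    {a b : V →ₗ[F] W} (h1 : ∀ i, a (e i) = b (e i)) (h2 : ∀ i, a (f i) = b (f i))
    (h3 : ∀ x ∈ hperp Q e f, a x = b x) : a = b := by
  ext x
  obtain ⟨⟨c, y⟩, rfl⟩ := h.equiv.surjective x
  simp [h.equiv_apply, hcomb_apply, h1, h2, h3 y y.2]

lemma HypSys.levi_e (h : HypSys Q e f) (d : Fin m → Fˣ) (i : Fin m) :
    (h.ext (levi (diagGL d))).1 (e i) = (d i : F) • e i := by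
  rw [← hcomb_inl (F := F) (e := e) (f := f) i, h.ext_hcomb, levi_diagGL_apply, ← map_smul]
  congr 1
  ext (j | j)
  · by_cases hj : j = i <;> simp [hj]
  · simp

lemma HypSys.levi_f (h : HypSys Q e f) (d : Fin m → Fˣ) (i : Fin m) :
    (h.ext (levi (diagGL d))).1 (f i) = (d i : F)⁻¹ • f i := by
  rw [← hcomb_inr (F := F) (e := e) (f := f) i, h.ext_hcomb, levi_diagGL_apply, ← map_smul]
  congr 1
  ext (j | j)
  · simp
  · by_cases hj : j = i <;> simp [hj]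

/-- A similarity acting diagonally on a hyperbolic system. -/
lemma HypSys.exists_sim [FiniteDimensional F V] (h : HypSys Q e f) (c : Fˣ)
    (ρ : hperp Q e f ≃ₗ[F] hperp Q e f) (hρ : ∀ y, Q (ρ y) = c * Q y) :
    ∃ δ ∈ GO Q, δ.c = c ∧ (∀ i, δ.γ (e i) = (c : F) • e i) ∧ (∀ i, δ.γ (f i) = f i) ∧
      (∀ y : hperp Q e f, δ.γ y = ρ y) ∧ δ.det = c ^ m * LinearMap.det ρ.toLinearMap := by
  let d : Fin m ⊕ Fin m → Fˣ := Sum.elim (fun _ => c) fun _ => 1
  let τ : (Fin m ⊕ Fin m → F) ≃ₗ[F] (Fin m ⊕ Fin m → F) :=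
    LinearEquiv.piCongrRight fun i => LinearEquiv.smulOfUnit (d i)
  have hτ : ∀ x i, τ x i = d i * x i := fun _ _ => rfl
  let g : V ≃ₗ[F] V := (h.equiv.symm.trans (τ.prodCongr ρ)).trans h.equiv
  have hg : ∀ x y, g (h.equiv (x, y)) = h.equiv (τ x, ρ y) := fun x y => by simp [g]
  refine ⟨SS.ofLin g c fun v => ?_, rfl, rfl, fun i => ?_, fun i => ?_, fun y => ?_, ?_⟩
  · obtain ⟨⟨x, y⟩, rfl⟩ := h.equiv.surjective v
    rw [hg, h.Q_equiv, h.Q_equiv, hρ, mul_add, Finset.mul_sum]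
    simp [hτ, d, mul_assoc]
  · have := hg (Pi.single (Sum.inl i) 1) 0
    rw [map_zero, h.equiv_apply, h.equiv_apply, hcomb_inl, ZeroMemClass.coe_zero, add_zero,
      add_zero] at this
    rw [SS.ofLin_apply, this, ← hcomb_inl (F := F) (e := e) (f := f) i, ← map_smul]
    congr 1
    ext (j | j) <;> simp [hτ, d]
  · have := hg (Pi.single (Sum.inr i) 1) 0
    rw [map_zero, h.equiv_apply, h.equiv_apply, hcomb_inr, ZeroMemClass.coe_zero, add_zero,
      add_zero] at this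
    rw [SS.ofLin_apply, this, ← hcomb_inr (F := F) (e := e) (f := f) i]
    congr 1
    ext (j | j) <;> simp [hτ, d]
  · have := hg 0 y
    simpa [h.equiv_apply] using this
  · rw [SS.det_eq rfl (a := h.equiv.toLinearMap ∘ₗ (τ.toLinearMap.prodMap ρ.toLinearMap) ∘ₗ
      h.equiv.symm.toLinearMap) fun _ => rfl, LinearMap.det_conj, LinearMap.det_prodMap]
    congr 1
    have : τ.toLinearMap = Matrix.toLin' (Matrix.diagonal fun i => (d i : F)) := by
      ext1 i; ext1; ext j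
      simp [hτ, Matrix.mulVec_diagonal]
    rw [this, LinearMap.det_toLin', Matrix.det_diagonal]
    simp [Fintype.prod_sum_type, d]

end hyp

variable [FiniteDimensional F V]

lemma SS.det_sq (hQ : ND Q) {g : SS Q} (hg : g ∈ GO Q) : g.det ^ 2 = (g.c : F) ^ finrank F V := by
  rw [SS.det_eq hg (a := (g.lin (mem_GO.1 hg)).toLinearMap) fun _ => rfl]
  exact det_sq_of_similarity hQ _ _ fun v => by simp [g.map_Q, mem_GO.1 hg]

lemma SS.det_conj (g : SS Q) {d : SS Q} (hd : d ∈ GO Q) : (g * d * g⁻¹).det = g.σ d.det := by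
  have h1 : g * d * g⁻¹ ∈ GO Q := (instNormalGO Q).conj_mem d hd g
  rw [SS.det_eq h1 (a := ((g * d * g⁻¹).lin (mem_GO.1 h1)).toLinearMap) fun _ => rfl,
    SS.det_eq hd (a := (d.lin (mem_GO.1 hd)).toLinearMap) fun _ => rfl]
  exact g.ext_self.det_eq fun v => by simp

instance instNormalDS : (DS Q).Normal := by
  by_cases h2 : (2 : F) = 0
  · rw [DS_of_two h2]; infer_instance
  · refine ⟨fun d hd g => ?_⟩
    rw [mem_DS h2] at hd ⊢
    exact ⟨(instNormalGO Q).conj_mem d hd.1 g, by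
      rw [SS.det_conj g hd.1, SS.conj_c g d hd.1, hd.2, map_pow]⟩

lemma sc_mem_DS (hev : Even (finrank F V)) (l : Fˣ) : SS.sc Q l ∈ DS Q := by
  by_cases h2 : (2 : F) = 0
  · rw [DS_of_two h2]; exact sc_mem_KS l
  · refine (mem_DS h2).2 ⟨rfl, ?_⟩
    rw [SS.det_sc, SS.sc_c, Units.val_pow_eq_pow_val, ← pow_mul, Nat.two_mul_div_two_of_even hev]

variable [Finite F]

section
variable (hQ : ND Q) (hE : NonExc Q)
include hQ hE

lemma ofO_mem_DS_iff {h : OG Q} : SS.ofO Q h ∈ DS Q ↔ Even (rk h) := by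
  by_cases h2 : (2 : F) = 0
  · rw [DS_of_two h2, ofO_mem_KS_iff, negOne_of_two h2, mul_one, or_self,
      mem_commutator_iff_two hQ hE h2]
  · rw [mem_DS h2, SS.det_ofO, ← det_eq_one_iff h2 hQ]
    simp [ofO_mem_GO]

lemma refl_notMem_DS {v : V} (hv : Q v ≠ 0) : SS.ofO Q (refl Q v) ∉ DS Q := by
  rw [ofO_mem_DS_iff hQ hE, rk_refl hQ hv]; decide

variable (hev : Even (finrank F V))
include hev

lemma KS_le_DS : KS Q ≤ DS Q := fun g hg => by
  obtain ⟨h, hh, l, rfl⟩ := mem_KS.1 hg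
  exact mul_mem ((ofO_mem_DS_iff hQ hE).2 (even_rk_of_mem_commutator hQ hE hh)) (sc_mem_DS hev l)

lemma mul_refl_mem_DS_iff {g : SS Q} (hg : g ∈ GO Q) {v : V} (hv : Q v ≠ 0) :
    g * SS.ofO Q (refl Q v) ∈ DS Q ↔ g ∉ DS Q := by
  by_cases h2 : (2 : F) = 0
  · obtain ⟨h, l, rfl⟩ := exists_ofO_mul_sc' hg (isSquare_of_two h2 _)
    rw [mul_assoc, ← sc_comm_of_GO (ofO_mem_GO _), ← mul_assoc, ← map_mul,
      mul_mem_cancel_right (sc_mem_DS hev l), mul_mem_cancel_right (sc_mem_DS hev l),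
      ofO_mem_DS_iff hQ hE, ofO_mem_DS_iff hQ hE, even_rk_mul_refl hQ h hv]
  · have h1 := SS.det_sq hQ hg
    rw [← Nat.div_two_mul_two_of_even hev, pow_mul] at h1
    rw [mem_DS h2, mem_DS h2, SS.det_mul hg (ofO_mem_GO _), SS.det_ofO, det_refl hv,
      SS.mul_c_of_GO hg, SS.ofO_c, mul_one]
    simp only [mul_mem hg (ofO_mem_GO _), hg, true_and]
    have h3 : (g.c : F) ^ (finrank F V / 2) ≠ 0 := pow_ne_zero _ g.c.ne_zero
    constructor
    · intro h4 h5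
      rw [h5] at h4
      exact mul_ne_zero h2 h3 (by linear_combination -h4)
    · intro h4
      rw [(sq_eq_sq_iff_eq_or_eq_neg.1 h1).resolve_left h4]; ring

lemma mul_mem_DS_iff [Nontrivial V] {g h : SS Q} (hg : g ∈ GO Q) (hh : h ∈ GO Q) :
    g * h ∈ DS Q ↔ (g ∈ DS Q ↔ h ∈ DS Q) := by
  by_cases h1 : h ∈ DS Q
  · simp [mul_mem_cancel_right h1, h1]
  · obtain ⟨v, -, hv⟩ := exists_nonsing (Q := Q) (W := ⊤)
      (fun x _ hx => hQ.eq_zero fun y => hx y trivial) top_ne_bot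
    have h2 := (mul_refl_mem_DS_iff hQ hE hev hh hv).2 h1
    have h3 : g * h = (g * SS.ofO Q (refl Q v)) * ((SS.ofO Q (refl Q v))⁻¹ *
        (h * SS.ofO Q (refl Q v)) * (SS.ofO Q (refl Q v))⁻¹⁻¹) := by
      have h4 : SS.ofO Q (refl Q v) * SS.ofO Q (refl Q v) = 1 := by
        rw [← map_mul, refl_mul_self, map_one]
      rw [inv_inv, mul_assoc _ _ (SS.ofO Q (refl Q v)), mul_assoc h, h4]
      group
    rw [h3, mul_mem_cancel_right (instNormalDS.conj_mem _ h2 _), mul_refl_mem_DS_iff hQ hE hev hg hv]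
    simp [h1]

lemma exists_DS_c [Nontrivial V] (c : Fˣ) : ∃ δ ∈ DS Q, δ.c = c := by
  have h1 : ND ((c : F) • Q) := hQ.sim (LinearEquiv.refl F V) c.ne_zero fun _ => rfl
  obtain ⟨φ, hφ⟩ := exists_isometry_of_type h1 hQ hev rfl
    ⟨fun h => h.sim (LinearEquiv.refl F V) (c : F)⁻¹ fun x => by simp,
      fun h => h.sim (LinearEquiv.refl F V) c fun _ => rfl⟩
  obtain ⟨v, -, hv⟩ := exists_nonsing (Q := Q) (W := ⊤)
    (fun x _ hx => hQ.eq_zero fun y => hx y trivial) top_ne_bot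
  by_cases h : SS.ofLin φ c hφ ∈ DS Q
  · exact ⟨_, h, rfl⟩
  · exact ⟨_, (mul_refl_mem_DS_iff hQ hE hev rfl hv).2 h, by ext; simp⟩

end

/-- image of a subspace under a semisimilarity -/
def SS.img (g : SS Q) (U : Submodule F V) : Submodule F V where
  carrier := g.γ '' U
  add_mem' := by rintro _ _ ⟨a, ha, rfl⟩ ⟨b, hb, rfl⟩; exact ⟨a + b, add_mem ha hb, map_add _ _ _⟩
  zero_mem' := ⟨0, zero_mem _, map_zero _⟩
  smul_mem' := by
    rintro c _ ⟨a, ha, rfl⟩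
    exact ⟨g.σ.symm c • a, U.smul_mem _ ha, by simp [g.map_smul]⟩

omit [FiniteDimensional F V] [Finite F] in
lemma SS.img_mul (g h : SS Q) (U : Submodule F V) : (g * h).img U = g.img (h.img U) :=
  SetLike.coe_injective (Set.image_comp g.γ h.γ _)

omit [FiniteDimensional F V] [Finite F] in
lemma SS.img_ofO (h : OG Q) (U : Submodule F V) : (SS.ofO Q h).img U = H7.img h U := rfl

omit [FiniteDimensional F V] [Finite F] in
lemma SS.img_sc (l : Fˣ) (U : Submodule F V) : (SS.sc Q l).img U = U := by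
  ext x
  constructor
  · rintro ⟨a, ha, rfl⟩; exact U.smul_mem _ ha
  · intro hx; exact ⟨(l : F)⁻¹ • x, U.smul_mem _ hx, by simp⟩

omit [FiniteDimensional F V] [Finite F] in
lemma SS.img_one (U : Submodule F V) : (1 : SS Q).img U = U :=
  SetLike.coe_injective (Set.image_id _)

lemma exists_DS_stab (hQ : ND Q) (hE : NonExc Q) {U : Submodule F V} (hU : TS Q U)
    (hU' : 2 * finrank F U = finrank F V) (c : Fˣ) : ∃ δ ∈ DS Q, δ.c = c ∧ δ.img U = U := by
  have hev : Even (finrank F V) := ⟨finrank F U, by omega⟩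
  by_cases h2 : (2 : F) = 0
  · obtain ⟨l, hl⟩ := isSquare_of_two h2 (c : F)
    have hl0 : l ≠ 0 := by rintro rfl; simp at hl
    exact ⟨_, sc_mem_DS hev (Units.mk0 l hl0), by ext; simp [hl, pow_two], SS.img_sc _ _⟩
  obtain ⟨e, f, h, hU1⟩ := hU.exists_hypSys hQ
  have h0 := h.hperp_eq_bot hU'.symm
  obtain ⟨δ, h1, h3, h4, -, -, h5⟩ := h.exists_sim c (LinearEquiv.refl F _) fun y => by
    have : (y : V) = 0 := by simpa [h0] using y.2
    simp [this]
  refine ⟨δ, (mem_DS h2).2 ⟨h1, by rw [h5, h3, ← hU']; simp⟩, h3, ?_⟩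
  have h6 : δ.img U = U.map (δ.lin h1).toLinearMap := rfl
  rw [h6]
  apply Submodule.eq_of_le_of_finrank_eq _ (LinearEquiv.finrank_map_eq _ _)
  rw [Submodule.map_le_iff_le_comap]
  nth_rewrite 1 [← hU1]
  rw [Submodule.span_le]
  rintro _ ⟨i, rfl⟩
  change δ.γ (e i) ∈ U
  rw [h4, ← hU1]
  exact Submodule.smul_mem _ _ (Submodule.subset_span ⟨i, rfl⟩)

/-- For hyperbolic forms `DS` is the stabiliser of the classes of maximal singular subspaces. -/
theorem mem_DS_iff_parity (hQ : ND Q) (hE : NonExc Q) {U : Submodule F V} (hU : TS Q U)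
    (hU' : 2 * finrank F U = finrank F V) {g : SS Q} (hg : g ∈ GO Q) :
    g ∈ DS Q ↔ Even (finrank F U - finrank F (U ⊓ g.img U : Submodule F V)) := by
  obtain ⟨δ, h1, h2, h3⟩ := exists_DS_stab hQ hE hU hU' g.c
  obtain ⟨h, hh⟩ := mem_OO.2 (show (g * δ⁻¹).σ = 1 ∧ (g * δ⁻¹).c = 1 from
    ⟨mul_mem hg (inv_mem (DS_le_GO h1)), by
      rw [SS.mul_c_of_GO hg, SS.inv_c_of_GO (DS_le_GO h1), h2, mul_inv_cancel]⟩)
  have h4 : g = SS.ofO Q h * δ := by rw [hh]; simp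
  rw [h4, mul_mem_cancel_right h1, SS.img_mul, h3, SS.img_ofO, parity_iff hQ hE hU hU',
    ofO_mem_DS_iff hQ hE]

lemma mem_DS_of_stab (hQ : ND Q) (hE : NonExc Q) {U : Submodule F V} (hU : TS Q U)
    (hU' : 2 * finrank F U = finrank F V) {g : SS Q} (hg : g ∈ GO Q) (h : g.img U = U) :
    g ∈ DS Q := by
  rw [mem_DS_iff_parity hQ hE hU hU' hg, h, inf_idem]; simp

section ext
variable {F₀ V₀ : Type*} [Field F₀] [AddCommGroup V₀] [Module F₀ V₀] [FiniteDimensional F₀ V₀]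
  [Finite F₀] {e : F₀ →+* F} {Q₀ : QuadraticForm F₀ V₀} {j : V₀ →+ V} {l : F}

omit [Finite F₀] [Finite F] [FiniteDimensional F V] in
lemma two_eq_zero_iff_of_hom (e : F₀ →+* F) : (2 : F) = 0 ↔ (2 : F₀) = 0 := by
  rw [← map_ofNat e 2, map_eq_zero]

omit [Finite F₀] [Finite F] [FiniteDimensional F V] in
lemma Ext.det_E (X : Ext e Q₀ Q j l) (g : GO Q₀) : (X.E g).det = e g.1.det := by
  rw [SS.det_eq (X.E_mem_GO g) (a := (SS.lin _ (X.E_mem_GO g)).toLinearMap) fun _ => rfl,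
    SS.det_eq g.2 (a := (g.1.lin g.2).toLinearMap) fun _ => rfl]
  exact X.det_eq fun v => X.E_j g v

theorem Ext.E_mem_DS_iff (X : Ext e Q₀ Q j l) (hQ : ND Q) (h5 : 5 ≤ finrank F V)
    (hev : Even (finrank F V)) (g : GO Q₀) : X.E g ∈ DS Q ↔ g.1 ∈ DS Q₀ := by
  by_cases h2 : (2 : F) = 0
  · have h2' := (two_eq_zero_iff_of_hom e).1 h2
    have key : ∀ g : GO Q₀, g.1 ∈ DS Q₀ → X.E g ∈ DS Q := fun g hg => by
      rw [DS_of_two h2'] at hg
      rw [DS_of_two h2]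
      exact X.E_mem_KS hg
    refine ⟨fun h => ?_, key g⟩
    by_contra hn
    have hQ₀ := X.nd hQ
    obtain ⟨v, hv⟩ := exists_Q_eq hQ₀ (by rw [← X.rank]; omega) 1
    have h3 := key (g * ⟨_, ofO_mem_GO (refl Q₀ v)⟩) ((mul_refl_mem_DS_iff hQ₀
      (nonExc_of_finrank hQ₀ (by rw [← X.rank]; omega)) (X.rank ▸ hev) g.2 (by simp [hv])).2 hn)
    rw [map_mul, mul_mem_cancel_left h, X.E_ofO, X.EO_refl] at h3
    exact refl_notMem_DS hQ (nonExc_of_finrank hQ (by omega)) (by simp [X.map_Q, hv, X.l_ne]) h3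
  · rw [mem_DS h2, mem_DS (mt (two_eq_zero_iff_of_hom e).2 h2), X.det_E, X.E_c, ← map_pow,
      e.injective.eq_iff, X.rank]
    simp [X.E_mem_GO]

end ext

end Cfsg.Agent.H7
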