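import Cfsg.Agent.H7.Classify

set_option autoImplicit false

namespace Cfsg.Agent.H7

open QuadraticMap Module Matrix

variable {F V : Type*} [Field F] [AddCommGroup V] [Module F V] {Q : QuadraticForm F V}

lemma gram_eq_toMatrix {ι : Type*} [Fintype ι] [DecidableEq ι] (β : LinearMap.BilinForm F V)
    (b : Basis ι F V) : gram β b = LinearMap.BilinForm.toMatrix b β := by
  ext i j; simp [gram]

lemma gram_comp_equiv {ι κ : Type*} [Fintype ι] [DecidableEq ι] [Fintype κ] [DecidableEq κ]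
    (β : LinearMap.BilinForm F V) (x : ι → V) (e : κ ≃ ι) :
    (gram β (x ∘ e)).det = (gram β x).det := by
  rw [← Matrix.det_submatrix_equiv_self e]; rfl

lemma isQB_bot_of_basis {k : ℕ} (b : Basis (Fin k) F V) : IsQB (⊥ : Submodule F V) b :=
  ⟨fun c hc => funext (Fintype.linearIndependent_iff.1 b.linearIndependent c hc),
    fun v => ⟨b.repr v, by simp⟩⟩

/-- Gram determinants in two bases differ by a non-zero square -/
lemma gram_det_basis {ι κ : Type*} [Fintype ι] [DecidableEq ι] [Fintype κ] [DecidableEq κ]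
    (β : LinearMap.BilinForm F V) (b : Basis ι F V) (b' : Basis κ F V) :
    ∃ c : F, c ≠ 0 ∧ (gram β b').det = c ^ 2 * (gram β b).det := by
  let e : κ ≃ ι := b'.indexEquiv b
  have h1 : (gram β b').det = (gram β (b'.reindex e)).det := by
    rw [Basis.coe_reindex, gram_comp_equiv]
  refine ⟨(b.toMatrix (b'.reindex e)).det, (Matrix.isUnit_det_of_left_inverse
    (Basis.toMatrix_mul_toMatrix_flip (b'.reindex e) b)).ne_zero, ?_⟩
  rw [h1, gram_eq_toMatrix, gram_eq_toMatrix,
    ← LinearMap.BilinForm.toMatrix_mul_basis_toMatrix b (b'.reindex e), det_mul, det_mul,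
    det_transpose]
  ring

lemma gram_det_ne_zero {ι : Type*} [Fintype ι] [DecidableEq ι] (hQ : ND Q) (b : Basis ι F V) :
    (gram (polarBilin Q) b).det ≠ 0 := by
  rw [gram_eq_toMatrix]
  exact (LinearMap.BilinForm.nondegenerate_iff_det_ne_zero b).1 hQ

lemma gram_comp_left {ι : Type*} [Fintype ι] [DecidableEq ι] (β : LinearMap.BilinForm F V)
    (b : Basis ι F V) (f g : V →ₗ[F] V) :
    (gram (β.comp f g) b).det = LinearMap.det f * LinearMap.det g * (gram β b).det := by
  rw [gram_eq_toMatrix, gram_eq_toMatrix, LinearMap.BilinForm.toMatrix_comp b b, det_mul, det_mul,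
    det_transpose, LinearMap.det_toMatrix, LinearMap.det_toMatrix]
  ring

/-- the determinant of a similarity -/
lemma det_sq_of_similarity [FiniteDimensional F V] (hQ : ND Q) (g : V →ₗ[F] V) (c : F)
    (hg : ∀ v, Q (g v) = c * Q v) : LinearMap.det g ^ 2 = c ^ finrank F V := by
  let b := Module.finBasis F V
  have h1 := gram_comp_left (polarBilin Q) b g g
  have h2 : gram (LinearMap.BilinForm.comp (polarBilin Q) g g) b = c • gram (polarBilin Q) b := by
    ext i j
    simp only [gram, of_apply, LinearMap.BilinForm.comp_apply, polarBilin_apply_apply,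
      Matrix.smul_apply, smul_eq_mul, polar, ← map_add, hg]
    ring
  rw [h2, det_smul, Fintype.card_fin] at h1
  apply mul_right_cancel₀ (gram_det_ne_zero hQ b)
  rw [h1]; ring

variable [FiniteDimensional F V] [Finite F]

/-- The discriminant of a quadratic form, as a sign. -/
noncomputable def disc (Q : QuadraticForm F V) : ℤ :=
  chi (gram (polarBilin Q) (Module.finBasis F V)).det

lemma disc_eq {ι : Type*} [Fintype ι] [DecidableEq ι] (Q : QuadraticForm F V) (b : Basis ι F V) :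
    disc Q = chi (gram (polarBilin Q) b).det := by
  obtain ⟨c, hc, h⟩ := gram_det_basis (polarBilin Q) b (Module.finBasis F V)
  rw [disc, h, map_mul, chi_sq hc, one_mul]

lemma disc_dichotomy (hQ : ND Q) : disc Q = 1 ∨ disc Q = -1 :=
  chi_dichotomy (gram_det_ne_zero hQ _)

lemma disc_mul_self (hQ : ND Q) : disc Q * disc Q = 1 :=
  chi_mul_self (gram_det_ne_zero hQ _)

lemma isSquare_gram_iff {ι : Type*} [Fintype ι] [DecidableEq ι] (hQ : ND Q) (b : Basis ι F V) :
    IsSquare (gram (polarBilin Q) b).det ↔ disc Q = 1 := by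
  rw [disc_eq Q b, chi_eq_one_iff (gram_det_ne_zero hQ b)]

variable {W : Type*} [AddCommGroup W] [Module F W] [FiniteDimensional F W]
  {Q' : QuadraticForm F W}

lemma disc_congr (e : V ≃ₗ[F] W) (he : ∀ x, Q' (e x) = Q x) : disc Q' = disc Q := by
  rw [disc_eq Q' ((Module.finBasis F V).map e), disc]
  congr 2
  ext i j
  simp [gram, polar_equiv e he]

lemma disc_prod (Q : QuadraticForm F V) (Q' : QuadraticForm F W) :
    disc (Q.prod Q') = disc Q * disc Q' := by
  rw [disc_eq _ ((Module.finBasis F V).prod (Module.finBasis F W)), disc, disc, ← map_mul,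
    ← Matrix.det_fromBlocks_zero₂₁ _ 0]
  congr 2
  ext (i | i) (j | j) <;> simp [gram]

omit [Finite F] in
lemma det_antidiag (m : ℕ) :
    (Matrix.fromBlocks 0 1 1 0 : Matrix (Fin m ⊕ Fin m) (Fin m ⊕ Fin m) F).det = (-1) ^ m := by
  have : (Matrix.fromBlocks 0 1 1 0 : Matrix (Fin m ⊕ Fin m) (Fin m ⊕ Fin m) F) =
      Matrix.fromBlocks 1 1 0 1 * Matrix.fromBlocks (-1) 0 1 1 * Matrix.fromBlocks 1 (-1) 0 1 := by
    simp [Matrix.fromBlocks_multiply]
  rw [this, det_mul, det_mul, det_fromBlocks_zero₂₁, det_fromBlocks_zero₂₁, det_fromBlocks_zero₁₂,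
    det_neg]
  simp

lemma disc_QP (m : ℕ) : disc (QP F m) = chi (-1 : F) ^ m := by
  rw [disc_eq _ (Pi.basisFun F _), ← map_pow, ← det_antidiag]
  congr 2
  ext (i | i) (j | j) <;> simp [gram, polar_QP, Pi.single_apply, Matrix.one_apply, eq_comm]

lemma HypSys.disc_eq {m : ℕ} {e f : Fin m → V} (h : HypSys Q e f) :
    disc Q = chi (-1 : F) ^ m * disc (Q.restrict (hperp Q e f)) := by
  rw [← disc_QP, ← disc_prod]
  exact disc_congr h.equiv fun x => h.Q_equiv x.1 x.2

lemma disc_QM (m : ℕ) (a b : F) :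
    disc (QM F m a b) = chi (-1 : F) ^ (m + 1) * chi (a ^ 2 - 4 * b) := by
  rw [disc_eq _ (Pi.basisFun F _)]
  have : gram (polarBilin (QM F m a b)) (Pi.basisFun F _) =
      Matrix.fromBlocks (Matrix.fromBlocks 0 1 1 0) 0 0 !![2, a; a, 2 * b] := by
    ext ((i | i) | i) ((j | j) | j) <;>
      simp [gram, polar_QM, Pi.single_apply, Matrix.one_apply, eq_comm]
    fin_cases i <;> fin_cases j <;> simp
  rw [this, det_fromBlocks_zero₂₁, det_antidiag, det_fin_two_of, ← map_pow, ← map_mul]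
  congr 1; ring

lemma disc_QM_aniso (h2 : (2 : F) ≠ 0) (m : ℕ) {a b : F}
    (hab : ∀ z₁ z₂ : F, z₁ ^ 2 + a * z₁ * z₂ + b * z₂ ^ 2 = 0 → z₁ = 0 ∧ z₂ = 0) :
    disc (QM F m a b) = - chi (-1 : F) ^ (m + 1) := by
  rw [disc_QM, chi_eq_neg_one_iff.2 (not_isSquare_disc h2 hab)]; ring

lemma chi_neg_one_pow_mul_self (m : ℕ) : chi (-1 : F) ^ m * chi (-1 : F) ^ m = 1 := by
  rw [← mul_pow, chi_mul_self (by simp), one_pow]

/-- In odd characteristic the type of an even-dimensional form is read off the discriminant. -/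
lemma plusType_iff_disc (h2 : (2 : F) ≠ 0) (hQ : ND Q) {m : ℕ} (hV : finrank F V = 2 * m) :
    PlusType Q ↔ disc Q = chi (-1 : F) ^ m := by
  constructor
  · intro h
    obtain ⟨φ, hφ⟩ := exists_equiv_QP hQ hV h
    rw [disc_congr φ hφ, disc_QP]
  · intro h
    by_contra hp
    have hm0 : m ≠ 0 := by
      rintro rfl
      exact hp ⟨⊥, fun u hu => by simp_all, by simpa using hV.symm⟩
    obtain ⟨m, rfl⟩ := Nat.exists_eq_succ_of_ne_zero hm0
    obtain ⟨ζ, hζ, φ, hφ⟩ := exists_equiv_QM_one hQ (m := m) (by omega) hp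
    rw [disc_congr φ hφ, disc_QM_aniso h2 m (aniso_of_no_root hζ)] at h
    have := chi_neg_one_pow_mul_self (F := F) (m + 1)
    rw [Nat.succ_eq_add_one] at h
    have h0 : chi (-1 : F) ^ (m + 1) = 0 := by linarith
    rw [h0] at this
    simp at this

omit [FiniteDimensional F V] in
lemma disc_span_singleton {x : V} (hx : x ≠ 0) : disc (Q.restrict (F ∙ x)) = chi (2 * Q x) := by
  rw [disc_eq _ (FiniteDimensional.basisSingleton Unit (finrank_span_singleton hx)
    ⟨x, Submodule.mem_span_singleton_self x⟩ (by simpa using hx))]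
  simp [gram]

/-- Classification of non-degenerate forms over a finite field of odd order. -/
theorem exists_isometry_of_disc (h2 : (2 : F) ≠ 0) (hQ : ND Q) (hQ' : ND Q')
    (hd : finrank F V = finrank F W) (h : disc Q = disc Q') :
    ∃ φ : V ≃ₗ[F] W, ∀ x, Q' (φ x) = Q x := by
  rcases Nat.even_or_odd' (finrank F V) with ⟨m, hm | hm⟩
  · refine exists_isometry_of_type hQ hQ' ⟨m, by omega⟩ hd ?_
    rw [plusType_iff_disc h2 hQ hm, plusType_iff_disc h2 hQ' (hd ▸ hm), h]
  · obtain ⟨e, f, x, hef, hx, hx'⟩ := exists_hypSys_odd hQ hm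
    obtain ⟨e', f', y, hef', hy, hy'⟩ := exists_hypSys_odd hQ' (hd ▸ hm)
    have hx0 : x ≠ 0 := by rintro rfl; simp at hx
    have hy0 : y ≠ 0 := by rintro rfl; simp at hy
    rw [hef.disc_eq, hef'.disc_eq, hx', hy', disc_span_singleton hx0, disc_span_singleton hy0] at h
    have h3 : chi (2 * Q' y) = chi (2 * Q x) := by
      have := chi_neg_one_pow_mul_self (F := F) m
      calc chi (2 * Q' y) = chi (-1 : F) ^ m * (chi (-1 : F) ^ m * chi (2 * Q' y)) := by
            rw [← mul_assoc, this, one_mul]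
        _ = chi (2 * Q x) := by rw [← h, ← mul_assoc, this, one_mul]
    obtain ⟨c, hc, hcc⟩ := exists_sq_mul_of_chi_eq (mul_ne_zero h2 hy) h3
    have hcc' : Q x = c ^ 2 * Q' y := by
      apply mul_left_cancel₀ h2; rw [hcc]; ring
    let ψ : hperp Q e f ≃ₗ[F] hperp Q' e' f' :=
      (LinearEquiv.ofEq _ _ hx').trans ((LinearEquiv.toSpanNonzeroSingleton F V x hx0).symm.trans
        ((LinearEquiv.smulOfNeZero F F c hc).trans
          ((LinearEquiv.toSpanNonzeroSingleton F W y hy0).trans (LinearEquiv.ofEq _ _ hy'.symm))))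
    have hψ : ∀ z, Q' (ψ z) = Q z := by
      rintro ⟨z, hz⟩
      have hz' := hz
      rw [hx'] at hz'
      obtain ⟨t, rfl⟩ := Submodule.mem_span_singleton.1 hz'
      have h4 : (LinearEquiv.toSpanNonzeroSingleton F V x hx0).symm ⟨t • x, hz'⟩ = t := by
        rw [LinearEquiv.symm_apply_eq]; rfl
      have h5 : (ψ ⟨t • x, hz⟩ : W) = (c * t) • y := by
        simp only [ψ, LinearEquiv.trans_apply]
        rw [show LinearEquiv.ofEq _ _ hx' ⟨t • x, hz⟩ = ⟨t • x, hz'⟩ from rfl, h4]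
        rfl
      rw [h5, Q_smul, Q_smul, hcc']; ring
    refine ⟨hef.equiv.symm.trans (((LinearEquiv.refl F _).prodCongr ψ).trans hef'.equiv), fun v => ?_⟩
    obtain ⟨⟨c, z⟩, rfl⟩ := hef.equiv.surjective v
    simp only [LinearEquiv.trans_apply, LinearEquiv.symm_apply_apply, LinearEquiv.prodCongr_apply,
      LinearEquiv.refl_apply]
    rw [hef.Q_equiv, hef'.Q_equiv, hψ]

/-- The spinor norm of an isometry without fixed vectors. -/
lemma theta_of_fix_bot {g : OG Q} (h : fixS g = ⊥) :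
    theta g = chi (LinearMap.det (LinearMap.id - g.1.toLinearMap)) * disc Q := by
  rw [theta_eq g (x := Module.finBasis F V) (h ▸ isQB_bot_of_basis _), wall, gram_comp_left,
    LinearMap.det_id, mul_one, map_mul, disc]

omit [FiniteDimensional F V] [Finite F] in
/-- minus the identity -/
def negOne (Q : QuadraticForm F V) : OG Q := ⟨LinearEquiv.neg F, fun v => by simp⟩

omit [FiniteDimensional F V] [Finite F] in
@[simp] lemma negOne_apply (x : V) : (negOne Q).1 x = -x := rfl

omit [FiniteDimensional F V] [Finite F] in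
lemma fixS_negOne (h2 : (2 : F) ≠ 0) : fixS (negOne Q) = ⊥ := by
  rw [eq_bot_iff]; intro x hx
  rw [mem_fixS, negOne_apply, neg_eq_iff_add_eq_zero, ← two_smul F, smul_eq_zero] at hx
  exact hx.resolve_left h2

omit [Finite F] in
lemma rk_negOne (h2 : (2 : F) ≠ 0) : rk (negOne Q) = finrank F V := by
  rw [← rk_add_fix (negOne Q), fixS_negOne h2]; simp

lemma theta_negOne (h2 : (2 : F) ≠ 0) (hev : Even (finrank F V)) : theta (negOne Q) = disc Q := by
  rw [theta_of_fix_bot (fixS_negOne h2)]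
  have : LinearMap.id - (negOne Q).1.toLinearMap = (2 : F) • LinearMap.id := by
    ext x; simp [two_smul]
  obtain ⟨k, hk⟩ := hev
  rw [this, LinearMap.det_smul, LinearMap.det_id, mul_one, hk, pow_add, ← pow_two,
    chi_sq (pow_ne_zero _ h2), one_mul]

lemma negOne_mem_iff (h2 : (2 : F) ≠ 0) (hQ : ND Q) (hev : Even (finrank F V)) :
    negOne Q ∈ commutator (OG Q) ↔ disc Q = 1 := by
  rw [mem_commutator_iff hQ (nonExc_of_two hQ h2), rk_negOne h2, theta_negOne h2 hev]
  simp [hev]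

end Cfsg.Agent.H7

namespace Cfsg.Agent.H7

variable {F : Type*} [Field F]

lemma chi_neg_one_eq [Fintype F] {q : ℕ} (hF : Fintype.card F = q) (hq : Odd q) :
    (q % 4 = 1 ∧ chi (-1 : F) = 1) ∨ (q % 4 = 3 ∧ chi (-1 : F) = -1) := by
  have h := FiniteField.isSquare_neg_one_iff (F := F)
  rw [hF] at h
  rw [Nat.odd_iff] at hq
  by_cases h3 : q % 4 = 3
  · right; exact ⟨h3, chi_eq_neg_one_iff.2 (by rw [h]; simpa using h3)⟩
  · left; exact ⟨by omega, (chi_eq_one_iff (by simp)).2 (h.2 h3)⟩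

lemma chi_neg_one_pow_eq_one_iff [Fintype F] {q : ℕ} (hF : Fintype.card F = q) (hq : Odd q)
    (m : ℕ) : chi (-1 : F) ^ m = 1 ↔ q ^ m % 4 = 1 := by
  rcases chi_neg_one_eq hF hq with ⟨h1, h2⟩ | ⟨h1, h2⟩
  · simp [h2, Nat.pow_mod, h1]
  · rw [h2, Nat.pow_mod, h1]
    rcases Nat.even_or_odd' m with ⟨k, rfl | rfl⟩
    · simp [pow_mul, Nat.pow_mod]
    · simp [pow_succ, pow_mul, Nat.mul_mod, Nat.pow_mod]

lemma chi_neg_one_pow_eq_one_iff' [Fintype F] {q : ℕ} (hF : Fintype.card F = q) (hq : Odd q)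
    (m : ℕ) : chi (-1 : F) ^ m = 1 ↔ Even (m * (q - 1) / 2) := by
  rcases chi_neg_one_eq hF hq with ⟨h1, h2⟩ | ⟨h1, h2⟩
  · obtain ⟨k, rfl⟩ : ∃ k, q = 4 * k + 1 := ⟨q / 4, by omega⟩
    have : m * (4 * k + 1 - 1) / 2 = 2 * (m * k) := by
      rw [Nat.add_sub_cancel, show m * (4 * k) = 2 * (2 * (m * k)) by ring]; omega
    rw [h2, this]; simp
  · obtain ⟨k, rfl⟩ : ∃ k, q = 4 * k + 3 := ⟨q / 4, by omega⟩
    have : m * (4 * k + 3 - 1) / 2 = m * (2 * k + 1) := by
      rw [show 4 * k + 3 - 1 = 2 * (2 * k + 1) by omega,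
        show m * (2 * (2 * k + 1)) = 2 * (m * (2 * k + 1)) by ring]; omega
    rw [h2, this, Nat.even_mul, neg_one_pow_eq_one_iff_even (by decide)]
    simp

end Cfsg.Agent.H7
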