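import Cfsg.Agent.H7.E8G1
import Cfsg.Agent.S2662

/-!
The root system E8: kernel computations.
-/

set_option autoImplicit false
set_option maxRecDepth 100000

namespace Cfsg.Agent.H7.E8

open Cfsg.Agent.H9.Chev Cfsg.Lie Finset Cfsg.Agent.H4

noncomputable def dE8 (F : Type*) [Field F] : Dat chevE8.Idx (Fin 240) 8 F := S2662.goodE8.dat F

lemma axE8 (F : Type*) [Field F] : (dE8 F).Ax := S2662.goodE8.ax F

noncomputable def rt8 : Fin 240 → Fin 8 → ℤ := (dE8 ℚ).rt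

/-- the invariant form -/
noncomputable def bE (v w : Fin 8 → ℤ) : ℤ := ∑ i, v i * (dE8 ℚ).pr i w

lemma A_E8 : (dE8 ℚ).A = ![![2, 0, -1, 0, 0, 0, 0, 0], ![0, 2, 0, -1, 0, 0, 0, 0],
    ![-1, 0, 2, -1, 0, 0, 0, 0], ![0, -1, -1, 2, -1, 0, 0, 0], ![0, 0, 0, -1, 2, -1, 0, 0],
    ![0, 0, 0, 0, -1, 2, -1, 0], ![0, 0, 0, 0, 0, -1, 2, -1], ![0, 0, 0, 0, 0, 0, -1, 2]] := by
  decide +kernel

lemma gcd1 : ∀ r, univ.gcd (rt8 r) = 1 := by decide +kernel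

lemma gcd2 : ∀ r i, rt8 r = Pi.single i 1 ∨ rt8 r = -Pi.single i 1 ∨
    univ.gcd (rt8 r - Pi.single i 1) = 1 := by decide +kernel

lemma sgn8 : ∀ r, (∀ i, 0 ≤ rt8 r i) ∨ ∀ i, rt8 r i ≤ 0 := by decide +kernel

lemma hi8 : ∃ r, ∀ i, 0 < rt8 r i := by decide +kernel

lemma d60 : ∀ i j, (60 : ℤ) ∣ ∑ r, rt8 r i * rt8 r j := by decide +kernel

lemma trans0 : ∀ r, r = (dE8 ℚ).sm 0 ∨ ∃ p, f8 pkE8.rk ((dE8 ℚ).w p r) < f8 pkE8.rk r := by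
  decide +kernel

lemma tor3 : ∀ a ∈ ([![1, 0, 0, 0, 0, 0, 0, 0], ![0, 1, 0, 0, 0, 0, 0, 0], ![0, 0, 0, 0, 0, 0, 1, 0],
    ![0, 0, 0, 0, 0, 0, 0, 1]] : List (Fin 8 → ZMod 3)), #{r | H6A.evZ a (rt8 r) = 0} ≤ 126 := by
  decide +kernel

/-- a weight modulo 17 -/
noncomputable def x17 (a b c d e f g h r : ℕ) : ℕ := frc (f32 pkE8.G (8 + r)) fun G =>
  (a * (f4 G 0 + 9) + b * (f4 G 1 + 9) + c * (f4 G 2 + 9) + d * (f4 G 3 + 9) + e * (f4 G 4 + 9) +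
    f * (f4 G 5 + 9) + g * (f4 G 6 + 9) + h * (f4 G 7 + 9)) % 17

noncomputable def c17 (a b c d e f g h : ℕ) : Bool :=
  bor (Nat.beq (a + b + c + d + e + f + g + h) 0) (bnot (zI (sumI 240 fun r =>
    frc (x17 a b c d e f g h r) fun x => Int.subNatNat (256 ^ x) (256 ^ (3 * x % 17)))))

noncomputable def lp (m s : ℕ) (k : ℕ → ℕ → Bool) : Bool :=
  allLt 9 fun a => frc a fun a => frc (s + m * a) fun s => bimp (Nat.ble s 17) (k a s)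

theorem ck17 : (lp 2 0 fun a s => lp 3 s fun b s => lp 4 s fun c s => lp 6 s fun d s =>
    lp 5 s fun e s => lp 4 s fun f s => lp 3 s fun g s => lp 2 s fun h _ =>
      c17 a b c d e f g h) = true := by
  decide +kernel

end Cfsg.Agent.H7.E8
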