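import Cfsg.Agent.H7.AutBridge
import Cfsg.Agent.H6.Galois

/-!
Extension of scalars for quadratic spaces, in the form of a semilinear comparison map.
-/

set_option autoImplicit false

namespace Cfsg.Agent.H7

open QuadraticMap Module

variable {F₀ F V₀ V : Type*} [Field F₀] [Field F] [AddCommGroup V₀] [Module F₀ V₀]
  [AddCommGroup V] [Module F V]

/-- `(V, Q)` is obtained from `(V₀, l Q₀)` by extension of scalars along `e`. -/
structure Ext (e : F₀ →+* F) (Q₀ : QuadraticForm F₀ V₀) (Q : QuadraticForm F V) (j : V₀ →+ V)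
    (l : F) : Prop where
  l_ne : l ≠ 0
  smul : ∀ a v, j (a • v) = e a • j v
  map_Q : ∀ v, Q (j v) = l * e (Q₀ v)
  span : Submodule.span F (Set.range j) = ⊤
  rank : finrank F V = finrank F₀ V₀

lemma quad_ext_of_span {S : AddSubgroup V} (hS : Submodule.span F (S : Set V) = ⊤)
    {Q Q' : QuadraticForm F V} (h : ∀ x ∈ S, Q x = Q' x) : Q = Q' := by
  have h1 : polarBilin Q = polarBilin Q' := by
    refine LinearMap.ext_on hS fun x hx => LinearMap.ext_on hS fun y hy => ?_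
    simp only [polarBilin_apply_apply, polar, h x hx, h y hy, h _ (add_mem hx hy)]
  ext x
  have hx : x ∈ Submodule.span F (S : Set V) := hS ▸ trivial
  induction hx using Submodule.span_induction with
  | mem x hx => exact h x hx
  | zero => simp
  | add x y _ _ h2 h3 =>
    rw [Q_add, Q_add, h2, h3, ← polarBilin_apply_apply, h1, polarBilin_apply_apply]
  | smul a x _ h2 => rw [Q_smul, Q_smul, h2]

lemma PlusType.sim {W : Type*} [AddCommGroup W] [Module F W] {Q : QuadraticForm F V}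
    {Q' : QuadraticForm F W} (h : PlusType Q) (ψ : V ≃ₗ[F] W) (c : F)
    (hψ : ∀ x, Q' (ψ x) = c * Q x) : PlusType Q' := by
  obtain ⟨U, hU, h1⟩ := h
  refine ⟨U.map ψ.toLinearMap, ?_, by rw [LinearEquiv.finrank_map_eq, h1, ψ.finrank_eq]⟩
  rintro _ ⟨u, hu, rfl⟩
  simp [hψ, hU u hu]

lemma ND.sim {W : Type*} [AddCommGroup W] [Module F W] {Q : QuadraticForm F V}
    {Q' : QuadraticForm F W} (h : ND Q) (ψ : V ≃ₗ[F] W) {c : F} (hc : c ≠ 0)
    (hψ : ∀ x, Q' (ψ x) = c * Q x) : ND Q' := by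
  apply nd_of
  intro x hx
  obtain ⟨x, rfl⟩ := ψ.surjective x
  rw [h.eq_zero (x := x) fun y => ?_, map_zero]
  have := hx (ψ y)
  simp only [polar, ← map_add, hψ] at this ⊢
  exact (mul_eq_zero.1 (by linear_combination this)).resolve_left hc

namespace Ext

variable {e : F₀ →+* F} {Q₀ : QuadraticForm F₀ V₀} {Q : QuadraticForm F V} {j : V₀ →+ V} {l : F}

lemma map_B (X : Ext e Q₀ Q j l) (x y : V₀) : polar Q (j x) (j y) = l * e (polar Q₀ x y) := by
  simp only [polar, ← map_add, X.map_Q, map_sub]; ring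

lemma lin_ext (X : Ext e Q₀ Q j l) {W : Type*} [AddCommGroup W] [Module F W] {a b : V →ₗ[F] W}
    (h : ∀ v, a (j v) = b (j v)) : a = b :=
  LinearMap.ext_on X.span (by rintro _ ⟨v, rfl⟩; exact h v)

lemma quad_ext (X : Ext e Q₀ Q j l) {Q₁ Q₂ : QuadraticForm F V} (h : ∀ v, Q₁ (j v) = Q₂ (j v)) :
    Q₁ = Q₂ :=
  quad_ext_of_span (S := j.range) X.span (by rintro _ ⟨v, rfl⟩; exact h v)

lemma comp (X : Ext e Q₀ Q j l) {W₀ : Type*} [AddCommGroup W₀] [Module F₀ W₀]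
    {Q₁ : QuadraticForm F₀ W₀} (ψ : W₀ ≃ₗ[F₀] V₀) {c : F₀} (hc : c ≠ 0)
    (hψ : ∀ x, Q₀ (ψ x) = c * Q₁ x) : Ext e Q₁ Q (j.comp ψ.toLinearMap.toAddMonoidHom) (l * e c) where
  l_ne := mul_ne_zero X.l_ne (by simpa using hc)
  smul a v := by simp [X.smul]
  map_Q v := by simp [X.map_Q, hψ, mul_assoc]
  span := by
    rw [← X.span]
    congr 1
    exact ψ.surjective.range_comp j
  rank := by rw [X.rank, ψ.finrank_eq]

lemma hypSys (X : Ext e Q₀ Q j l) {ι : Type*} [DecidableEq ι] {a b : ι → V₀}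
    (h : HypSys Q₀ a b) : HypSys Q (fun i => j (a i)) (fun i => l⁻¹ • j (b i)) where
  Qe i := by simp [X.map_Q, h.Qe]
  Qf i := by simp [Q_smul, X.map_Q, h.Qf]
  ee i k := by simp [X.map_B, h.ee]
  ff i k := by simp [X.map_B, h.ff]
  ef i k := by
    rw [B_smul_right, X.map_B, h.ef]
    split_ifs <;> simp [X.l_ne]

lemma sum (X : Ext e Q₀ Q j l) {ι : Type*} [Fintype ι] (b₀ : Basis ι F₀ V₀) (v : V₀) :
    j v = ∑ i, e (b₀.repr v i) • j (b₀ i) := by
  conv_lhs => rw [← b₀.sum_repr v, map_sum]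
  simp only [X.smul]

variable [FiniteDimensional F₀ V₀]

/-- the basis of the extension attached to a basis of the form -/
noncomputable def basis (X : Ext e Q₀ Q j l) {ι : Type*} [Fintype ι] (b₀ : Basis ι F₀ V₀) :
    Basis ι F V :=
  basisOfTopLeSpanOfCardEqFinrank (fun i => j (b₀ i)) (by
    rw [← X.span, Submodule.span_le]
    rintro _ ⟨v, rfl⟩
    rw [X.sum b₀]
    exact Submodule.sum_mem _ fun i _ => Submodule.smul_mem _ _ (Submodule.subset_span ⟨i, rfl⟩))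
    (by rw [X.rank, finrank_eq_card_basis b₀])

omit [FiniteDimensional F₀ V₀] in
@[simp] lemma basis_apply (X : Ext e Q₀ Q j l) {ι : Type*} [Fintype ι] (b₀ : Basis ι F₀ V₀)
    (i : ι) : X.basis b₀ i = j (b₀ i) := by simp [basis]

omit [FiniteDimensional F₀ V₀] in
lemma repr_j (X : Ext e Q₀ Q j l) {ι : Type*} [Fintype ι] (b₀ : Basis ι F₀ V₀) (v : V₀) (i : ι) :
    (X.basis b₀).repr (j v) i = e (b₀.repr v i) := by
  rw [X.sum b₀ v]
  simp_rw [← X.basis_apply b₀]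
  exact congrFun ((X.basis b₀).repr_sum_self _) i

lemma finiteDimensional (X : Ext e Q₀ Q j l) : FiniteDimensional F V :=
  Module.Finite.of_basis (X.basis (finBasis F₀ V₀))

lemma injective (X : Ext e Q₀ Q j l) : Function.Injective j := by
  intro x y h
  apply (finBasis F₀ V₀).repr.injective
  ext i
  apply e.injective
  rw [← X.repr_j, ← X.repr_j, h]

lemma nd (X : Ext e Q₀ Q j l) (hQ : ND Q) : ND Q₀ := by
  apply nd_of
  intro x hx
  apply X.injective
  rw [map_zero]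
  apply hQ.eq_zero
  intro y
  have : polarBilin Q (j x) = 0 := X.lin_ext fun v => by simp [X.map_B, hx]
  exact LinearMap.congr_fun this y

variable {W : Type*} [AddCommGroup W] [Module F W]

/-- linear extension of a semilinear map -/
noncomputable def lift (X : Ext e Q₀ Q j l) (φ : V₀ → W) : V →ₗ[F] W :=
  (X.basis (finBasis F₀ V₀)).constr F fun i => φ (finBasis F₀ V₀ i)

lemma lift_j (X : Ext e Q₀ Q j l) (φ : V₀ →+ W) (hφ : ∀ a v, φ (a • v) = e a • φ v) (v : V₀) :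
    X.lift φ (j v) = φ v := by
  conv_rhs => rw [← (finBasis F₀ V₀).sum_repr v]
  rw [X.sum (finBasis F₀ V₀) v]
  simp_rw [← X.basis_apply (finBasis F₀ V₀)]
  simp only [map_sum, map_smul, lift, Basis.constr_basis, hφ]

/-- Two extensions of the same form are similar. -/
lemma exists_equiv (X : Ext e Q₀ Q j l) {Q' : QuadraticForm F W} {j' : V₀ →+ W} {l' : F}
    (X' : Ext e Q₀ Q' j' l') :
    ∃ ψ : V ≃ₗ[F] W, (∀ v, ψ (j v) = j' v) ∧ ∀ x, Q' (ψ x) = l' / l * Q x := by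
  let ψ : V ≃ₗ[F] W := LinearEquiv.ofLinearMap (X.lift j') (X'.lift j)
    (X'.lin_ext fun v => by simp [X.lift_j j' X'.smul, X'.lift_j j X.smul])
    (X.lin_ext fun v => by simp [X.lift_j j' X'.smul, X'.lift_j j X.smul])
  have h1 : ∀ v, ψ (j v) = j' v := X.lift_j j' X'.smul
  refine ⟨ψ, h1, fun x => ?_⟩
  have : Q'.comp ψ.toLinearMap = (l' / l) • Q := X.quad_ext fun v => by
    simp [h1, X.map_Q, X'.map_Q]
    field_simp [X.l_ne]
  exact DFunLike.congr_fun this x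

lemma det_eq (X : Ext e Q₀ Q j l) {g₀ : V₀ →ₗ[F₀] V₀} {g : V →ₗ[F] V}
    (h : ∀ v, g (j v) = j (g₀ v)) : LinearMap.det g = e (LinearMap.det g₀) := by
  classical
  rw [← LinearMap.det_toMatrix (X.basis (finBasis F₀ V₀)),
    ← LinearMap.det_toMatrix (finBasis F₀ V₀), RingHom.map_det]
  congr 1
  ext a b
  simp [LinearMap.toMatrix_apply, h, X.repr_j]

/-- extension of a linear automorphism -/
noncomputable def liftE (X : Ext e Q₀ Q j l) : (V₀ ≃ₗ[F₀] V₀) →* (V ≃ₗ[F] V) :=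
  (LinearMap.GeneralLinearGroup.generalLinearEquiv F V).toMonoidHom.comp
    ((Units.map
      { toFun := fun g : Module.End F₀ V₀ => (X.lift (j.comp g.toAddMonoidHom) : Module.End F V)
        map_one' := X.lin_ext fun v => X.lift_j _ (fun a v => by simp [X.smul]) v
        map_mul' := fun g h => X.lin_ext fun v => by
          rw [Module.End.mul_apply, X.lift_j _ (fun a v => by simp [X.smul]),
            X.lift_j _ (fun a v => by simp [X.smul])]
          exact (X.lift_j (j.comp g.toAddMonoidHom) (fun a v => by simp [X.smul]) _).symm }).comp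
    (LinearMap.GeneralLinearGroup.generalLinearEquiv F₀ V₀).symm.toMonoidHom)

lemma liftE_j (X : Ext e Q₀ Q j l) (g : V₀ ≃ₗ[F₀] V₀) (v : V₀) : X.liftE g (j v) = j (g v) :=
  X.lift_j (j.comp g.toLinearMap.toAddMonoidHom) (fun a v => by simp [X.smul]) v

lemma Q_liftE (X : Ext e Q₀ Q j l) (g : V₀ ≃ₗ[F₀] V₀) {c : F₀} (h : ∀ v, Q₀ (g v) = c * Q₀ v)
    (x : V) : Q (X.liftE g x) = e c * Q x := by
  have : Q.comp (X.liftE g).toLinearMap = e c • Q := X.quad_ext fun v => by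
    simp [X.liftE_j, X.map_Q, h]; ring
  exact DFunLike.congr_fun this x

/-- extension of isometries -/
noncomputable def EO (X : Ext e Q₀ Q j l) : OG Q₀ →* OG Q :=
  (X.liftE.comp (OG Q₀).subtype).codRestrict _ fun g x => by
    simpa using X.Q_liftE g.1 (c := 1) (by simp) x

lemma EO_j (X : Ext e Q₀ Q j l) (g : OG Q₀) (v : V₀) : (X.EO g).1 (j v) = j (g.1 v) :=
  X.liftE_j g.1 v

lemma EO_refl (X : Ext e Q₀ Q j l) (v : V₀) : X.EO (refl Q₀ v) = refl Q (j v) := by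
  refine Subtype.ext (LinearEquiv.toLinearMap_injective (X.lin_ext fun x => ?_))
  change (X.EO (refl Q₀ v)).1 (j x) = (refl Q (j v)).1 (j x)
  rw [EO_j, refl_apply, refl_apply, map_sub, X.smul, X.map_Q, X.map_B, map_mul, map_inv₀]
  congr 2
  by_cases h : e (Q₀ v) = 0
  · simp [h]
  · field_simp [X.l_ne]

/-- extension of similarities -/
noncomputable def E (X : Ext e Q₀ Q j l) : GO Q₀ →* SS Q where
  toFun g := SS.ofLin (X.liftE (g.1.lin (mem_GO.1 g.2))) (Units.map (e : F₀ →* F) g.1.c)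
    (X.Q_liftE _ fun v => by simp [g.1.map_Q, mem_GO.1 g.2])
  map_one' := SS.ext rfl (by simp) (by
    ext x
    change X.liftE (SS.lin 1 rfl) x = x
    rw [show SS.lin (1 : SS Q₀) rfl = 1 from rfl, map_one]; rfl)
  map_mul' g h := SS.ext rfl (by
    ext
    change e (g.1.c * g.1.σ h.1.c) = e g.1.c * e h.1.c
    simp [mem_GO.1 g.2]) (by
    ext x
    change X.liftE (SS.lin (g * h).1 (g * h).2) x = X.liftE _ (X.liftE _ x)
    rw [show SS.lin (g * h).1 (g * h).2 = g.1.lin g.2 * h.1.lin h.2 from rfl, map_mul]; rfl)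

@[simp] lemma E_σ (X : Ext e Q₀ Q j l) (g : GO Q₀) : (X.E g).σ = 1 := rfl
@[simp] lemma E_c (X : Ext e Q₀ Q j l) (g : GO Q₀) : ((X.E g).c : F) = e g.1.c := rfl
lemma E_j (X : Ext e Q₀ Q j l) (g : GO Q₀) (v : V₀) : (X.E g).γ (j v) = j (g.1.γ v) :=
  X.liftE_j _ v

lemma E_mem_GO (X : Ext e Q₀ Q j l) (g : GO Q₀) : X.E g ∈ GO Q := rfl

omit [FiniteDimensional F₀ V₀] in
lemma ss_ext (X : Ext e Q₀ Q j l) {g h : SS Q} (h1 : g.σ = h.σ) (h2 : g.c = h.c)
    (h3 : ∀ v, g.γ (j v) = h.γ (j v)) : g = h := by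
  refine SS.ext h1 h2 (AddEquiv.ext fun x => ?_)
  have hx : x ∈ Submodule.span F (Set.range j) := X.span ▸ trivial
  induction hx using Submodule.span_induction with
  | mem x hx => obtain ⟨v, rfl⟩ := hx; exact h3 v
  | zero => simp
  | add x y _ _ h4 h5 => rw [map_add, map_add, h4, h5]
  | smul a x _ h4 => rw [g.map_smul, h.map_smul, h4, h1]

lemma E_ofO (X : Ext e Q₀ Q j l) (g : OG Q₀) : X.E ⟨SS.ofO Q₀ g, rfl⟩ = SS.ofO Q (X.EO g) :=
  X.ss_ext rfl (by ext; simp) fun v => by rw [E_j, SS.ofO_apply, SS.ofO_apply, EO_j]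

lemma E_sc (X : Ext e Q₀ Q j l) (a : F₀ˣ) :
    X.E ⟨SS.sc Q₀ a, rfl⟩ = SS.sc Q (Units.map (e : F₀ →* F) a) :=
  X.ss_ext rfl (by ext; simp) fun v => by simp [E_j, X.smul]

lemma E_mem_KS (X : Ext e Q₀ Q j l) {g : GO Q₀} (hg : g.1 ∈ KS Q₀) : X.E g ∈ KS Q := by
  obtain ⟨h, hh, a, e1⟩ := mem_KS.1 hg
  have : g = ⟨SS.ofO Q₀ h, rfl⟩ * ⟨SS.sc Q₀ a, rfl⟩ := Subtype.ext e1
  rw [this, map_mul, E_ofO, E_sc]
  exact mul_mem (ofO_mem_KS (map_mem_commutator _ hh)) (sc_mem_KS _)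

lemma E_mem_ZS_iff (X : Ext e Q₀ Q j l) (hQ : ND Q₀) [Nontrivial V₀] {g : GO Q₀} :
    X.E g ∈ ZS Q ↔ g.1 ∈ ZS Q₀ := by
  constructor
  · rintro ⟨a, ha⟩
    have h1 : ∀ v, j (g.1.γ v) = (a : F) • j v := fun v => by rw [← X.E_j, ← ha]; rfl
    let b := finBasis F₀ V₀
    obtain ⟨i⟩ : Nonempty (Fin (finrank F₀ V₀)) := ⟨⟨0, finrank_pos⟩⟩
    have h2 := congrArg (fun x => (X.basis b).repr x i) (h1 (b i))
    simp only [map_smul, X.repr_j, Basis.repr_self, Finsupp.smul_apply, Finsupp.single_eq_same,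
      map_one, smul_eq_mul, mul_one] at h2
    have h3 : b.repr (g.1.γ (b i)) i ≠ 0 := fun h => a.ne_zero (by rw [← h2, h, map_zero])
    refine ⟨Units.mk0 _ h3, SS.ext_of_apply hQ fun v => X.injective ?_⟩
    rw [h1, ← h2, SS.sc_apply, X.smul]; rfl
  · rintro ⟨a, ha⟩
    have : g = ⟨SS.sc Q₀ a, rfl⟩ := Subtype.ext ha.symm
    exact ⟨_, by rw [this, E_sc]⟩

lemma plusType (X : Ext e Q₀ Q j l) (hQ : ND Q₀) (h : PlusType Q₀) : PlusType Q := by
  obtain ⟨U, hU, h1⟩ := h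
  obtain ⟨a, b, hab, -⟩ := hU.exists_hypSys hQ
  refine ⟨_, (X.hypSys hab).ts_span, ?_⟩
  rw [finrank_span_eq_card (X.hypSys hab).linearIndependent_e, X.rank, ← h1, Fintype.card_fin]

end Ext

/-- a semisimilarity is an extension along its field automorphism -/
lemma SS.ext_self {Q : QuadraticForm F V} (g : SS Q) : Ext (g.σ : F →+* F) Q Q (g.γ : V →+ V) g.c :=
  ⟨g.c.ne_zero, g.map_smul, g.map_Q, by
    rw [show Set.range (g.γ : V →+ V) = Set.univ from g.γ.surjective.range_eq,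
      Submodule.span_univ], rfl⟩

section std
variable {ι : Type*} [Fintype ι]

/-- entrywise application of a field homomorphism -/
def piMap (ι : Type*) (e : F₀ →+* F) : (ι → F₀) →+ (ι → F) :=
  (e : F₀ →+ F).compLeft ι

omit [Fintype ι] in
@[simp] lemma piMap_apply (e : F₀ →+* F) (v : ι → F₀) (i : ι) : piMap ι e v i = e (v i) := rfl

lemma ext_std (e : F₀ →+* F) {Q₀ : QuadraticForm F₀ (ι → F₀)} {Q : QuadraticForm F (ι → F)}
    (h : ∀ v, Q (fun i => e (v i)) = e (Q₀ v)) : Ext e Q₀ Q (piMap ι e) 1 where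
  l_ne := one_ne_zero
  smul a v := by ext i; simp
  map_Q v := by rw [one_mul]; exact h v
  span := by
    classical
    rw [eq_top_iff, ← (Pi.basisFun F ι).span_eq, Submodule.span_le]
    rintro _ ⟨i, rfl⟩
    refine Submodule.subset_span ⟨Pi.single i 1, ?_⟩
    ext k
    simp [Pi.single_apply]
  rank := by simp

lemma ext_QP (e : F₀ →+* F) (m : ℕ) : Ext e (QP F₀ m) (QP F m) (piMap _ e) 1 :=
  ext_std e fun v => by simp [QP_apply]

lemma ext_QO (e : F₀ →+* F) (m : ℕ) : Ext e (QO F₀ m) (QO F m) (piMap _ e) 1 :=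
  ext_std e fun v => by simp [QO_apply]

lemma ext_QM (e : F₀ →+* F) (m : ℕ) (a b : F₀) :
    Ext e (QM F₀ m a b) (QM F m (e a) (e b)) (piMap _ e) 1 :=
  ext_std e fun v => by simp [QM_apply]

end std

lemma plusType_QM_of_root {m : ℕ} {a b t : F} (h : t ^ 2 + a * t + b = 0) :
    PlusType (QM F m a b) := by
  let φ : ((Fin m ⊕ Fin m) ⊕ Fin 2 → F) →ₗ[F] (Fin m → F) × F :=
    (LinearMap.funLeft F F fun i => Sum.inl (Sum.inr i)).prod
      (LinearMap.proj (Sum.inr 0) - t • LinearMap.proj (Sum.inr 1))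
  have hφ : Function.Surjective φ := by
    rintro ⟨y, z⟩
    exact ⟨Sum.elim (Sum.elim 0 y) ![z, 0], by ext <;> simp [φ, LinearMap.funLeft_apply]⟩
  have h1 := LinearMap.finrank_range_add_finrank_ker φ
  rw [LinearMap.range_eq_top.2 hφ] at h1
  refine ⟨LinearMap.ker φ, fun u hu => ?_, by simp at h1 ⊢; omega⟩
  have h2 : ∀ i, u (.inl (.inr i)) = 0 := fun i => congrFun (congrArg Prod.fst hu) i
  have h3 : u (.inr 0) - t * u (.inr 1) = 0 := congrArg Prod.snd hu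
  rw [QM_apply, sub_eq_zero.1 h3]
  simp only [h2, mul_zero, Finset.sum_const_zero, zero_add]
  linear_combination u (.inr 1) ^ 2 * h

/-- The type of an extension of an elliptic form. -/
lemma Ext.plusType_iff [Finite F₀] [Finite F] [FiniteDimensional F₀ V₀] {e : F₀ →+* F}
    {Q₀ : QuadraticForm F₀ V₀} {Q : QuadraticForm F V} {j : V₀ →+ V} {l : F} (X : Ext e Q₀ Q j l)
    (hQ : ND Q₀) (hev : Even (finrank F₀ V₀)) (h : ¬ PlusType Q₀) :
    ∃ ζ : F₀, (∀ t : F₀, t ^ 2 + t + ζ ≠ 0) ∧ (PlusType Q ↔ ∃ t : F, t ^ 2 + t + e ζ = 0) := by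
  obtain ⟨k, hk⟩ := hev
  obtain ⟨m, rfl⟩ : ∃ m, k = m + 1 := by
    refine Nat.exists_eq_succ_of_ne_zero ?_
    rintro rfl
    exact h ⟨⊥, fun u hu => by simp [(Submodule.mem_bot F₀).1 hu], by simp [hk]⟩
  obtain ⟨ζ, hζ, φ, hφ⟩ := exists_equiv_QM_one hQ (m := m) (by omega) h
  obtain ⟨ψ, -, hψ⟩ := (X.comp φ one_ne_zero (by simpa using hφ)).exists_equiv (ext_QM e m 1 ζ)
  rw [map_one] at hψ
  refine ⟨ζ, hζ, fun hp => ?_, fun ⟨t, ht⟩ => ?_⟩
  · by_contra! hn
    exact not_plusType_QM (aniso_of_no_root hn) (hp.sim ψ _ hψ)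
  · refine (plusType_QM_of_root (m := m) (a := 1) (t := t) (by simpa using ht)).sim ψ.symm l
      fun x => ?_
    obtain ⟨x, rfl⟩ := ψ.surjective x
    rw [hψ, ψ.symm_apply_apply]
    field_simp [X.l_ne]

end Cfsg.Agent.H7
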