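import Cfsg.Agent.H7.DS

/-!
Frames: hyperbolic pairs together with an orthogonal basis of the remaining plane.
-/

set_option autoImplicit false

namespace Cfsg.Agent.H7

open QuadraticMap Module

variable {F V : Type*} [Field F] [AddCommGroup V] [Module F V] {Q : QuadraticForm F V}

/-- a hyperbolic system with an orthogonal basis of the complementary plane -/
structure Frame (Q : QuadraticForm F V) {m : ℕ} (e f : Fin m → V) (u v : V) : Prop where
  two : (2 : F) ≠ 0
  hyp : HypSys Q e f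
  hu : u ∈ hperp Q e f
  hv : v ∈ hperp Q e f
  Qu : Q u ≠ 0
  Qv : Q v ≠ 0
  uv : polar Q u v = 0
  rank : finrank F V = 2 * m + 2

lemma HypSys.comp {ι κ : Type*} [DecidableEq ι] [DecidableEq κ] {e f : ι → V} (h : HypSys Q e f)
    {a : κ → ι} (ha : Function.Injective a) : HypSys Q (e ∘ a) (f ∘ a) where
  Qe _ := h.Qe _
  Qf _ := h.Qf _
  ee _ _ := h.ee _ _
  ff _ _ := h.ff _ _
  ef i j := by simp [h.ef, ha.eq_iff]

variable [FiniteDimensional F V] {m : ℕ} {e f : Fin m → V} {u v : V}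

lemma exists_hypSys_of_le [Finite F] (hQ : ND Q) (hV : 2 * m + 1 ≤ finrank F V) :
    ∃ e f : Fin m → V, HypSys Q e f := by
  obtain ⟨k, e, f, hef, han⟩ := exists_witt_decomp hQ
  have h1 := hef.finrank_eq
  have h2 := finrank_le_two_of_aniso han
  rw [Fintype.card_fin] at h1
  exact ⟨_, _, hef.comp (Fin.castLE_injective (show m ≤ k by omega))⟩

lemma HypSys.exists_frame (h2 : (2 : F) ≠ 0) (hQ : ND Q) (hV : finrank F V = 2 * m + 2)
    (h : HypSys Q e f) : ∃ u v, Frame Q e f u v := by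
  have h1 := h.finrank_eq
  rw [Fintype.card_fin] at h1
  have := invertibleOfNonzero h2
  obtain ⟨b, hb⟩ := LinearMap.BilinForm.exists_orthogonal_basis
    (B := polarBilin (Q.restrict (hperp Q e f))) ⟨(polar_isSymm _).1⟩
  have h3 := hb.not_isOrtho_basis_self_of_separatingLeft (h.nd_hperp hQ).1
  have h4 : ∀ i, Q (b i) ≠ 0 := fun i h0 => h3 i (by
    rw [polarBilin_apply_apply, B_self, restrict_apply, h0, mul_zero])
  refine ⟨b ⟨0, by omega⟩, b ⟨1, by omega⟩, h2, h, (b _).2, (b _).2, h4 _, h4 _, ?_, hV⟩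
  rw [← polar_restrict]
  exact hb (by simp)

lemma exists_frame [Finite F] (h2 : (2 : F) ≠ 0) (hQ : ND Q) (hV : finrank F V = 2 * m + 2) :
    ∃ (e f : Fin m → V) (u v : V), Frame Q e f u v := by
  obtain ⟨e, f, h⟩ := exists_hypSys_of_le (m := m) hQ (by omega)
  obtain ⟨u, v, h⟩ := h.exists_frame h2 hQ hV
  exact ⟨e, f, u, v, h⟩

namespace Frame

lemma exists_basis (h : Frame Q e f u v) :
    ∃ b : Basis (Fin 2) F (hperp Q e f), (b 0 : V) = u ∧ (b 1 : V) = v := by
  have h1 := h.hyp.finrank_eq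
  rw [Fintype.card_fin, h.rank] at h1
  have h2 : LinearIndependent F ![(⟨u, h.hu⟩ : hperp Q e f), ⟨v, h.hv⟩] := by
    rw [LinearIndependent.pair_iff]
    intro s t hst
    have h3 : s • u + t • v = 0 := congrArg Subtype.val hst
    have h4 := congrArg (polar Q u) h3
    have h5 := congrArg (polar Q · v) h3
    simp only [polar_add_right, polar_add_left, B_smul_right, B_smul_left, B_self, h.uv,
      polar_zero_right, polar_zero_left] at h4 h5
    exact ⟨by simpa [h.two, h.Qu] using h4, by simpa [h.two, h.Qv] using h5⟩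
  exact ⟨basisOfLinearIndependentOfCardEqFinrank h2 (by simp; omega), by simp, by simp⟩

lemma lin_ext (h : Frame Q e f u v) {W : Type*} [AddCommGroup W] [Module F W]
    {a b : V →ₗ[F] W} (h1 : ∀ i, a (e i) = b (e i)) (h2 : ∀ i, a (f i) = b (f i))
    (h3 : a u = b u) (h4 : a v = b v) : a = b := by
  refine h.hyp.lin_ext h1 h2 fun x hx => ?_
  obtain ⟨c, hc0, hc1⟩ := h.exists_basis
  have := congrArg Subtype.val (c.sum_repr ⟨x, hx⟩)
  simp only [Fin.sum_univ_two, Submodule.coe_add, Submodule.coe_smul, hc0, hc1] at this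
  rw [← this]
  simp [h3, h4]

lemma plusType_iff [Finite F] (hQ : ND Q) (h : Frame Q e f u v) :
    PlusType Q ↔ chi (-(Q u * Q v)) = 1 := by
  obtain ⟨c, hc0, hc1⟩ := h.exists_basis
  have h1 : (gram (polarBilin (Q.restrict (hperp Q e f))) c).det = 2 ^ 2 * (Q u * Q v) := by
    simp only [Matrix.det_fin_two, gram, Matrix.of_apply, polarBilin_apply_apply, polar_restrict,
      hc0, hc1, B_self, h.uv]
    ring
  rw [plusType_iff_disc h.two hQ (m := m + 1) h.rank, h.hyp.disc_eq, disc_eq _ c, h1, map_mul,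
    chi_sq h.two, one_mul, pow_succ, neg_eq_neg_one_mul (Q u * Q v), map_mul chi (-1)]
  have h3 := chi_neg_one_pow_mul_self (F := F) m
  have h4 := chi_mul_self (F := F) (a := -1) (by simp)
  constructor
  · intro h5
    rw [mul_left_cancel₀ (left_ne_zero_of_mul_eq_one h3) h5, h4]
  · intro h5
    rw [mul_left_cancel₀ (left_ne_zero_of_mul_eq_one h4) (h5.trans h4.symm)]

lemma exists_sim (h : Frame Q e f u v) (c : Fˣ) {s t : F} (hc : s ^ 2 * Q u + t ^ 2 * Q v = c * Q u) :
    ∃ δ ∈ DS Q, δ.c = c ∧ (∀ i, δ.γ (e i) = (c : F) • e i) ∧ (∀ i, δ.γ (f i) = f i) ∧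
      δ.γ u = s • u + t • v ∧ δ.γ v = (-(t * Q v / Q u)) • u + s • v := by
  obtain ⟨b, hb0, hb1⟩ := h.exists_basis
  have hu := h.Qu
  let M : Matrix (Fin 2) (Fin 2) F := !![s, -(t * Q v / Q u); t, s]
  have hM : M.det = c := by
    rw [Matrix.det_fin_two_of, ← mul_left_inj' hu, ← hc]; field_simp; ring
  let ρ := Matrix.toLinearEquiv b M (hM ▸ c.isUnit)
  have h0 : (ρ (b 0) : V) = s • u + t • v := by
    simp [ρ, M, Matrix.toLin_self, hb0, hb1]
  have h1 : (ρ (b 1) : V) = (-(t * Q v / Q u)) • u + s • v := by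
    simp [ρ, M, Matrix.toLin_self, hb0, hb1]
  obtain ⟨δ, h2, h3, h4, h5, h6, h7⟩ := h.hyp.exists_sim c ρ fun y => by
    rw [← b.sum_repr y]
    simp only [Fin.sum_univ_two, map_add ρ, map_smul ρ, Submodule.coe_add, Submodule.coe_smul, h0,
      h1, hb0, hb1]
    simp only [Q_add, Q_smul, polar_add_left, polar_add_right, B_smul_left, B_smul_right, B_self,
      h.uv, B_comm Q v u]
    have : (c : F) = (s ^ 2 * Q u + t ^ 2 * Q v) / Q u := by rw [hc]; field_simp
    rw [this]; field_simp; ring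
  refine ⟨δ, (mem_DS h.two).2 ⟨h2, ?_⟩, h3, h4, h5, by rw [← h0, ← h6, hb0], by rw [← h1, ← h6, hb1]⟩
  rw [h7, h3, h.rank, show (2 * m + 2) / 2 = m + 1 by omega, pow_succ, ← hM]
  congr 1
  exact LinearMap.det_toLin b M

lemma theta_rot [Finite F] (hQ : ND Q) (h : Frame Q e f u v) {g : OG Q} {μ : Fˣ} {s t : F}
    (hc : s ^ 2 * Q u + t ^ 2 * Q v = Q u) (hs : s ≠ 1) (h1 : ∀ i, g.1 (e i) = (μ : F) • e i)
    (h2 : ∀ i, g.1 (f i) = (μ : F)⁻¹ • f i) (h3 : g.1 u = s • u + t • v)
    (h4 : g.1 v = (-(t * Q v / Q u)) • u + s • v) :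
    theta g = chi (μ : F) ^ m * chi (2 * (1 - s) * (Q u * Q v)) := by
  have hE := nonExc_of_two hQ h.two
  have hu := h.Qu
  have hv := h.Qv
  have hs' : 1 - s ≠ 0 := sub_ne_zero.2 hs.symm
  have h2' := h.two
  have hw : Q ((1 - s) • u - t • v) = 2 * (1 - s) * Q u := by
    simp only [Q_sub, Q_smul, B_smul_left, B_smul_right, h.uv]
    linear_combination hc
  have hw' : (1 - s) • u - t • v ∈ hperp Q e f :=
    sub_mem (Submodule.smul_mem _ _ h.hu) (Submodule.smul_mem _ _ h.hv)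
  have hp : ∀ {x}, x ∈ hperp Q e f → ∀ i, polar Q (e i) x = 0 ∧ polar Q (f i) x = 0 :=
    fun hx i => by simpa only [B_comm Q _ (e i), B_comm Q _ (f i)] using mem_hperp.1 hx i
  have key : g = h.hyp.ext (levi (diagGL fun _ => μ)) * refl Q ((1 - s) • u - t • v) * refl Q v := by
    refine OG.ext' fun x => LinearMap.congr_fun (h.lin_ext (a := g.1.toLinearMap)
      (b := (h.hyp.ext (levi (diagGL fun _ => μ)) * refl Q ((1 - s) • u - t • v) *
        refl Q v).1.toLinearMap) (fun i => ?_) (fun i => ?_) ?_ ?_) x <;>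
      simp only [LinearEquiv.coe_coe, OG.mul_apply]
    · rw [refl_of_perp (hp h.hv i).1, refl_of_perp (hp hw' i).1, h.hyp.levi_e, h1]
    · rw [refl_of_perp (hp h.hv i).2, refl_of_perp (hp hw' i).2, h.hyp.levi_f, h2]
    · rw [refl_of_perp h.uv, refl_apply, h.hyp.ext_of_mem _
        (sub_mem h.hu (Submodule.smul_mem _ _ hw')), h3, hw]
      simp only [polar_sub_right, B_smul_right, B_self, h.uv]
      match_scalars <;> field_simp <;> ring
    · rw [refl_self hv, refl_apply, h.hyp.ext_of_mem _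
        (sub_mem (neg_mem h.hv) (Submodule.smul_mem _ _ hw')), h4, hw]
      simp only [polar_sub_right, B_smul_right, polar_neg_left, B_self, h.uv, B_comm Q v u]
      match_scalars
      · field_simp; ring
      · field_simp; linear_combination (-2) * hc
  rw [key, theta_mul_refl hQ _ hv, theta_mul_refl hQ _ (by rw [hw]; simp [hs', hu, h2']),
    (h.hyp.levi_spec hQ hE _).2, hw, mul_assoc, ← map_mul, mul_assoc, ← map_pow]
  congr 2
  simp [diagGL]

end Frame

end Cfsg.Agent.H7
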