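import Mathlib
import Cfsg.Agent.H2.Dih

/-!
Small group-theoretic tools for the structure of outer automorphism groups.
-/

set_option autoImplicit false

namespace Cfsg.Agent.H7

open Subgroup

variable {S A Γ G : Type*} [Group S] [Group A] [Group Γ] [Group G]

lemma exists_hom_map (a : S →* A) (H L : Subgroup S) (ψ : H →* Γ) (hs : Function.Surjective ψ)
    (hk : ∀ h : H, ψ h = 1 ↔ (h : S) ∈ L ⊔ a.ker) :
    ∃ φ : H.map a →* Γ, Function.Surjective φ ∧ φ.ker = (L.map a).subgroupOf (H.map a) := by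
  have h1 : (a.subgroupMap H).ker ≤ ψ.ker := fun h hh =>
    (hk h).2 (mem_sup_right (congrArg Subtype.val hh))
  have h2 := a.subgroupMap_surjective H
  let φ := (a.subgroupMap H).liftOfSurjective h2 ⟨ψ, h1⟩
  have h3 : ∀ h, φ (a.subgroupMap H h) = ψ h := fun h =>
    MonoidHom.liftOfRightInverse_comp_apply _ _ _ _ h
  refine ⟨φ, fun y => ?_, ?_⟩
  · obtain ⟨h, rfl⟩ := hs y
    exact ⟨_, h3 h⟩
  · ext x
    obtain ⟨h, rfl⟩ := h2 x
    rw [MonoidHom.mem_ker, h3, hk, mem_subgroupOf, ← comap_map_eq]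
    rfl

lemma exists_hom_map_quot (a : S →* A) (H K : Subgroup S) [K.Normal] (hK : a.ker ≤ K)
    (e : Nonempty (H.map (QuotientGroup.mk' K) ≃* Γ)) :
    ∃ φ : H.map a →* Γ, Function.Surjective φ ∧ φ.ker = (K.map a).subgroupOf (H.map a) := by
  obtain ⟨e⟩ := e
  refine exists_hom_map a H K (e.toMonoidHom.comp ((QuotientGroup.mk' K).subgroupMap H))
    (e.surjective.comp ((QuotientGroup.mk' K).subgroupMap_surjective H)) fun h => ?_
  rw [sup_eq_left.2 hK, ← QuotientGroup.eq_one_iff]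
  exact e.map_eq_one_iff.trans Subtype.ext_iff

lemma relIndex_map_eq_card (a : S →* A) (H K : Subgroup S) [K.Normal] (hK : a.ker ≤ K) :
    (K.map a).relIndex (H.map a) = Nat.card (H.map (QuotientGroup.mk' K)) := by
  obtain ⟨φ, h1, h2⟩ := exists_hom_map_quot a H K hK ⟨MulEquiv.refl _⟩
  rw [relIndex, ← h2, index_ker, MonoidHom.range_eq_top.2 h1, card_top]

lemma nonempty_quot_equiv (a : S →* A) (ha : Function.Surjective a) (I : Subgroup A) [I.Normal]
    (K : Subgroup S) [K.Normal] (h : I.comap a = K) : Nonempty (A ⧸ I ≃* S ⧸ K) := by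
  have h1 : ((QuotientGroup.mk' I).comp a).ker = K := by
    rw [← h, ← MonoidHom.comap_ker, QuotientGroup.ker_mk']
  exact ⟨((QuotientGroup.quotientMulEquivOfEq h1.symm).trans
    (QuotientGroup.quotientKerEquivOfSurjective _
      ((QuotientGroup.mk'_surjective I).comp ha))).symm⟩

lemma nonempty_sup_equiv_prod {H K : Subgroup G} (hc : ∀ x ∈ H, ∀ y ∈ K, Commute x y)
    (hd : Disjoint H K) : Nonempty ((H ⊔ K : Subgroup G) ≃* H × K) := by
  let f := H.subtype.noncommCoprod K.subtype fun x y => hc x x.2 y y.2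
  have h1 : Function.Injective f := (MonoidHom.noncommCoprod_injective _ _ _).2
    ⟨H.subtype_injective, K.subtype_injective, by simpa using hd⟩
  have h2 : f.range = H ⊔ K := by
    refine (MonoidHom.noncommCoprod_range _ _ _).trans ?_
    simp
  exact ⟨((MonoidHom.ofInjective h1).trans (MulEquiv.subgroupCongr h2)).symm⟩

lemma nonempty_zpowers_equiv {x : G} {n : ℕ} (h : orderOf x = n) :
    Nonempty (zpowers x ≃* Multiplicative (ZMod n)) := by
  rw [← h, ← Nat.card_zpowers]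
  exact ⟨(zmodCyclicMulEquiv inferInstance).symm⟩

lemma nonempty_two_gen_equiv {x y : G} {m n : ℕ} (hx : orderOf x = m) (hy : orderOf y = n)
    (hc : Commute x y) (hd : Disjoint (zpowers x) (zpowers y)) :
    Nonempty ((zpowers x ⊔ zpowers y : Subgroup G) ≃* Multiplicative (ZMod m × ZMod n)) := by
  obtain ⟨e⟩ := nonempty_sup_equiv_prod (H := zpowers x) (K := zpowers y)
    (by rintro _ ⟨i, rfl⟩ _ ⟨j, rfl⟩; exact hc.zpow_zpow i j) hd
  obtain ⟨e1⟩ := nonempty_zpowers_equiv hx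
  obtain ⟨e2⟩ := nonempty_zpowers_equiv hy
  exact ⟨e.trans ((e1.prodCongr e2).trans (MulEquiv.prodMultiplicative _ _).symm)⟩

lemma mem_zpowers_of_mul_self' {y x : G} (hy : y * y = 1) (h : x ∈ zpowers y) : x = 1 ∨ x = y := by
  obtain ⟨i, rfl⟩ := h
  have h2 : y ^ (2 : ℤ) = 1 := by rw [zpow_two, hy]
  rcases Int.even_or_odd' i with ⟨k, rfl | rfl⟩
  · left; simp [zpow_mul, h2]
  · right; simp [zpow_add, zpow_mul, h2]

lemma disjoint_zpowers_of_mul_self {y : G} (hy : y * y = 1) {H : Subgroup G} (h : y ∉ H) :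
    Disjoint (zpowers y) H := by
  rw [disjoint_def]
  intro x h1 h2
  rcases mem_zpowers_of_mul_self' hy h1 with rfl | rfl
  · rfl
  · exact absurd h2 h

lemma orderOf_eq_two' {y : G} (hy : y * y = 1) (h : y ≠ 1) : orderOf y = 2 :=
  orderOf_eq_prime (by rw [pow_two, hy]) h

lemma orderOf_eq_four' {y z : G} (hy : y * y = z) (hz : z * z = 1) (h : z ≠ 1) : orderOf y = 4 := by
  refine orderOf_eq_prime_pow (p := 2) (n := 1) (by rwa [pow_one, pow_two, hy]) ?_
  rw [show 2 ^ (1 + 1) = 2 * 2 from rfl, pow_mul, pow_two y, hy, pow_two, hz]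

lemma notMem_zpowers_of_inv {c t : G} (hc : orderOf c = 4) (h : t * c * t⁻¹ = c⁻¹) :
    t ∉ zpowers c := by
  rintro ⟨i, rfl⟩
  have h1 : c ^ 2 = 1 := by
    rw [pow_two, ← eq_inv_iff_mul_eq_one, ← h]; group
  have := orderOf_dvd_of_pow_eq_one h1
  rw [hc] at this
  omega

lemma nonempty_equiv_d8 {r d z : G} (hr : r * r = 1) (hz : z * z = 1) (hz1 : z ≠ 1)
    (hzr : Commute z r) (hzd : Commute z d) (h : d * r * d⁻¹ = r * z) (hd : d * d = 1 ∨ d * d = z) :
    Nonempty ((zpowers d ⊔ zpowers r : Subgroup G) ≃* DihedralGroup 4) := by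
  have hr' : r⁻¹ = r := inv_eq_of_mul_eq_one_right hr
  have h1 : d * r = r * z * d := by rw [← h]; group
  rcases hd with hd | hd
  · have hd' : d⁻¹ = d := inv_eq_of_mul_eq_one_right hd
    have h2 : orderOf (d * r) = 4 := orderOf_eq_four' (z := z) (by
      rw [hd'] at h
      rw [← mul_assoc, h, mul_assoc, hzr.eq, ← mul_assoc, hr, one_mul]) hz hz1
    have h3 : r * (d * r) * r⁻¹ = (d * r)⁻¹ := by rw [mul_inv_rev, hd']; group; rw [zpow_neg_one, hr']
    have h4 : zpowers (d * r) ⊔ zpowers r = zpowers d ⊔ zpowers r := by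
      apply le_antisymm
      · exact sup_le (zpowers_le_of_mem (mul_mem (mem_sup_left (mem_zpowers d))
          (mem_sup_right (mem_zpowers r)))) le_sup_right
      · refine sup_le (zpowers_le_of_mem ?_) le_sup_right
        have := mul_mem (mem_sup_left (mem_zpowers (d * r)) : d * r ∈ zpowers (d * r) ⊔ zpowers r)
          (mem_sup_right (mem_zpowers r))
        rwa [mul_assoc, hr, mul_one] at this
    rw [← h4]
    exact H2.nonempty_equiv_dihedral_sub h2 hr h3 (notMem_zpowers_of_inv h2 h3)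
  · have h2 : orderOf d = 4 := orderOf_eq_four' hd hz hz1
    have h3 : r * d * r⁻¹ = d⁻¹ := by
      rw [hr', mul_assoc, h1, ← mul_assoc, ← mul_assoc, hr, one_mul, eq_inv_iff_mul_eq_one,
        mul_assoc, hd, hz]
    exact H2.nonempty_equiv_dihedral_sub h2 hr h3 (notMem_zpowers_of_inv h2 h3)

lemma ker_sup_zpowers_eq_top {C : Type*} [Group C] (s : G →* C) {φ : G}
    (hφ : ∀ c, c ∈ zpowers (s φ)) : s.ker ⊔ zpowers φ = ⊤ := by
  rw [eq_top_iff]
  intro g _
  obtain ⟨i, hi⟩ := hφ (s g)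
  have : g = (g * (φ ^ i)⁻¹) * φ ^ i := by group
  rw [this]
  refine mul_mem (mem_sup_left ?_) (mem_sup_right (zpow_mem (mem_zpowers φ) i))
  rw [MonoidHom.mem_ker, map_mul, map_inv, map_zpow, ← hi]
  simp

lemma nonempty_equiv_ker_prod {C : Type*} [Group C] (s : G →* C) {φ : G} {f : ℕ}
    (hφ : ∀ c, c ∈ zpowers (s φ)) (hC : Nat.card C = f) (hf : φ ^ f = 1)
    (hc : ∀ x ∈ s.ker, Commute x φ) : Nonempty (G ≃* s.ker × Multiplicative (ZMod f)) := by
  have h1 : orderOf (s φ) = f := (orderOf_eq_card_of_forall_mem_zpowers hφ).trans hC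
  have h2 : orderOf φ = f :=
    Nat.dvd_antisymm (orderOf_dvd_of_pow_eq_one hf) (h1 ▸ orderOf_map_dvd s φ)
  obtain ⟨e⟩ := nonempty_sup_equiv_prod (H := s.ker) (K := zpowers φ)
    (by rintro x hx _ ⟨j, rfl⟩; exact (hc x hx).zpow_right j) (by
      rw [disjoint_def]
      rintro _ h3 ⟨j, rfl⟩
      rw [MonoidHom.mem_ker, map_zpow, ← orderOf_dvd_iff_zpow_eq_one, h1, ← h2] at h3
      exact orderOf_dvd_iff_zpow_eq_one.1 h3)
  obtain ⟨e2⟩ := nonempty_zpowers_equiv h2
  rw [ker_sup_zpowers_eq_top s hφ] at e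
  exact ⟨topEquiv.symm.trans (e.trans ((MulEquiv.refl _).prodCongr e2))⟩

lemma mem_zpowers_pow_of_mem_ker {C : Type*} [Group C] (s : G →* C) {φ x : G} {f : ℕ}
    (h1 : orderOf (s φ) = f) (hx : x ∈ s.ker) (hx' : x ∈ zpowers φ) : x ∈ zpowers (φ ^ f) := by
  obtain ⟨j, rfl⟩ := hx'
  rw [MonoidHom.mem_ker, map_zpow, ← orderOf_dvd_iff_zpow_eq_one, h1] at hx
  obtain ⟨k, rfl⟩ := hx
  exact ⟨k, by simp [zpow_mul]⟩

lemma orderOf_eq_two_mul {C : Type*} [Group C] (s : G →* C) {φ : G} {f : ℕ} (hf : 0 < f)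
    (h1 : orderOf (s φ) = f) (h2 : φ ^ f * φ ^ f = 1) (h3 : φ ^ f ≠ 1) : orderOf φ = 2 * f := by
  obtain ⟨k, hk⟩ : f ∣ orderOf φ := h1 ▸ orderOf_map_dvd s φ
  have h4 := orderOf_pow' φ hf.ne'
  rw [orderOf_eq_two' h2 h3, hk, Nat.gcd_mul_right_left, Nat.mul_div_cancel_left _ hf] at h4
  rw [hk, ← h4, mul_comm]

open Classical in
/-- the sign homomorphism attached to an index-two condition -/
noncomputable def signHom (P : G → Prop) (h : ∀ x y, P (x * y) ↔ (P x ↔ P y)) :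
    G →* Multiplicative (ZMod 2) :=
  MonoidHom.mk' (fun x => Multiplicative.ofAdd (if P x then 0 else 1)) fun x y => by
    rw [← ofAdd_add, h]
    by_cases hx : P x <;> by_cases hy : P y <;> simp [hx, hy]
    rfl

lemma signHom_eq_one_iff {P : G → Prop} {h : ∀ x y, P (x * y) ↔ (P x ↔ P y)} {x : G} :
    signHom P h x = 1 ↔ P x := by
  by_cases hx : P x <;> simp [signHom, hx]

lemma signHom_of_not {P : G → Prop} {h : ∀ x y, P (x * y) ↔ (P x ↔ P y)} {x : G} (hx : ¬ P x) :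
    signHom P h x = Multiplicative.ofAdd 1 := by
  simp [signHom, hx]

lemma signHom_surjective {P : G → Prop} {h : ∀ x y, P (x * y) ↔ (P x ↔ P y)} {x : G}
    (hx : ¬ P x) : Function.Surjective (signHom P h) := fun y => by
  have : ∀ y : Multiplicative (ZMod 2), y = 1 ∨ y = Multiplicative.ofAdd 1 := by decide
  rcases this y with rfl | rfl
  · exact ⟨1, map_one _⟩
  · exact ⟨x, signHom_of_not hx⟩

/-- two signs -/
noncomputable def signHom₂ (P R : G → Prop) (h : ∀ x y, P (x * y) ↔ (P x ↔ P y))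
    (h' : ∀ x y, R (x * y) ↔ (R x ↔ R y)) : G →* Multiplicative (ZMod 2 × ZMod 2) :=
  (MulEquiv.prodMultiplicative _ _).symm.toMonoidHom.comp ((signHom P h).prod (signHom R h'))

lemma signHom₂_eq_one_iff {P R : G → Prop} {h : ∀ x y, P (x * y) ↔ (P x ↔ P y)}
    {h' : ∀ x y, R (x * y) ↔ (R x ↔ R y)} {x : G} : signHom₂ P R h h' x = 1 ↔ P x ∧ R x := by
  rw [signHom₂, MonoidHom.comp_apply]
  refine (map_eq_one_iff _ (MulEquiv.prodMultiplicative (ZMod 2) (ZMod 2)).symm.injective).trans ?_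
  simp [Prod.ext_iff, signHom_eq_one_iff]

lemma signHom₂_surjective {P R : G → Prop} {h : ∀ x y, P (x * y) ↔ (P x ↔ P y)}
    {h' : ∀ x y, R (x * y) ↔ (R x ↔ R y)} {x y : G} (h1 : ¬ P x) (h2 : R x) (h3 : P y)
    (h4 : ¬ R y) : Function.Surjective (signHom₂ P R h h') := by
  refine (MulEquiv.prodMultiplicative (ZMod 2) (ZMod 2)).symm.surjective.comp
    (f := (signHom P h).prod (signHom R h')) fun w => ?_
  have e1 : ((signHom P h).prod (signHom R h')) x = (Multiplicative.ofAdd 1, 1) :=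
    Prod.ext (signHom_of_not h1) (signHom_eq_one_iff.2 h2)
  have e2 : ((signHom P h).prod (signHom R h')) y = (1, Multiplicative.ofAdd 1) :=
    Prod.ext (signHom_eq_one_iff.2 h3) (signHom_of_not h4)
  have : ∀ w : Multiplicative (ZMod 2) × Multiplicative (ZMod 2), w = 1 ∨
    w = (Multiplicative.ofAdd 1, 1) ∨ w = (1, Multiplicative.ofAdd 1) ∨
    w = (Multiplicative.ofAdd 1, 1) * (1, Multiplicative.ofAdd 1) := by decide
  rcases this w with rfl | rfl | rfl | rfl
  · exact ⟨1, map_one _⟩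
  · exact ⟨x, e1⟩
  · exact ⟨y, e2⟩
  · exact ⟨x * y, by rw [map_mul, e1, e2]⟩

end Cfsg.Agent.H7
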