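import Cfsg.Agent.H7.Disc

set_option autoImplicit false

namespace Cfsg.Agent.H7

open QuadraticMap Module Matrix

variable {F V : Type*} [Field F] [AddCommGroup V] [Module F V] {Q : QuadraticForm F V}
  {m : ℕ} {e f : Fin m → V}

/-- Extension of an isometry of the hyperbolic part by the identity on its complement. -/
def HypSys.ext (h : HypSys Q e f) : OG (QP F m) →* OG Q :=
  (OG.congr (Q := (QP F m).prod (Q.restrict (hperp Q e f))) h.equiv
    (fun x => h.Q_equiv x.1 x.2)).toMonoidHom.comp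
    ((sumHom (QP F m) (Q.restrict (hperp Q e f))).comp (MonoidHom.inl _ _))

lemma HypSys.ext_apply (h : HypSys Q e f) (g : OG (QP F m)) (x : V) :
    (h.ext g).1 x = hcomb e f (g.1 (hcoord Q e f x)) + (x - hcomb e f (hcoord Q e f x)) := rfl

lemma HypSys.ext_hcomb (h : HypSys Q e f) (g : OG (QP F m)) (c : Fin m ⊕ Fin m → F) :
    (h.ext g).1 (hcomb e f c) = hcomb e f (g.1 c) := by
  rw [h.ext_apply, h.hcoord_hcomb]; simp

lemma HypSys.ext_of_mem (h : HypSys Q e f) (g : OG (QP F m)) {x : V} (hx : x ∈ hperp Q e f) :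
    (h.ext g).1 x = x := by
  rw [h.ext_apply, hcoord_of_mem hx]; simp

lemma HypSys.B_hcomb (h : HypSys Q e f) (c d : Fin m ⊕ Fin m → F) :
    polar Q (hcomb e f c) (hcomb e f d) = polar (QP F m) c d :=
  polar_map_of (hcomb e f) h.Q_hcomb c d

lemma HypSys.B_hcoord (h : HypSys Q e f) (x : V) (d : Fin m ⊕ Fin m → F) :
    polar (QP F m) (hcoord Q e f x) d = polar Q x (hcomb e f d) := by
  rw [← h.B_hcomb]
  have := B_hperp_hcomb (h.sub_mem x) d
  rw [polar_sub_left, sub_eq_zero] at this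
  exact this.symm

lemma HypSys.ext_refl (h : HypSys Q e f) (v : Fin m ⊕ Fin m → F) :
    h.ext (refl (QP F m) v) = refl Q (hcomb e f v) := by
  apply OG.ext'; intro x
  rw [h.ext_apply, refl_apply, refl_apply, map_sub, map_smul, h.B_hcoord, h.Q_hcomb, QP_apply]
  abel

lemma HypSys.ext_siegel (h : HypSys Q e f) (p w : Fin m ⊕ Fin m → F) (hp : QP F m p = 0)
    (hw : polar (QP F m) p w = 0) :
    h.ext (siegel p w hp hw) = siegel (hcomb e f p) (hcomb e f w) ((h.Q_hcomb p).trans hp)
      ((h.B_hcomb p w).trans hw) := by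
  apply OG.ext'; intro x
  rw [h.ext_apply, siegel_apply, siegel_apply]
  simp only [map_sub, map_add, map_smul, h.B_hcoord, h.Q_hcomb, QP_apply]
  abel

lemma hcomb_std (c : Fin m ⊕ Fin m → F) :
    hcomb (fun i => (Pi.single (.inl i) 1 : Fin m ⊕ Fin m → F)) (fun i => Pi.single (.inr i) 1) c
      = c := by
  ext (j | j) <;> simp [hcomb_apply, Finset.sum_apply, Pi.single_apply]

lemma hypSys_QP_ext (g : OG (QP F m)) : (hypSys_QP m).ext g = g := by
  apply OG.ext'; intro x
  conv_lhs => rw [← hcomb_std x, HypSys.ext_hcomb, hcomb_std]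

lemma QP_eq_dotProduct (v : Fin m ⊕ Fin m → F) :
    QP F m v = (v ∘ Sum.inl) ⬝ᵥ (v ∘ Sum.inr) := rfl

/-- The block matrix `diag(A, A⁻ᵀ)`. -/
noncomputable def leviGL : GL (Fin m) F →* GL (Fin m ⊕ Fin m) F where
  toFun A := ⟨fromBlocks (A : Matrix (Fin m) (Fin m) F) 0 0 ((A⁻¹ : GL (Fin m) F) : Matrix _ _ F)ᵀ,
    fromBlocks ((A⁻¹ : GL (Fin m) F) : Matrix _ _ F) 0 0 (A : Matrix (Fin m) (Fin m) F)ᵀ,
    by rw [fromBlocks_multiply, ← transpose_mul]; simp,
    by rw [fromBlocks_multiply, ← transpose_mul]; simp⟩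
  map_one' := Units.ext (by simp)
  map_mul' A B := Units.ext (by simp [fromBlocks_multiply])

lemma leviGL_mem (A : GL (Fin m) F) : leviGL A ∈ Cfsg.isometryGroup F ⇑(QP F m) := by
  rw [mem_isometryGroup]
  intro x
  simp only [leviGL, MonoidHom.coe_mk, OneHom.coe_mk, fromBlocks_mulVec, QP_eq_dotProduct,
    zero_mulVec, add_zero, zero_add, Sum.elim_comp_inl, Sum.elim_comp_inr]
  rw [dotProduct_mulVec, vecMul_transpose, mulVec_mulVec]
  simp

/-- The Levi embedding of `GL_m` in the orthogonal group of the plus-type form. -/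
noncomputable def levi : GL (Fin m) F →* OG (QP F m) :=
  (isoEquiv (QP F m)).toMonoidHom.comp (leviGL.codRestrict _ leviGL_mem)

lemma levi_apply (A : GL (Fin m) F) (x : Fin m ⊕ Fin m → F) :
    (levi A).1 x = fromBlocks (A : Matrix (Fin m) (Fin m) F) 0 0
      ((A⁻¹ : GL (Fin m) F) : Matrix _ _ F)ᵀ *ᵥ x := rfl

/-- diagonal matrices -/
def diagGL : (Fin m → Fˣ) →* GL (Fin m) F where
  toFun d := ⟨diagonal (fun i => (d i : F)), diagonal (fun i => ((d i)⁻¹ : Fˣ)),
    by simp [diagonal_mul_diagonal], by simp [diagonal_mul_diagonal]⟩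
  map_one' := Units.ext (by simp)
  map_mul' a b := Units.ext (by simp [diagonal_mul_diagonal])

lemma levi_diagGL_apply (d : Fin m → Fˣ) (x : Fin m ⊕ Fin m → F) :
    (levi (diagGL d)).1 x = Sum.elim (fun i => d i * x (.inl i)) (fun i => (d i : F)⁻¹ * x (.inr i)) := by
  rw [levi_apply]
  have : (((diagGL d)⁻¹ : GL (Fin m) F) : Matrix _ _ F) = diagonal (fun i => (((d i)⁻¹ : Fˣ) : F)) := rfl
  rw [this]
  ext (j | j) <;> simp [diagGL, mulVec_diagonal]

lemma levi_mulSingle (i : Fin m) (μ : Fˣ) : levi (diagGL (Pi.mulSingle i μ)) =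
    refl (QP F m) (Pi.single (.inl i) 1 + Pi.single (.inr i) 1) *
      refl (QP F m) (Pi.single (.inl i) 1 + (μ : F) • Pi.single (.inr i) 1) := by
  apply OG.ext'; intro x
  have h := hypSys_QP (F := F) m
  rw [rot_apply (h.Qe i) (h.Qf i) (by simpa using h.ef i i) μ.ne_zero, levi_diagGL_apply,
    polar_QP_inl, polar_QP_inr]
  ext (j | j) <;> by_cases hj : j = i <;> simp [hj, Pi.mulSingle_apply] <;> ring

lemma levi_transvection (t : TransvectionStruct (Fin m) F) (A : GL (Fin m) F)
    (hA : (A : Matrix (Fin m) (Fin m) F) = t.toMatrix) :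
    levi A = siegel (Pi.single (.inl t.i) 1) (t.c • Pi.single (.inr t.j) 1) ((hypSys_QP m).Qe _)
      (by rw [B_smul_right, (hypSys_QP m).ef]; simp [t.hij]) := by
  apply OG.ext'; intro x
  have hA' : ((A⁻¹ : GL (Fin m) F) : Matrix _ _ F) = t.inv.toMatrix := by
    rw [Matrix.coe_units_inv, hA]; exact inv_eq_left_inv t.inv_mul
  rw [levi_apply, hA, hA', siegel_apply, B_smul_right, polar_QP_inl, polar_QP_inr, Q_smul,
    (hypSys_QP m).Qf]
  obtain ⟨i, j, hij, c⟩ := t
  ext (k | k)
  · by_cases hk : k = i <;>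
      simp [fromBlocks_mulVec, transvection, add_mulVec, hk, single_mulVec]
  · by_cases hk : k = j <;>
      simp [fromBlocks_mulVec, transvection, add_mulVec, hk, single_mulVec,
        TransvectionStruct.inv, transpose_single, sub_eq_add_neg, mul_comm]

variable [FiniteDimensional F V] [Finite F]

lemma HypSys.levi_spec (hQ : ND Q) (hE : NonExc Q) (h : HypSys Q e f) (A : GL (Fin m) F) :
    Even (rk (h.ext (levi A))) ∧ theta (h.ext (levi A)) = chi (A : Matrix (Fin m) (Fin m) F).det := by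
  have key : ∀ M : Matrix (Fin m) (Fin m) F, M.det ≠ 0 → ∀ A : GL (Fin m) F,
      (A : Matrix (Fin m) (Fin m) F) = M →
      Even (rk (h.ext (levi A))) ∧ theta (h.ext (levi A)) = chi M.det := by
    intro M hM
    refine diagonal_transvection_induction_of_det_ne_zero (fun M => ∀ A : GL (Fin m) F,
      (A : Matrix (Fin m) (Fin m) F) = M →
      Even (rk (h.ext (levi A))) ∧ theta (h.ext (levi A)) = chi M.det) M hM ?_ ?_ ?_
    · intro D hD A hA
      have hD' : ∀ i, D i ≠ 0 := by
        rw [det_diagonal, Finset.prod_ne_zero_iff] at hD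
        exact fun i => hD i (Finset.mem_univ i)
      let d : Fin m → Fˣ := fun i => Units.mk0 (D i) (hD' i)
      have hAd : A = diagGL d := Units.ext hA
      have hs : ∀ (i : Fin m) (μ : Fˣ), Even (rk (h.ext (levi (diagGL (Pi.mulSingle i μ))))) ∧
          theta (h.ext (levi (diagGL (Pi.mulSingle i μ)))) = chi (μ : F) := by
        intro i μ
        have hp := hypSys_QP (F := F) m
        have h1 : Q (hcomb e f ((Pi.single (Sum.inl i) 1 : Fin m ⊕ Fin m → F) +
            Pi.single (Sum.inr i) 1)) = 1 := by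
          rw [h.Q_hcomb, ← QP_apply]; qsimp; rw [hp.Qe, hp.Qf, hp.ef]; simp
        have h2 : Q (hcomb e f ((Pi.single (Sum.inl i) 1 : Fin m ⊕ Fin m → F) +
            (μ : F) • Pi.single (Sum.inr i) 1)) = μ := by
          rw [h.Q_hcomb, ← QP_apply]; qsimp; rw [hp.Qe, hp.Qf, hp.ef]; simp
        rw [levi_mulSingle, map_mul, h.ext_refl, h.ext_refl,
          even_rk_mul_refl hQ _ (h2.trans_ne μ.ne_zero), theta_mul_refl hQ _ (h2.trans_ne μ.ne_zero),
          rk_refl hQ (h1.trans_ne one_ne_zero), theta_refl hQ (h1.trans_ne one_ne_zero), h1, h2]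
        simp
      have h1 : (dickHom hQ hE).comp (h.ext.comp (levi.comp diagGL)) = 1 := by
        apply MonoidHom.functions_ext
        intro i μ
        exact (dickHom_eq_one_iff hQ hE _).2 (hs i μ).1
      have h2 : theta (h.ext (levi (diagGL d))) = ∏ i, chi (d i : F) := by
        have := map_prod ((thetaHom hQ hE).comp (h.ext.comp (levi.comp diagGL)))
          (fun i => Pi.mulSingle i (d i)) Finset.univ
        rw [Finset.univ_prod_mulSingle] at this
        have h3 := congrArg (fun u : ℤˣ => (u : ℤ)) this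
        simp only [MonoidHom.comp_apply, thetaHom_apply, Units.coe_prod] at h3
        rw [h3]
        exact Finset.prod_congr rfl fun i _ => (hs i (d i)).2
      rw [hAd]
      refine ⟨(dickHom_eq_one_iff hQ hE _).1 (DFunLike.congr_fun h1 d), ?_⟩
      rw [h2, det_diagonal, map_prod]; rfl
    · intro t A hA
      rw [levi_transvection t A hA, h.ext_siegel, t.det, map_one]
      exact (mem_commutator_iff hQ hE _).1 (siegel_mem_commutator hQ hE _ _)
    · intro M N hM hN hPM hPN A hA
      have : A = GeneralLinearGroup.mkOfDetNeZero M hM * GeneralLinearGroup.mkOfDetNeZero N hN :=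
        Units.ext hA
      obtain ⟨h1, h2⟩ := hPM (GeneralLinearGroup.mkOfDetNeZero M hM) rfl
      obtain ⟨h3, h4⟩ := hPN (GeneralLinearGroup.mkOfDetNeZero N hN) rfl
      rw [this, map_mul, map_mul, even_rk_mul hQ hE, theta_mul hQ hE, h2, h4, det_mul, map_mul]
      exact ⟨by tauto, rfl⟩
  exact key _ (GeneralLinearGroup.det_ne_zero A) A rfl

theorem HypSys.levi_mem_iff (hQ : ND Q) (hE : NonExc Q) (h : HypSys Q e f) (A : GL (Fin m) F) :
    h.ext (levi A) ∈ commutator (OG Q) ↔ IsSquare (A : Matrix (Fin m) (Fin m) F).det := by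
  rw [mem_commutator_iff hQ hE, (h.levi_spec hQ hE A).2,
    chi_eq_one_iff (GeneralLinearGroup.det_ne_zero A)]
  simp [(h.levi_spec hQ hE A).1]

omit [FiniteDimensional F V] [Finite F] in
lemma prod_ite_lt {i : ℕ} (him : i ≤ m) :
    ∏ j : Fin m, (if (j : ℕ) < i then (-1 : F) else 1) = (-1) ^ i := by
  rw [Finset.prod_ite, Finset.prod_const, Finset.prod_const_one, mul_one, Fin.card_filter_val_lt,
    min_eq_right him]

/-- negating the first `i` hyperbolic pairs -/
theorem HypSys.negPairs_mem_iff (hQ : ND Q) (hE : NonExc Q) (h : HypSys Q e f) {i : ℕ}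
    (him : i ≤ m) : h.ext (levi (diagGL fun j : Fin m => if (j : ℕ) < i then -1 else 1)) ∈
      commutator (OG Q) ↔ chi (-1 : F) ^ i = 1 := by
  rw [h.levi_mem_iff hQ hE, ← chi_eq_one_iff (GeneralLinearGroup.det_ne_zero _), ← map_pow,
    ← prod_ite_lt him]
  simp only [diagGL, MonoidHom.coe_mk, OneHom.coe_mk, det_diagonal]
  rw [Finset.prod_congr rfl]
  intro j _
  split_ifs <;> simp

end Cfsg.Agent.H7
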