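import Cfsg.Agent.H7.SS
import Cfsg.Agent.H6.Tv

/-!
Long root elements of orthogonal groups and their characterisation as `p`-central elements.
-/

set_option autoImplicit false

namespace Cfsg.Agent.H7

open QuadraticMap Module

variable {F V : Type*} [Field F] [AddCommGroup V] [Module F V] {Q : QuadraticForm F V}

/-- long root elements -/
def LR (s : OG Q) : Prop :=
  ∃ e f he hef, Q f = 0 ∧ e ≠ 0 ∧ f ∉ F ∙ e ∧ s = siegel e f he hef

lemma sg_apply {e f : V} (he : Q e = 0) (hef : polar Q e f = 0) (hf : Q f = 0) (x : V) :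
    (siegel e f he hef).1 x = x + polar Q x f • e - polar Q x e • f := by
  rw [siegel_apply, hf]; simp

lemma movS_conj (g s : OG Q) : movS (g * s * g⁻¹) = img g (movS s) := by
  ext x
  rw [mem_img, mem_movS, mem_movS]
  constructor
  · rintro ⟨y, rfl⟩
    exact ⟨(g⁻¹).1 y, by simp⟩
  · rintro ⟨y, hy⟩
    refine ⟨g.1 y, ?_⟩
    rw [eq_comm, OG.inv_apply_eq] at hy
    simp [hy]

lemma LR.conj {s : OG Q} (h : LR s) (g : OG Q) : LR (g * s * g⁻¹) := by
  obtain ⟨e, f, he, hef, hf, he0, hfe, rfl⟩ := h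
  refine ⟨g.1 e, g.1 f, by simp [he], by simp [hef], by simp [hf], by simpa using he0, ?_,
    siegel_conj g he hef⟩
  intro hm
  obtain ⟨a, ha⟩ := Submodule.mem_span_singleton.1 hm
  rw [← map_smul, EmbeddingLike.apply_eq_iff_eq] at ha
  exact hfe (Submodule.mem_span_singleton.2 ⟨a, ha⟩)

lemma lr_or_one {e f : V} (he : Q e = 0) (hef : polar Q e f = 0) (hf : Q f = 0) :
    LR (siegel e f he hef) ∨ siegel e f he hef = 1 := by
  by_cases he0 : e = 0
  · right; apply OG.ext'; intro x; simp [siegel_apply, he0]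
  by_cases hm : f ∈ F ∙ e
  · obtain ⟨a, rfl⟩ := Submodule.mem_span_singleton.1 hm
    exact Or.inr (siegel_smul_self he a hef)
  · exact Or.inl ⟨e, f, he, hef, hf, he0, hm, rfl⟩

/-- the moved lines meet -/
def Meet (s t : OG Q) : Prop := ∃ x, x ≠ 0 ∧ x ∈ movS s ∧ x ∈ movS t

/-- the moved lines are perpendicular -/
def Prp (s t : OG Q) : Prop := ∀ x ∈ movS s, ∀ y ∈ movS t, polar Q x y = 0

lemma Meet.symm {s t : OG Q} (h : Meet s t) : Meet t s := by
  obtain ⟨x, h1, h2, h3⟩ := h; exact ⟨x, h1, h3, h2⟩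

lemma Prp.symm {s t : OG Q} (h : Prp s t) : Prp t s := fun x hx y hy => by
  rw [B_comm]; exact h y hy x hx

lemma finrank_span_pair_of {e f : V} (he0 : e ≠ 0) (hfe : f ∉ F ∙ e) :
    finrank F (Submodule.span F {e, f} : Submodule F V) = 2 := by
  have := finrank_span_eq_card (linearIndependent_pair_of he0 hfe)
  rwa [Matrix.range_cons_cons_empty, Fintype.card_fin] at this

variable [FiniteDimensional F V]

lemma movS_siegel (hQ : ND Q) {e f : V} (he : Q e = 0) (hef : polar Q e f = 0) (hf : Q f = 0)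
    (he0 : e ≠ 0) (hfe : f ∉ F ∙ e) : movS (siegel e f he hef) = Submodule.span F {e, f} := by
  obtain ⟨g, hg⟩ := exists_hypSys_pair hQ he hef hf he0 hfe
  apply le_antisymm
  · intro x hx
    obtain ⟨y, rfl⟩ := mem_movS.1 hx
    rw [sg_apply he hef hf]
    exact Submodule.mem_span_pair.2 ⟨polar Q y f, -polar Q y e, by module⟩
  · rw [Submodule.span_le]
    have h00 : polar Q (g 0) e = 1 := by simpa using hg.fe 0 0
    have h01 : polar Q (g 0) f = 0 := by simpa using hg.fe 0 1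
    have h10 : polar Q (g 1) e = 0 := by simpa using hg.fe 1 0
    have h11 : polar Q (g 1) f = 1 := by simpa using hg.fe 1 1
    rintro x (rfl | rfl)
    · exact mem_movS.2 ⟨g 1, by rw [sg_apply he hef hf, h10, h11]; module⟩
    · exact mem_movS.2 ⟨-g 0, by rw [sg_apply he hef hf]; qsimp; rw [h00, h01]; module⟩

lemma LR.rk_eq (hQ : ND Q) {s : OG Q} (h : LR s) : finrank F (movS s) = 2 := by
  obtain ⟨e, f, he, hef, hf, he0, hfe, rfl⟩ := h
  rw [movS_siegel hQ he hef hf he0 hfe, finrank_span_pair_of he0 hfe]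

lemma LR.ne_one (hQ : ND Q) {s : OG Q} (h : LR s) : s ≠ 1 := by
  rintro rfl
  have := h.rk_eq hQ
  have h2 := rk_one (Q := Q)
  rw [rk] at h2
  omega

lemma LR.ts (hQ : ND Q) {s : OG Q} (h : LR s) : TS Q (movS s) := by
  obtain ⟨e, f, he, hef, hf, he0, hfe, rfl⟩ := h
  rw [movS_siegel hQ he hef hf he0 hfe]
  intro x hx
  obtain ⟨a, b, rfl⟩ := Submodule.mem_span_pair.1 hx
  qsimp; rw [he, hf, hef]; ring

lemma LR.exists_eq (hQ : ND Q) {s : OG Q} (h : LR s) {x : V} (hx : x ∈ movS s) (hx0 : x ≠ 0) :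
    ∃ y hx' hxy, Q y = 0 ∧ y ∉ F ∙ x ∧ s = siegel x y hx' hxy := by
  have hts := h.ts hQ
  obtain ⟨e, f, he, hef, hf, he0, hfe, rfl⟩ := h
  have hxs := hts x hx
  rw [movS_siegel hQ he hef hf he0 hfe] at hx
  obtain ⟨a, b, rfl⟩ := Submodule.mem_span_pair.1 hx
  have li := LinearIndependent.pair_iff.1 (linearIndependent_pair_of he0 hfe)
  by_cases hb : b = 0
  · subst hb
    have ha : a ≠ 0 := by rintro rfl; simp at hx0
    refine ⟨a⁻¹ • f, hxs, by qsimp; rw [hf, hef]; ring, by rw [Q_smul, hf, mul_zero], ?_, ?_⟩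
    · intro hm
      obtain ⟨c, hc⟩ := Submodule.mem_span_singleton.1 hm
      exact inv_ne_zero ha (neg_eq_zero.1 (li (c * a) (-a⁻¹)
        (by linear_combination (norm := module) hc)).2)
    · apply OG.ext'
      intro x
      rw [sg_apply he hef hf, sg_apply _ _ (by rw [Q_smul, hf, mul_zero])]
      qsimp
      match_scalars <;> field_simp <;> ring
  · refine ⟨-b⁻¹ • e, hxs, by qsimp; rw [he, B_comm Q f e, hef]; ring,
      by rw [Q_smul, he, mul_zero], ?_, ?_⟩
    · intro hm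
      obtain ⟨c, hc⟩ := Submodule.mem_span_singleton.1 hm
      have := li (c * a + b⁻¹) (c * b) (by linear_combination (norm := module) hc)
      have hc0 : c = 0 := (mul_eq_zero.1 this.2).resolve_right hb
      rw [hc0] at this
      exact inv_ne_zero hb (by simpa using this.1)
    · apply OG.ext'
      intro x
      rw [sg_apply he hef hf, sg_apply _ _ (by rw [Q_smul, he, mul_zero])]
      qsimp
      match_scalars <;> field_simp <;> ring

lemma LR.movS_eq (hQ : ND Q) {s : OG Q} (h : LR s) {x y : V} (hx : x ∈ movS s) (hy : y ∈ movS s)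
    (hx0 : x ≠ 0) (hyx : y ∉ F ∙ x) : movS s = Submodule.span F {x, y} := by
  symm
  apply Submodule.eq_of_le_of_finrank_eq
  · rw [Submodule.span_le]; rintro z (rfl | rfl) <;> assumption
  · rw [h.rk_eq hQ, finrank_span_pair_of hx0 hyx]

omit [FiniteDimensional F V] in
lemma fix_of_perp (hQ : ND Q) {s : OG Q} {x : V} (hx : ∀ y ∈ movS s, polar Q y x = 0) :
    s.1 x = x := by
  rw [← mem_fixS, ← perp_movS hQ, mem_perp]; exact hx

lemma commute_of_meet (hQ : ND Q) {s t : OG Q} (hs : LR s) (ht : LR t) (h : Meet s t) :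
    s * t = t * s := by
  obtain ⟨x, hx0, h1, h2⟩ := h
  obtain ⟨y, hx, hxy, -, -, rfl⟩ := hs.exists_eq hQ h1 hx0
  obtain ⟨z, hx', hxz, -, -, rfl⟩ := ht.exists_eq hQ h2 hx0
  rw [siegel_mul, siegel_mul]
  exact siegel_congr _ _ rfl (add_comm _ _)

lemma commute_of_prp (hQ : ND Q) {s t : OG Q} (ht : LR t) (h : Prp s t) : s * t = t * s := by
  obtain ⟨e, f, he, hef, hf, he0, hfe, rfl⟩ := ht
  rw [Prp, movS_siegel hQ he hef hf he0 hfe] at h
  rw [← mul_inv_eq_iff_eq_mul, siegel_conj]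
  exact siegel_congr _ _
    (fix_of_perp hQ fun y hy => h y hy e (Submodule.subset_span (by simp)))
    (fix_of_perp hQ fun y hy => h y hy f (Submodule.subset_span (by simp)))

omit [FiniteDimensional F V] in
lemma meet_or_prp_of_commute {s t : OG Q} (h : s * t = t * s) : Meet s t ∨ Prp s t := by
  by_cases hm : Meet s t
  · exact Or.inl hm
  right
  intro x hx y hy
  have h1 : img s (movS t) = movS t := by
    rw [← movS_conj, h, mul_inv_cancel_right]
  have h2 : s.1 y - y ∈ movS t := sub_mem (by rw [← h1]; exact ⟨y, hy, rfl⟩) hy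
  have h3 : s.1 y - y = 0 := by
    by_contra h0
    exact hm ⟨_, h0, sub_mem_movS s y, h2⟩
  rw [B_comm]
  exact B_fix_mov (mem_fixS.2 (sub_eq_zero.1 h3)) hx

lemma rl_of_meet_prp (hQ : ND Q) {s t : OG Q} (hs : LR s) (ht : LR t) (h : Meet s t)
    (h' : Prp s t) : LR (s * t) ∨ s * t = 1 := by
  obtain ⟨x, hx0, h1, h2⟩ := h
  obtain ⟨y, hx, hxy, hy, hyx, rfl⟩ := hs.exists_eq hQ h1 hx0
  obtain ⟨z, hx', hxz, hz, hzx, rfl⟩ := ht.exists_eq hQ h2 hx0
  rw [Prp, movS_siegel hQ hx hxy hy hx0 hyx, movS_siegel hQ hx' hxz hz hx0 hzx] at h'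
  rw [siegel_mul]
  apply lr_or_one
  rw [Q_add, hy, hz, h' y (Submodule.subset_span (by simp)) z (Submodule.subset_span (by simp))]
  ring

lemma meet_prp_of_rl (hQ : ND Q) {s t : OG Q} (hs : LR s) (ht : LR t)
    (h : LR (s * t) ∨ s * t = 1) : Meet s t ∧ Prp s t := by
  have hrk : finrank F (movS (s * t)) ≤ 2 := by
    rcases h with h | h
    · exact (h.rk_eq hQ).le
    · rw [h]; exact (rk_one (Q := Q)).le.trans (by norm_num)
  have hts : TS Q (movS (s * t)) := by
    rcases h with h | h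
    · exact h.ts hQ
    · rw [h]; intro x hx
      obtain ⟨y, rfl⟩ := mem_movS.1 hx
      simp
  have hm : Meet s t := by
    by_contra hm
    have h1 : movS s ⊓ movS t = ⊥ := by
      rw [eq_bot_iff]
      rintro x ⟨h1, h2⟩
      by_contra h0
      exact hm ⟨x, h0, h1, h2⟩
    have h2 : fixS (s * t) ≤ perp Q (movS s ⊔ movS t) := by
      rw [perp_sup, perp_movS hQ, perp_movS hQ]
      intro x hx
      rw [mem_fixS, OG.mul_apply] at hx
      have h3 : t.1 x - x ∈ movS s ⊓ movS t := by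
        refine ⟨?_, sub_mem_movS t x⟩
        have := neg_mem (sub_mem_movS s (t.1 x))
        rwa [hx, neg_sub] at this
      rw [h1, Submodule.mem_bot, sub_eq_zero] at h3
      rw [h3] at hx
      exact ⟨mem_fixS.2 hx, mem_fixS.2 h3⟩
    have h3 := Submodule.finrank_mono h2
    have h4 := finrank_perp hQ (movS s ⊔ movS t)
    have h5 := Submodule.finrank_sup_add_finrank_inf_eq (movS s) (movS t)
    have h6 := rk_add_fix (s * t)
    rw [h1, finrank_bot, hs.rk_eq hQ, ht.rk_eq hQ] at h5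
    rw [rk] at h6
    omega
  refine ⟨hm, ?_⟩
  obtain ⟨x, hx0, h1, h2⟩ := hm
  obtain ⟨y, hx, hxy, hy, hyx, rfl⟩ := hs.exists_eq hQ h1 hx0
  obtain ⟨z, hx', hxz, hz, hzx, rfl⟩ := ht.exists_eq hQ h2 hx0
  have hyz : polar Q y z = 0 := by
    rw [siegel_mul] at hts
    obtain ⟨f, -, hf⟩ := exists_hyp_partner hQ hx0 hx
    have := hts _ (sub_mem_movS _ f)
    rw [siegel_apply, B_comm Q f x, hf] at this
    have e : f + polar Q f (y + z) • x - (1 : F) • (y + z) - (Q (y + z) * 1) • x - f =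
      (polar Q f (y + z) - Q (y + z)) • x - (y + z) := by module
    rw [e, Q_sub, Q_smul, hx, B_smul_left, polar_add_right Q x, hxy, hxz, Q_add, hy, hz] at this
    simpa using this
  rw [Prp, movS_siegel hQ hx hxy hy hx0 hyx, movS_siegel hQ hx' hxz hz hx0 hzx]
  intro u hu v hv
  obtain ⟨a, b, rfl⟩ := Submodule.mem_span_pair.1 hu
  obtain ⟨c, d, rfl⟩ := Submodule.mem_span_pair.1 hv
  qsimp
  rw [hx, hxz, B_comm Q y x, hxy, hyz]; ring

lemma exists_fix3 (hQ : ND Q) (h : 7 ≤ finrank F V) {s t u : OG Q} (hs : finrank F (movS s) ≤ 2)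
    (ht : finrank F (movS t) ≤ 2) (hu : finrank F (movS u) ≤ 2) :
    ∃ v, v ≠ 0 ∧ s.1 v = v ∧ t.1 v = v ∧ u.1 v = v := by
  have h1 := finrank_perp hQ (movS s ⊔ movS t ⊔ movS u)
  have h2 := Submodule.finrank_add_le_finrank_add_finrank (movS s ⊔ movS t) (movS u)
  have h3 := Submodule.finrank_add_le_finrank_add_finrank (movS s) (movS t)
  have h4 : perp Q (movS s ⊔ movS t ⊔ movS u) ≠ ⊥ := by
    intro h0; rw [h0, finrank_bot] at h1; omega
  obtain ⟨v, hv, hv0⟩ := Submodule.exists_mem_ne_zero_of_ne_bot h4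
  rw [perp_sup, perp_sup, perp_movS hQ, perp_movS hQ, perp_movS hQ] at hv
  exact ⟨v, hv0, mem_fixS.1 hv.1.1, mem_fixS.1 hv.1.2, mem_fixS.1 hv.2⟩

/-- An isometry fixing `e` and acting trivially on `e^⊥/e` is a Siegel transformation. -/
lemma eq_siegel_of (hQ : ND Q) {e : V} (he0 : e ≠ 0) (he : Q e = 0) {g : OG Q} (h1 : g.1 e = e)
    (h2 : ∀ w, polar Q e w = 0 → g.1 w - w ∈ F ∙ e) : ∃ u hu, g = siegel e u he hu := by
  obtain ⟨f, hf, hef⟩ := exists_hyp_partner hQ he0 he
  set y := g.1 f - f with hy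
  have hgf : g.1 f = f + y := by rw [hy]; module
  have hye : polar Q e y = 0 := by
    rw [hy, polar_sub_right]
    nth_rewrite 1 [← h1]
    rw [OG.map_B, sub_self]
  have hQy : Q y = - polar Q f y := by
    have := OG.map_Q g f
    rw [hgf, Q_add, hf] at this
    linear_combination this
  refine ⟨-y + polar Q f y • e, by qsimp; rw [hye, he]; ring, OG.ext' fun x => ?_⟩
  obtain ⟨a, ha⟩ := Submodule.mem_span_singleton.1 (h2 (x - polar Q e x • f)
    (by qsimp; rw [hef]; ring))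
  have hgx : g.1 x = x + a • e + polar Q e x • y := by
    rw [map_sub, map_smul, hgf] at ha
    linear_combination (norm := module) -ha
  have h3 := OG.map_B g x f
  rw [hgx, hgf] at h3
  rw [hgx, siegel_apply]
  revert h3
  qsimp
  rw [he, hef, hye, B_comm Q y e, hye, B_comm Q y f, B_comm Q x e, hQy]
  intro h3
  have : a = -polar Q x y + polar Q e x * polar Q f y := by linear_combination h3
  rw [this]
  module

section fixed
variable [Finite F] {p : ℕ} [Fact p.Prime] [CharP F p]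

/-- A `p`-group has a non-zero fixed vector on every non-zero section. -/
lemma exists_fixed_quot {P : Type*} [Group P] (hP : IsPGroup p P) (ρ : P →* (V ≃ₗ[F] V))
    {U W : Submodule F V} (hUW : ¬ W ≤ U) (hU : ∀ g, ∀ u ∈ U, ρ g u ∈ U)
    (hW : ∀ g, ∀ w ∈ W, ρ g w ∈ W) : ∃ w ∈ W, w ∉ U ∧ ∀ g, ρ g w - w ∈ U := by
  have : Finite V := Module.finite_of_finite F
  let X := W.map U.mkQ
  let τ : P → (V ⧸ U) →ₗ[F] (V ⧸ U) := fun g => U.mapQ U (ρ g).toLinearMap (hU g)
  have hτ : ∀ g v, τ g (U.mkQ v) = U.mkQ (ρ g v) := fun _ _ => rfl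
  let _ : MulAction P X :=
    { smul := fun g x => ⟨τ g x, by
        obtain ⟨_, w, hw, rfl⟩ := x
        exact ⟨_, hW g w hw, rfl⟩⟩
      one_smul := by
        rintro ⟨_, w, hw, rfl⟩
        apply Subtype.ext
        change τ 1 (U.mkQ w) = U.mkQ w
        rw [hτ, map_one]; rfl
      mul_smul := by
        rintro g h ⟨_, w, hw, rfl⟩
        apply Subtype.ext
        change τ (g * h) (U.mkQ w) = τ g (τ h (U.mkQ w))
        rw [hτ, hτ, hτ, map_mul]; rfl }
  have hfin : Finite (V ⧸ U) := Finite.of_surjective _ U.mkQ_surjective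
  have hdvd : p ∣ Nat.card X := by
    obtain ⟨w, hw, hw0⟩ := SetLike.not_le_iff_exists.1 hUW
    have h1 : addOrderOf (⟨U.mkQ w, w, hw, rfl⟩ : X) = p := by
      refine addOrderOf_eq_prime ?_ ?_
      · apply Subtype.ext
        change p • U.mkQ w = 0
        rw [← Nat.cast_smul_eq_nsmul F, CharP.cast_eq_zero, zero_smul]
      · intro h
        exact hw0 ((Submodule.Quotient.mk_eq_zero U).1 (congrArg Subtype.val h))
    rw [← h1]
    exact addOrderOf_dvd_natCard _
  have h0 : (0 : X) ∈ MulAction.fixedPoints P X := fun g => Subtype.ext (map_zero (τ g))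
  obtain ⟨⟨_, w, hw, rfl⟩, hb, hb0⟩ :=
    hP.exists_fixed_point_of_prime_dvd_card_of_fixed_point X hdvd h0
  refine ⟨w, hw, fun h => hb0 (Subtype.ext ((Submodule.Quotient.mk_eq_zero U).2 h).symm),
    fun g => ?_⟩
  exact (Submodule.Quotient.eq U).1 (congrArg Subtype.val (hb g))

/-- A `p`-group of isometries fixes a singular vector on `U^⊥/U`. -/
lemma exists_fixed_sing (hQ : ND Q) {P : Type*} [Group P] (hP : IsPGroup p P) (ρ : P →* OG Q)
    {U : Submodule F V} (hts : TS Q U) (hU : ∀ g, ∀ u ∈ U, (ρ g).1 u ∈ U)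
    (hd : 2 * finrank F U + 3 ≤ finrank F V) :
    ∃ w ∈ perp Q U, w ∉ U ∧ Q w = 0 ∧ ∀ g, (ρ g).1 w - w ∈ U := by
  by_contra hn
  push Not at hn
  let ρ' : P →* (V ≃ₗ[F] V) := (OG Q).subtype.comp ρ
  have inv_perp : ∀ {X : Submodule F V}, (∀ g, ∀ u ∈ X, (ρ g).1 u ∈ X) →
      ∀ g, ∀ u ∈ perp Q X, (ρ g).1 u ∈ perp Q X := fun hX g u hu => by
    rw [mem_perp] at hu ⊢
    intro x hx
    rw [B_comm, OG.B_left, B_comm, ← map_inv]
    exact hu _ (hX _ _ hx)
  let C : Submodule F V :=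
    { carrier := {x | x ∈ perp Q U ∧ ∀ g, (ρ g).1 x - x ∈ U}
      add_mem' := fun {a b} ha hb => ⟨add_mem ha.1 hb.1, fun g => by
        have := add_mem (ha.2 g) (hb.2 g)
        rw [map_add]; convert this using 1; module⟩
      zero_mem' := ⟨zero_mem _, fun g => by simp⟩
      smul_mem' := fun c a ha => ⟨Submodule.smul_mem _ c ha.1, fun g => by
        have := U.smul_mem c (ha.2 g)
        rw [map_smul]; convert this using 1; module⟩ }
  have hUC : U ≤ C := fun u hu => ⟨hts.le_perp hu, fun g => sub_mem (hU g u hu) hu⟩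
  have hC : ∀ x ∈ C, Q x = 0 → x ∈ U := fun x hx h0 => by
    by_contra hxU
    obtain ⟨g, hg⟩ := hn x hx.1 hxU h0
    exact hg (hx.2 g)
  have hCinv : ∀ g, ∀ u ∈ C, (ρ g).1 u ∈ C := fun g u hu => by
    have := add_mem (hUC (hu.2 g)) hu
    simpa using this
  have hp := finrank_perp hQ U
  have h1 : ¬ perp Q U ≤ C := by
    intro hle
    obtain ⟨D, hD⟩ := Submodule.exists_isCompl (U.comap (perp Q U).subtype)
    have h2 := Submodule.finrank_add_eq_of_isCompl hD
    rw [(Submodule.comapSubtypeEquivOfLe hts.le_perp).finrank_eq] at h2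
    obtain ⟨x, hx0, hx⟩ := exists_sing_of_three_le ((Q.restrict (perp Q U)).restrict D) (by omega)
    have h3 : x.1 ∈ U.comap (perp Q U).subtype ⊓ D := ⟨hC _ (hle x.1.2) hx, x.2⟩
    rw [hD.inf_eq_bot, Submodule.mem_bot] at h3
    exact hx0 (Subtype.ext h3)
  have h2 : ¬ perp Q C ≤ U := fun hle => h1 fun x hx => by
    rw [← perp_perp hQ C, mem_perp]
    intro y hy
    exact mem_perp.1 hx y (hle hy)
  obtain ⟨w, hwC, hwU, hw⟩ := exists_fixed_quot hP ρ' h2 hU (inv_perp hCinv)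
  have hwC' : w ∈ C := ⟨mem_perp.2 fun u hu => mem_perp.1 hwC u (hUC hu), hw⟩
  have hQw : Q w ≠ 0 := fun h => hwU (hC w hwC' h)
  have hww : polar Q w w = 0 := mem_perp.1 hwC w hwC'
  have h20 : (2 : F) = 0 := by
    rw [B_self] at hww; exact (mul_eq_zero.1 hww).resolve_right hQw
  have hU'inv : ∀ g, ∀ u ∈ U ⊔ F ∙ w, (ρ g).1 u ∈ U ⊔ F ∙ w := fun g u hu => by
    obtain ⟨a, ha, b, hb, rfl⟩ := Submodule.mem_sup.1 hu
    obtain ⟨c, rfl⟩ := Submodule.mem_span_singleton.1 hb
    have : (ρ g).1 (a + c • w) = ((ρ g).1 a + c • ((ρ g).1 w - w)) + c • w := by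
      rw [map_add, map_smul]; module
    rw [this]
    exact Submodule.add_mem_sup (add_mem (hU g a ha) (U.smul_mem c (hw g))) hb
  have h3 : ¬ perp Q (U ⊔ F ∙ w) ≤ U ⊔ F ∙ w := fun hle => by
    have h4 := Submodule.finrank_mono hle
    have h5 := finrank_perp hQ (U ⊔ F ∙ w)
    rw [finrank_sup_span hwU] at h4 h5
    omega
  obtain ⟨u, huP, huU, hu⟩ := exists_fixed_quot hP ρ' h3 hU'inv (inv_perp hU'inv)
  obtain ⟨t, ht⟩ := isSquare_of_two h20 (Q u / Q w)
  have huw : polar Q w u = 0 :=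
    mem_perp.1 huP w (Submodule.mem_sup_right (Submodule.mem_span_singleton_self w))
  have hsing : Q (u + t • w) = 0 := by
    qsimp
    rw [B_comm, huw, pow_two, ← ht]
    field_simp
    linear_combination Q u * h20
  have hperp : u + t • w ∈ perp Q U :=
    add_mem (mem_perp.2 fun x hx => mem_perp.1 huP x (Submodule.mem_sup_left hx))
      (Submodule.smul_mem _ t hwC'.1)
  apply huU
  have h6 : u + t • w ∈ U := by
    refine hC _ ⟨hperp, fun g => ?_⟩ hsing
    obtain ⟨a, ha, b, hb, hab⟩ := Submodule.mem_sup.1 (hu g)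
    obtain ⟨c, rfl⟩ := Submodule.mem_span_singleton.1 hb
    have e : (ρ g).1 (u + t • w) = (u + t • w) + ((a + t • ((ρ g).1 w - w)) + c • w) := by
      rw [map_add, map_smul]
      change a + c • w = (ρ g).1 u - u at hab
      linear_combination (norm := module) -hab
    have ha' : a + t • ((ρ g).1 w - w) ∈ U := add_mem ha (U.smul_mem t (hw g))
    set a' := a + t • ((ρ g).1 w - w)
    have h7 := OG.map_Q (ρ g) (u + t • w)
    rw [e, Q_add, Q_add Q a', hsing, hts a' ha', Q_smul, B_smul_right,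
      mem_perp.1 hwC'.1 a' ha', polar_add_right, B_comm, mem_perp.1 hperp a' ha', B_smul_right,
      polar_add_left, B_smul_left, hww, B_comm, huw] at h7
    have h8 : c = 0 := by simpa [hQw] using h7
    rw [e, h8]; simpa using ha'
  have : u = (u + t • w) + (-t) • w := by module
  rw [this]
  exact Submodule.add_mem_sup h6 (Submodule.smul_mem _ _ (Submodule.mem_span_singleton_self w))

end fixed

end Cfsg.Agent.H7
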