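import Cfsg.Agent.H7.OutT

/-!
Inner-diagonal groups of the matrix carriers, standard field automorphisms.
-/

set_option autoImplicit false

namespace Cfsg.Agent.H7

open QuadraticMap Module Subgroup Matrix

universe u

section abstract
variable {F V : Type*} [Field F] [AddCommGroup V] [Module F V] {Q : QuadraticForm F V}

lemma SS.pow_σ (g : SS Q) (n : ℕ) : (g ^ n).σ = g.σ ^ n := map_pow (SS.sig Q) g n

lemma SS.pow_apply (g : SS Q) (n : ℕ) (x : V) : (g ^ n).γ x = g.γ^[n] x := by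
  induction n generalizing x with
  | zero => rfl
  | succ n ih => rw [pow_succ, SS.mul_apply, ih, Function.iterate_succ_apply]

lemma PlusType.max_iff [FiniteDimensional F V] (hP : PlusType Q) (hQ : ND Q) {U : Submodule F V} :
    (TS Q U ∧ ∀ W, TS Q W → U ≤ W → W = U) ↔ TS Q U ∧ 2 * finrank F U = finrank F V := by
  refine and_congr_right fun hU => ⟨fun h => ?_, fun h W hW hUW => ?_⟩
  · obtain ⟨U₀, h1, h2⟩ := hP
    have := hU.finrank_le_of_maximal hQ h h1
    have := hU.two_mul_finrank_le hQ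
    omega
  · have := hW.two_mul_finrank_le hQ
    exact (Submodule.eq_of_le_of_finrank_le hUW (by omega)).symm

end abstract

section fields

lemma exists_frob_gen {F : Type*} [Field F] [Fintype F] {p f : ℕ} [Fact p.Prime] [CharP F p]
    (hF : Fintype.card F = p ^ f) : ∀ τ, τ ∈ zpowers (frobeniusEquiv F p) := by
  letI := ZMod.algebra F p
  let φ : (F ≃ₐ[ZMod p] F) →* (F ≃+* F) :=
    { toFun := fun a => a.toRingEquiv, map_one' := rfl, map_mul' := fun _ _ => rfl }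
  have h1 : Function.Injective φ := fun a b h => AlgEquiv.ext fun x => DFunLike.congr_fun h x
  have h2 := FiniteField.orderOf_frobeniusAlgEquivOfAlgebraic (ZMod p) F
  have h3 : φ (FiniteField.frobeniusAlgEquivOfAlgebraic (ZMod p) F) = frobeniusEquiv F p := by
    ext x
    change x ^ Fintype.card (ZMod p) = x ^ p
    rw [ZMod.card]
  have h := Module.natCard_eq_pow_finrank (K := ZMod p) (V := F)
  rw [Nat.card_eq_fintype_card, hF, Nat.card_zmod] at h
  rw [← orderOf_injective φ h1, h3, ← Nat.pow_right_injective (Fact.out : p.Prime).two_le h,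
    ← (H6.ringAut_cyclic_card hF).2] at h2
  have := H6.ringAut_finite (F := F)
  intro τ
  rw [Subgroup.eq_top_of_card_eq (zpowers (frobeniusEquiv F p)) (by rw [Nat.card_zpowers, h2])]
  trivial

lemma fact_of_aniso {F : Type*} [Field F] {a b : F}
    (hab : ∀ z₁ z₂ : F, z₁ ^ 2 + a * z₁ * z₂ + b * z₂ ^ 2 = 0 → z₁ = 0 ∧ z₂ = 0) :
    Fact (∀ r : F, r ^ 2 ≠ -b + a * r) :=
  ⟨fun r hr => by simpa using (hab r (-1) (by linear_combination hr)).2⟩

lemma exists_root_of_even {F K : Type*} [Field F] [Field K] [Finite K] [Algebra F K]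
    (h : 2 ∣ finrank F K) (a b : F) :
    ∃ t : K, t ^ 2 + algebraMap F K a * t + algebraMap F K b = 0 := by
  by_cases h1 : ∃ r : F, r ^ 2 = -b + a * r
  · obtain ⟨r, hr⟩ := h1
    refine ⟨algebraMap F K (-r), ?_⟩
    rw [← map_pow, ← map_mul, ← map_add, ← map_add, map_eq_zero]
    linear_combination hr
  · have : Fact (∀ r : F, r ^ 2 ≠ -b + a * r) := ⟨fun r hr => h1 ⟨r, hr⟩⟩
    obtain ⟨φ⟩ := FiniteField.nonempty_algHom_of_finrank_dvd (F := F)
      (K := QuadraticAlgebra F (-b) a) (L := K) (by rwa [QuadraticAlgebra.finrank_eq_two])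
    refine ⟨-φ QuadraticAlgebra.omega, ?_⟩
    have := congrArg φ (QuadraticAlgebra.omega_mul_omega_eq_algebraMap (a := -b) (b := a))
    simp only [map_mul, map_add, AlgHom.commutes, map_neg] at this
    linear_combination this

end fields

section matrices
variable {F : Type*} [Field F] {ι : Type} [Fintype ι] [DecidableEq ι]
  {Q : QuadraticForm F (ι → F)}

lemma HasMat.img_eq {g : SS Q} (hg : g ∈ GO Q) {A : GL ι F} (h : HasMat g A)
    (U : Submodule F (ι → F)) : Cfsg.imageSubmodule (A : Matrix ι ι F) U = g.img U := by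
  have : ∀ v, g.γ v = Matrix.toLin' (A : Matrix ι ι F) v := fun v => by
    rw [h, mem_GO.1 hg]; rfl
  ext x
  exact exists_congr fun y => and_congr_right fun _ => by rw [this]

lemma HasMat.preserves_iff [Finite F] (hQ : ND Q) (hE : NonExc Q) (hP : PlusType Q) {g : SS Q}
    (hg : g ∈ GO Q) {A : GL ι F} (h : HasMat g A) :
    Cfsg.PreservesSingularClasses ⇑Q (A : Matrix ι ι F) ↔ g ∈ DS Q := by
  constructor
  · intro h1
    obtain ⟨U, h2, h3⟩ := id hP
    have := h1 U ((hP.max_iff hQ).2 ⟨h2, h3⟩)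
    rw [h.img_eq hg] at this
    exact (mem_DS_iff_parity hQ hE h2 h3 hg).2 this
  · intro h1 U hU
    obtain ⟨h2, h3⟩ := (hP.max_iff hQ).1 hU
    rw [h.img_eq hg]
    exact (mem_DS_iff_parity hQ hE h2 h3 hg).1 h1

lemma HasMat.map {K : Type*} [Field K] {e : F →+* K} {Q' : QuadraticForm K (ι → K)}
    (X : Ext e Q Q' (piMap ι e) 1) {g : GO Q} {A : GL ι F} (h : HasMat g.1 A) :
    HasMat (X.E g) (GeneralLinearGroup.map e A) := by
  have := X.lin_ext (a := ((X.E g).lin (mem_GO.1 (X.E_mem_GO g))).toLinearMap)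
    (b := Matrix.toLin' ((A : Matrix ι ι F).map e)) fun v => by
      change (X.E g).γ _ = _
      rw [X.E_j, h, mem_GO.1 g.2]
      funext i
      exact RingHom.map_mulVec e (A : Matrix ι ι F) v i
  exact fun v => LinearMap.congr_fun this v

/-- the standard field map -/
def SS.std (σ : F ≃+* F) (h : ∀ v : ι → F, Q (fun i => σ (v i)) = σ (Q v)) : SS Q :=
  SS.ofPair 1 σ 1 fun v => by simpa using h v

lemma hasMat_std (σ : F ≃+* F) (h : ∀ v : ι → F, Q (fun i => σ (v i)) = σ (Q v)) :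
    HasMat (SS.std σ h) 1 := hasMat_ofPair _ _ _ _

@[simp] lemma SS.std_σ (σ : F ≃+* F) (h : ∀ v : ι → F, Q (fun i => σ (v i)) = σ (Q v)) :
    (SS.std σ h).σ = σ := rfl

@[simp] lemma SS.std_c (σ : F ≃+* F) (h : ∀ v : ι → F, Q (fun i => σ (v i)) = σ (Q v)) :
    (SS.std σ h).c = 1 := rfl

lemma SS.std_apply (σ : F ≃+* F) (h : ∀ v : ι → F, Q (fun i => σ (v i)) = σ (Q v)) (v : ι → F) :
    (SS.std σ h).γ v = fun i => σ (v i) := by
  rw [hasMat_std σ h v]; simp

lemma SS.std_pow_eq_one (hQ : ND Q) [Nonempty ι] {σ : F ≃+* F}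
    (h : ∀ v : ι → F, Q (fun i => σ (v i)) = σ (Q v)) {n : ℕ} (hn : σ ^ n = 1) :
    SS.std σ h ^ n = 1 := by
  have : ∀ (k : ℕ) v, (SS.std σ h ^ k).γ v = fun i => (σ ^ k) (v i) := fun k => by
    induction k with
    | zero => intro v; rfl
    | succ k ih => intro v; rw [pow_succ, SS.mul_apply, ih, SS.std_apply, pow_succ]; rfl
  exact SS.ext_of_apply hQ fun v => by rw [this, hn]; rfl

lemma std_QP (m : ℕ) (σ : F ≃+* F) (v : Fin m ⊕ Fin m → F) :
    QP F m (fun i => σ (v i)) = σ (QP F m v) := by simp [QP_apply]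

lemma std_QO (m : ℕ) (σ : F ≃+* F) (v : Unit ⊕ (Fin m ⊕ Fin m) → F) :
    QO F m (fun i => σ (v i)) = σ (QO F m v) := by simp [QO_apply]

lemma std_QM (m : ℕ) {a b : F} {σ : F ≃+* F} (ha : σ a = a) (hb : σ b = b)
    (v : (Fin m ⊕ Fin m) ⊕ Fin 2 → F) :
    QM F m a b (fun i => σ (v i)) = σ (QM F m a b v) := by simp [QM_apply, ha, hb]

variable [Finite F]

lemma exists_hom_inn (hQ : ND Q) (h5 : 5 ≤ Fintype.card ι) (H : Subgroup (SS Q)) {Γ : Type*}
    [Group Γ] (e : Nonempty (H.map (piO Q) ≃* Γ)) :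
    ∃ φ : H.map (actP Q) →* Γ, Function.Surjective φ ∧
      φ.ker = (Cfsg.Inn (Cfsg.POmega F ⇑Q)).subgroupOf (H.map (actP Q)) := by
  rw [inn_eq_KS]
  exact exists_hom_map_quot _ H (KS Q) (by rw [ker_actP hQ h5]; exact le_sup_right) e

lemma relIndex_inn (hQ : ND Q) (h5 : 5 ≤ Fintype.card ι) (H : Subgroup (SS Q)) :
    (Cfsg.Inn (Cfsg.POmega F ⇑Q)).relIndex (H.map (actP Q)) = Nat.card (H.map (piO Q)) := by
  rw [inn_eq_KS]
  exact relIndex_map_eq_card _ H (KS Q) (by rw [ker_actP hQ h5]; exact le_sup_right)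

lemma out_equiv (hQ : ND Q) (h5 : 5 ≤ Fintype.card ι) (hs : Function.Surjective (actP Q)) :
    Nonempty (Cfsg.Out (Cfsg.POmega F ⇑Q) ≃* Ou Q) :=
  nonempty_quot_equiv _ hs _ _ (comap_inn hQ h5)

lemma exists_hom_pgo_pso (h2 : (2 : F) ≠ 0) (hQ : ND Q) {k : ℕ} (hk : Fintype.card ι = 2 * k)
    (h3 : 3 ≤ k) : ∃ φ : Cfsg.pgoAut F ⇑Q →* Multiplicative (ZMod 2 × ZMod 2),
      Function.Surjective φ ∧ φ.ker = (Cfsg.psoAut F ⇑Q).subgroupOf (Cfsg.pgoAut F ⇑Q) := by
  rw [pgoAut_eq, psoAut_eq]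
  obtain ⟨ψ, h1, h4⟩ := exists_hom_GO_SO h2 hQ (k := k) (by simpa using hk) (by omega)
  exact exists_hom_map _ _ _ ψ h1 (by rwa [ker_actP hQ (by omega)])

lemma isInnDiagPlus_iff {m : ℕ} (hm : 3 ≤ m) (β : MulAut (Cfsg.POmega F ⇑(QP F m))) :
    Cfsg.IsInnerDiagonalAutPOmegaPlus m β ↔ ∃ g ∈ DS (QP F m), actP (QP F m) g = β :=
  sim_induced_iff (Q := QP F m) DS_le_GO (fun _ hg _ hA => hA.preserves_iff (nd_QP m)
    (nonExc_of_finrank (nd_QP m) (by simp; omega)) (plusType_QP m) hg) β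

lemma inndiagPlus_eq {m : ℕ} (hm : 3 ≤ m) :
    Cfsg.inndiagPOmegaPlus m F = (DS (QP F m)).map (actP (QP F m)) :=
  autSubgroupOf_eq_map (Q := QP F m) _ (isInnDiagPlus_iff hm)

omit [Finite F] in
lemma isInnDiagOdd_iff {m : ℕ} (β : MulAut (Cfsg.POmega F ⇑(QO F m))) :
    Cfsg.IsInnerDiagonalAutPOmegaOdd m β ↔ ∃ g ∈ GO (QO F m), actP (QO F m) g = β := by
  rw [← sim_induced_iff (R := fun _ => True) le_rfl (fun g hg _ _ => by simpa using hg)]
  simp only [true_and]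
  rfl

omit [Finite F] in
lemma inndiagOdd_eq {m : ℕ} : Cfsg.inndiagPOmegaOdd m F = (GO (QO F m)).map (actP (QO F m)) :=
  pgoAut_eq (Q := QO F m)

end matrices

section minus
variable {F : Type u} [Field F] [Finite F] {m : ℕ} {a b : F}
  (hab : ∀ z₁ z₂ : F, z₁ ^ 2 + a * z₁ * z₂ + b * z₂ ^ 2 = 0 → z₁ = 0 ∧ z₂ = 0)
include hab

lemma HasMat.preserves_ext_iff (hm : 2 ≤ m) {K : Type*} [Field K] [Algebra F K]
    (hK : finrank F K = 2) {g : SS (QM F m a b)} (hg : g ∈ GO _) {A : GL _ F} (h : HasMat g A) :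
    Cfsg.PreservesSingularClasses (Cfsg.quadFormMinus m K (algebraMap F K a) (algebraMap F K b))
      ((A : Matrix _ _ F).map (algebraMap F K)) ↔ g ∈ DS _ := by
  have := Module.finite_of_finrank_pos (R := F) (M := K) (by omega)
  have := Module.finite_of_finite F (M := K)
  have X := ext_QM (algebraMap F K) m a b
  have hQ : ND (QM K m (algebraMap F K a) (algebraMap F K b)) := nd_QM (by
    have := disc_ne_zero_of_aniso hab
    rwa [Ne, ← map_eq_zero (algebraMap F K), map_sub, map_pow, map_mul, map_ofNat] at this)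
  obtain ⟨t, ht⟩ := exists_root_of_even hK.symm.dvd a b
  exact ((h.map X (g := ⟨g, hg⟩)).preserves_iff hQ (nonExc_of_finrank hQ (by simp; omega))
    (plusType_QM_of_root ht) (X.E_mem_GO _)).trans
    (X.E_mem_DS_iff hQ (by simp; omega) (by simp [← two_mul, parity_simps]) _)

lemma isInnDiagMinus_iff (hm : 2 ≤ m) (β : MulAut (Cfsg.POmega F ⇑(QM F m a b))) :
    Cfsg.IsInnerDiagonalAutPOmegaMinus m a b β ↔ ∃ g ∈ DS (QM F m a b), actP (QM F m a b) g = β := by
  refine sim_induced_iff (Q := QM F m a b) DS_le_GO (fun g hg A hA => ⟨?_, fun h => ?_⟩) β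
  · rintro ⟨K, _, _, hK, h⟩
    exact (hA.preserves_ext_iff hab hm hK hg).1 h
  · have := fact_of_aniso hab
    exact ⟨QuadraticAlgebra F (-b) a, inferInstance, inferInstance, QuadraticAlgebra.finrank_eq_two _ _,
      (hA.preserves_ext_iff hab hm (QuadraticAlgebra.finrank_eq_two _ _) hg).2 h⟩

lemma inndiagMinus_eq (hm : 2 ≤ m) :
    Cfsg.inndiagPOmegaMinus m F a b = (DS (QM F m a b)).map (actP (QM F m a b)) :=
  autSubgroupOf_eq_map (Q := QM F m a b) _ (isInnDiagMinus_iff hab hm)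

end minus

section disc
variable {F : Type*} [Field F] [Fintype F] (hodd : Odd (Fintype.card F))
include hodd

lemma chi_neg_one_pow_eq_neg_iff (m : ℕ) :
    chi (-1 : F) ^ m = -1 ↔ Odd m ∧ Fintype.card F % 4 = 3 := by
  rcases chi_neg_one_eq rfl hodd with ⟨h1, h2⟩ | ⟨h1, h2⟩
  · simp [h1, h2]
  · rw [h2]
    rcases Nat.even_or_odd m with h | h
    · simp [h.neg_one_pow, Nat.not_odd_iff_even.2 h]
    · simp [h.neg_one_pow, h, h1]

lemma disc_QP_eq_neg_iff (m : ℕ) : disc (QP F m) = -1 ↔ Odd m ∧ Fintype.card F % 4 = 3 := by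
  rw [disc_QP, chi_neg_one_pow_eq_neg_iff hodd]

lemma disc_QP_eq_one {m : ℕ} (h : ¬ (Odd m ∧ Fintype.card F % 4 = 3)) : disc (QP F m) = 1 :=
  (disc_dichotomy (nd_QP m)).resolve_right (mt (disc_QP_eq_neg_iff hodd m).1 h)

variable {m : ℕ} {a b : F}
  (hab : ∀ z₁ z₂ : F, z₁ ^ 2 + a * z₁ * z₂ + b * z₂ ^ 2 = 0 → z₁ = 0 ∧ z₂ = 0)
include hab

lemma disc_QM_eq_one_iff : disc (QM F m a b) = 1 ↔ Even m ∧ Fintype.card F % 4 = 3 := by
  rw [disc_QM_aniso (odd_card_two_ne_zero hodd) m hab, neg_eq_iff_eq_neg,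
    chi_neg_one_pow_eq_neg_iff hodd, Nat.odd_add_one, Nat.not_odd_iff_even]

lemma disc_QM_eq_neg (h : ¬ (Even m ∧ Fintype.card F % 4 = 3)) : disc (QM F m a b) = -1 :=
  (disc_dichotomy (nd_QM (disc_ne_zero_of_aniso hab))).resolve_left
    (mt (disc_QM_eq_one_iff hodd hab).1 h)

end disc

lemma finrank_QP (F : Type*) [Field F] (m : ℕ) : finrank F (Fin m ⊕ Fin m → F) = 2 * m := by
  simp [two_mul]

lemma finrank_QM (F : Type*) [Field F] (m : ℕ) :
    finrank F ((Fin m ⊕ Fin m) ⊕ Fin 2 → F) = 2 * (m + 1) := by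
  simp; ring

lemma finrank_QO (F : Type*) [Field F] (m : ℕ) :
    finrank F (Unit ⊕ (Fin m ⊕ Fin m) → F) = 2 * m + 1 := by
  simp; ring

lemma odd_card_of_ne_two {F : Type*} [Field F] [Fintype F] {p f : ℕ} [Fact p.Prime]
    (hF : Fintype.card F = p ^ f) (hp : p ≠ 2) : Odd (Fintype.card F) :=
  hF ▸ ((Fact.out : p.Prime).odd_of_ne_two hp).pow

lemma two_eq_zero_of_card {F : Type*} [Field F] [Fintype F] {f : ℕ}
    (hF : Fintype.card F = 2 ^ f) : (2 : F) = 0 := by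
  have : CharP F 2 := charP_of_card_eq_prime_pow hF
  exact CharP.cast_eq_zero F 2

theorem exists_frob_QM {F : Type*} [Field F] [Fintype F] {p f : ℕ} [Fact p.Prime]
    (hF : Fintype.card F = p ^ f) (m : ℕ) {a b : F}
    (hab : ∀ z₁ z₂ : F, z₁ ^ 2 + a * z₁ * z₂ + b * z₂ ^ 2 = 0 → z₁ = 0 ∧ z₂ = 0) :
    ∃ (φ : SS (QM F m a b)) (w : _), (∀ τ, τ ∈ zpowers φ.σ) ∧ φ.c = 1 ∧ QM F m a b w ≠ 0 ∧
      φ ^ f = SS.ofO _ (refl (QM F m a b) w) := by
  have : CharP F p := charP_of_card_eq_prime_pow hF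
  have := fact_of_aniso hab
  let K := QuadraticAlgebra F (-b) a
  have : Finite K := Module.finite_of_finite F
  have : CharP K p := charP_of_injective_algebraMap (algebraMap F K).injective p
  let ψ : ((Fin m ⊕ Fin m → F) × K) ≃ₗ[F] ((Fin m ⊕ Fin m) ⊕ Fin 2 → F) :=
    ((LinearEquiv.refl F _).prodCongr (QuadraticAlgebra.linearEquivTuple (-b) a)).trans
      (LinearEquiv.sumArrowLequivProdArrow _ _ F F).symm
  have hψ : ∀ x z, ψ (x, z) = Sum.elim x ![z.re, z.im] := fun x z => by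
    ext (i | i) <;> rfl
  have hQ : ∀ x z, QM F m a b (ψ (x, z)) = ∑ i, x (.inl i) * x (.inr i) + z.norm := fun x z => by
    rw [hψ, QM_apply, QuadraticAlgebra.norm_def]; simp; ring
  let τ : ((Fin m ⊕ Fin m → F) × K) ≃+ ((Fin m ⊕ Fin m → F) × K) :=
    (AddEquiv.piCongrRight fun _ => (frobeniusEquiv F p).toAddEquiv).prodCongr
      (frobeniusEquiv K p).toAddEquiv
  have hτ : ∀ x z, τ (x, z) = (fun i => x i ^ p, z ^ p) := fun _ _ => rfl
  let φ : SS (QM F m a b) := ⟨frobeniusEquiv F p, 1, (ψ.symm.toAddEquiv.trans τ).trans ψ.toAddEquiv,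
    fun c v => by
      obtain ⟨⟨x, z⟩, rfl⟩ := ψ.surjective v
      change ψ (τ (ψ.symm _)) = c ^ p • ψ (τ (ψ.symm _))
      rw [← map_smul, ← map_smul, ψ.symm_apply_apply, ψ.symm_apply_apply, Prod.smul_mk, hτ, hτ,
        smul_pow]
      congr 2
      ext i; simp [mul_pow],
    fun v => by
      obtain ⟨⟨x, z⟩, rfl⟩ := ψ.surjective v
      change QM F m a b (ψ (τ (ψ.symm _))) = _
      rw [ψ.symm_apply_apply, hτ, hQ, hQ, map_add, map_sum, map_pow]
      simp [frobenius_def, mul_pow]⟩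
  have hφ : ∀ (n : ℕ) x z, (φ ^ n).γ (ψ (x, z)) = ψ (fun i => x i ^ p ^ n, z ^ p ^ n) := fun n => by
    induction n with
    | zero => simp
    | succ n ih =>
      intro x z
      rw [pow_succ', SS.mul_apply, ih]
      change ψ (τ (ψ.symm _)) = _
      simp [hτ, pow_succ, pow_mul]
  have hd := disc_ne_zero_of_aniso hab
  have := Fintype.ofFinite K
  have hK : Fintype.card K = (p ^ f) ^ 2 := by
    rw [Module.card_eq_pow_finrank (K := F), QuadraticAlgebra.finrank_eq_two, hF]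
  have hs : orderOf (starRingAut : K ≃+* K) = 2 := orderOf_eq_two' (by ext x : 1; simp) fun h => by
    have h1 : star (QuadraticAlgebra.omega : K) = QuadraticAlgebra.omega := DFunLike.congr_fun h _
    have h2 := congrArg QuadraticAlgebra.re h1
    have h3 := congrArg QuadraticAlgebra.im h1
    simp only [QuadraticAlgebra.re_star, QuadraticAlgebra.im_star, QuadraticAlgebra.omega_re,
      QuadraticAlgebra.omega_im] at h2 h3
    exact hd (by linear_combination a * h2 + 2 * b * h3)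
  have hw : QM F m a b (Sum.elim 0 ![-a, 2]) = -(a ^ 2 - 4 * b) := by simp [QM_apply]; ring
  refine ⟨φ, Sum.elim 0 ![-a, 2], exists_frob_gen hF, rfl, by rwa [hw, neg_ne_zero],
    SS.ext_of_apply (nd_QM hd) fun v => ?_⟩
  obtain ⟨⟨x, z⟩, rfl⟩ := ψ.surjective v
  rw [hφ, ← H6.eq_pow_of_orderOf_two hK hs, SS.ofO_apply, refl_apply, hw, hψ, hψ, polar_QM]
  ext (i | i)
  · simp [← hF, FiniteField.pow_card]
  · have hd' : -(a ^ 2 - 4 * b) ≠ 0 := neg_ne_zero.2 hd
    have e1 : (star z).re = z.re + a * z.im := rfl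
    have e2 : (star z).im = -z.im := rfl
    generalize hD : -(a ^ 2 - 4 * b) = D at hd'
    fin_cases i <;> simp [e1, e2] <;> field_simp <;> rw [← hD] <;> ring

end Cfsg.Agent.H7
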