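import Cfsg.Agent.H7.Frame
import Cfsg.Agent.H7.Grp

/-!
The quotient of the semisimilarity group by `Ω` and the scalars.
-/

set_option autoImplicit false

namespace Cfsg.Agent.H7

open QuadraticMap Module Subgroup

variable {F V : Type*} [Field F] [AddCommGroup V] [Module F V] (Q : QuadraticForm F V)

/-- semisimilarities modulo `Ω` and scalars -/
abbrev Ou : Type _ := SS Q ⧸ KS Q

/-- the projection to `Ou` -/
def piO : SS Q →* Ou Q := QuotientGroup.mk' (KS Q)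

/-- the field automorphism -/
def sigO : Ou Q →* (F ≃+* F) := QuotientGroup.lift (KS Q) (SS.sig Q) KS_le_GO

/-- the class of a reflection -/
abbrev rO (v : V) : Ou Q := piO Q (SS.ofO Q (refl Q v))

variable {Q}

@[simp] lemma sigO_piO (g : SS Q) : sigO Q (piO Q g) = g.σ := rfl

lemma piO_surjective : Function.Surjective (piO Q) := QuotientGroup.mk'_surjective _

lemma ker_piO : (piO Q).ker = KS Q := QuotientGroup.ker_mk' _

lemma piO_eq_iff {g h : SS Q} : piO Q g = piO Q h ↔ g⁻¹ * h ∈ KS Q := QuotientGroup.eq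

lemma piO_eq_one_iff {g : SS Q} : piO Q g = 1 ↔ g ∈ KS Q := QuotientGroup.eq_one_iff g

lemma mem_map_piO {H : Subgroup (SS Q)} (hH : KS Q ≤ H) {g : SS Q} :
    piO Q g ∈ H.map (piO Q) ↔ g ∈ H := by
  rw [← mem_comap, comap_map_eq_self (by rwa [ker_piO])]

lemma ker_sigO : (sigO Q).ker = (GO Q).map (piO Q) := by
  ext x
  obtain ⟨g, rfl⟩ := piO_surjective x
  rw [mem_map_piO KS_le_GO]; rfl

@[simp] lemma piO_sc (l : Fˣ) : piO Q (SS.sc Q l) = 1 := piO_eq_one_iff.2 (sc_mem_KS l)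

lemma rO_mul_self (v : V) : rO Q v * rO Q v = 1 := by
  rw [← map_mul, ← map_mul, refl_mul_self, map_one, map_one]

lemma conj_rO (g : SS Q) (v : V) : piO Q g * rO Q v * (piO Q g)⁻¹ = rO Q (g.γ v) := by
  rw [← map_inv, ← map_mul, ← map_mul, ← SS.ofO_actO, SS.actO_refl]

lemma rO_mem_GO (v : V) : rO Q v ∈ (GO Q).map (piO Q) := mem_map_of_mem _ (ofO_mem_GO _)

variable [Finite F]

lemma chi_ringEquiv (σ : F ≃+* F) (a : F) : chi (σ a) = chi a := by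
  by_cases ha : a = 0
  · simp [ha]
  have h1 : IsSquare (σ a) ↔ IsSquare a :=
    ⟨fun h => by simpa using h.map σ.symm, fun h => h.map σ⟩
  by_cases h : IsSquare a
  · rw [(chi_eq_one_iff ha).2 h, (chi_eq_one_iff (by simpa using ha)).2 (h1.2 h)]
  · rw [chi_eq_neg_one_iff.2 h, chi_eq_neg_one_iff.2 (mt h1.1 h)]

lemma chi_mul_eq_one_iff (a b : Fˣ) : chi ((a : F) * b) = 1 ↔ (chi (a : F) = 1 ↔ chi (b : F) = 1) := by
  rw [map_mul]
  rcases chi_dichotomy a.ne_zero with h | h <;> rcases chi_dichotomy b.ne_zero with h' | h' <;>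
    simp [h, h']

lemma chi_unit_of_ne {a : Fˣ} (h : chi (a : F) ≠ 1) : chi (a : F) = -1 :=
  (chi_dichotomy a.ne_zero).resolve_left h

lemma exists_chi_eq_neg_one (h2 : (2 : F) ≠ 0) : ∃ a : Fˣ, chi (a : F) = -1 := by
  obtain ⟨a, ha⟩ := FiniteField.exists_nonsquare (F := F) (fun h => h2 (by
    have := ringChar.charP F
    rw [h] at this
    exact CharP.cast_eq_zero F 2))
  exact ⟨Units.mk0 a (by rintro rfl; simp at ha), chi_eq_neg_one_iff.2 ha⟩

lemma chi_c_of_mem_KS {g : SS Q} (hg : g ∈ KS Q) : chi (g.c : F) = 1 := by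
  obtain ⟨h, -, l, rfl⟩ := mem_KS.1 hg
  simpa using chi_sq l.ne_zero

lemma chi_c_mul (g h : SS Q) : chi ((g * h).c : F) = chi (g.c : F) * chi (h.c : F) := by
  rw [SS.mul_c, map_mul, chi_ringEquiv]

lemma chi_c_inv (g : SS Q) : chi (g⁻¹.c : F) = chi (g.c : F) := by
  have := chi_c_mul g g⁻¹
  rw [mul_inv_cancel, SS.one_c, Units.val_one, map_one] at this
  rw [← one_mul (chi (g⁻¹.c : F)), ← chi_mul_self g.c.ne_zero, mul_assoc, ← this, mul_one]

lemma chi_c_eq_of_piO {g h : SS Q} (e : piO Q g = piO Q h) : chi (g.c : F) = chi (h.c : F) := by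
  have := chi_c_of_mem_KS (piO_eq_iff.1 e)
  rw [chi_c_mul, chi_c_inv] at this
  rw [← one_mul (chi (h.c : F)), ← chi_mul_self g.c.ne_zero, mul_assoc, this, mul_one]

variable [FiniteDimensional F V]

variable (Q) in
open Classical in
/-- the class of `SO ∖ Ω` -/
noncomputable def zO : Ou Q :=
  if h : ∃ s : OG Q, Even (rk s) ∧ theta s = -1 then piO Q (SS.ofO Q h.choose) else 1

section
variable (hQ : ND Q) (hE : NonExc Q)
include hQ hE

lemma piO_ofO_eq {h h' : OG Q} (h1 : Even (rk h) ↔ Even (rk h')) (h2 : theta h = theta h') :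
    piO Q (SS.ofO Q h) = piO Q (SS.ofO Q h') := by
  refine piO_eq_iff.2 ?_
  rw [← map_inv, ← map_mul]
  refine ofO_mem_KS ((mem_commutator_iff hQ hE _).2 ⟨?_, ?_⟩)
  · rwa [even_rk_mul hQ hE, rk_inv]
  · rw [theta_mul hQ hE, theta_inv hQ hE, h2, theta_mul_self hQ hE]

lemma piO_eq_one {h : OG Q} (h1 : Even (rk h)) (h2 : theta h = 1) : piO Q (SS.ofO Q h) = 1 :=
  piO_eq_one_iff.2 (ofO_mem_KS ((mem_commutator_iff hQ hE _).2 ⟨h1, h2⟩))

lemma piO_eq_z {h : OG Q} (h1 : Even (rk h)) (h2 : theta h = -1) : piO Q (SS.ofO Q h) = zO Q := by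
  have h3 : ∃ s : OG Q, Even (rk s) ∧ theta s = -1 := ⟨h, h1, h2⟩
  rw [zO, dif_pos h3]
  exact piO_ofO_eq hQ hE (iff_of_true h1 h3.choose_spec.1) (h2.trans h3.choose_spec.2.symm)

lemma zO_cases : zO Q = 1 ∨ ∃ s : OG Q, Even (rk s) ∧ theta s = -1 ∧ zO Q = piO Q (SS.ofO Q s) := by
  by_cases h : ∃ s : OG Q, Even (rk s) ∧ theta s = -1
  · obtain ⟨s, h1, h2⟩ := h
    exact Or.inr ⟨s, h1, h2, (piO_eq_z hQ hE h1 h2).symm⟩
  · exact Or.inl (dif_neg h)

lemma piO_of_even {h : OG Q} (h1 : Even (rk h)) :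
    piO Q (SS.ofO Q h) = 1 ∨ piO Q (SS.ofO Q h) = zO Q :=
  (theta_dichotomy hQ hE h).imp (piO_eq_one hQ hE h1) (piO_eq_z hQ hE h1)

lemma piO_eq_z_pow {h : OG Q} (h1 : Even (rk h)) {k : ℕ} (h2 : theta h = (-1) ^ k) :
    piO Q (SS.ofO Q h) = zO Q ^ k := by
  have h3 : zO Q * zO Q = 1 := by
    rcases zO_cases hQ hE with h | ⟨s, h1, -, h⟩
    · simp [h]
    · rw [h, ← map_mul, ← map_mul]
      exact piO_eq_one hQ hE (by simp [even_rk_mul hQ hE])
        ((theta_mul hQ hE s s).trans (theta_mul_self hQ hE s))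
  rcases Nat.even_or_odd' k with ⟨j, rfl | rfl⟩
  · rw [pow_mul, pow_two, h3, one_pow]
    exact piO_eq_one hQ hE h1 (by simpa using h2)
  · rw [pow_succ, pow_mul, pow_two, h3, one_pow, one_mul]
    exact piO_eq_z hQ hE h1 (by simpa [pow_succ] using h2)

lemma zO_mul_self : zO Q * zO Q = 1 := by
  rw [← pow_two, ← piO_eq_z_pow hQ hE (h := 1) (by simp [rk_one]) (by simp [theta_one]), map_one,
    map_one]

lemma zO_mem_DS : zO Q ∈ (DS Q).map (piO Q) := by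
  rcases zO_cases hQ hE with h | ⟨s, h1, -, h⟩
  · rw [h]; exact one_mem _
  · exact h ▸ mem_map_of_mem _ ((ofO_mem_DS_iff hQ hE).2 h1)

lemma zO_mem_GO : zO Q ∈ (GO Q).map (piO Q) := map_mono DS_le_GO (zO_mem_DS hQ hE)

lemma zO_comm (x : Ou Q) : Commute (zO Q) x := by
  obtain ⟨g, rfl⟩ := piO_surjective x
  rcases zO_cases hQ hE with h | ⟨s, h1, h2, h⟩
  · rw [h]; exact Commute.one_left _
  have h3 : Even (rk (SS.actO Q g s)) := by
    rw [← ofO_mem_DS_iff hQ hE, SS.ofO_actO]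
    exact instNormalDS.conj_mem _ ((ofO_mem_DS_iff hQ hE).2 h1) g
  have h4 : theta (SS.actO Q g s) = -1 := (theta_dichotomy hQ hE _).resolve_left fun h5 => by
    have h6 := (mem_commutator_congr (SS.actO Q g) s).1 ((mem_commutator_iff hQ hE _).2 ⟨h3, h5⟩)
    rw [theta_of_mem_commutator hQ hE h6] at h2
    omega
  have h5 := piO_eq_z hQ hE h3 h4
  rw [SS.ofO_actO, map_mul, map_mul, map_inv, ← h, mul_inv_eq_iff_eq_mul] at h5
  exact h5.symm

lemma rO_eq {u v : V} (hu : Q u ≠ 0) (hv : Q v ≠ 0) (h : chi (Q u) = chi (Q v)) :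
    rO Q u = rO Q v :=
  piO_ofO_eq hQ hE (by rw [rk_refl hQ hu, rk_refl hQ hv]) (by rwa [theta_refl hQ hu, theta_refl hQ hv])

lemma rO_eq_mul_z {u v : V} (hu : Q u ≠ 0) (hv : Q v ≠ 0) (h : chi (Q u) = -chi (Q v)) :
    rO Q u = rO Q v * zO Q := by
  rw [← piO_eq_z hQ hE (h := refl Q v * refl Q u)
    (by rw [even_rk_mul hQ hE, rk_refl hQ hu, rk_refl hQ hv])
    (by rw [theta_mul hQ hE, theta_refl hQ hu, theta_refl hQ hv, h, mul_neg, chi_mul_self hv]),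
    ← map_mul, ← map_mul, ← mul_assoc, refl_mul_self, one_mul]

lemma conj_rO_of_sq {g : SS Q} (hg : chi (g.c : F) = 1) {v : V} (hv : Q v ≠ 0) :
    piO Q g * rO Q v * (piO Q g)⁻¹ = rO Q v := by
  rw [conj_rO]
  exact rO_eq hQ hE (mt g.Q_eq_zero_iff.1 hv) hv (by rw [g.map_Q, map_mul, hg, one_mul, chi_ringEquiv])

lemma conj_rO_of_nsq {g : SS Q} (hg : chi (g.c : F) = -1) {v : V} (hv : Q v ≠ 0) :
    piO Q g * rO Q v * (piO Q g)⁻¹ = rO Q v * zO Q := by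
  rw [conj_rO]
  exact rO_eq_mul_z hQ hE (mt g.Q_eq_zero_iff.1 hv) hv
    (by rw [g.map_Q, map_mul, hg, chi_ringEquiv, neg_one_mul])

lemma map_SOG_eq (h2 : (2 : F) ≠ 0) : ((SOG Q).map (SS.ofO Q)).map (piO Q) = zpowers (zO Q) := by
  apply le_antisymm
  · rintro _ ⟨_, ⟨h, hh, rfl⟩, rfl⟩
    rcases piO_of_even hQ hE ((det_eq_one_iff h2 hQ h).1 (mem_SOG.1 hh)) with h | h <;> simp [h]
  · rw [zpowers_le]
    rcases zO_cases hQ hE with h | ⟨s, h1, -, h⟩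
    · rw [h]; exact one_mem _
    · exact ⟨_, ⟨s, mem_SOG.2 ((det_eq_one_iff h2 hQ s).2 h1), rfl⟩, h.symm⟩

lemma exists_theta_neg (h2 : (2 : F) ≠ 0) (hn : 2 ≤ finrank F V) :
    ∃ s : OG Q, Even (rk s) ∧ theta s = -1 := by
  obtain ⟨a, ha⟩ := exists_chi_eq_neg_one h2
  obtain ⟨u, hu⟩ := exists_Q_eq hQ hn 1
  obtain ⟨v, hv⟩ := exists_Q_eq hQ hn a
  have hu' : Q u ≠ 0 := by simp [hu]
  have hv' : Q v ≠ 0 := by simp [hv]
  exact ⟨refl Q u * refl Q v, by rw [even_rk_mul hQ hE, rk_refl hQ hu', rk_refl hQ hv'],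
    by rw [theta_mul hQ hE, theta_refl hQ hu', theta_refl hQ hv', hu, hv, ha]; simp⟩

lemma zO_of_two (h2 : (2 : F) = 0) : zO Q = 1 := by
  rcases zO_cases hQ hE with h | ⟨s, -, h, -⟩
  · exact h
  · rw [theta_of_two hQ hE h2] at h; omega

variable (hev : Even (finrank F V))
include hev

lemma piO_mem_DS_iff {g : SS Q} : piO Q g ∈ (DS Q).map (piO Q) ↔ g ∈ DS Q :=
  mem_map_piO (KS_le_DS hQ hE hev)

lemma rO_notMem_DS {v : V} (hv : Q v ≠ 0) : rO Q v ∉ (DS Q).map (piO Q) := by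
  rw [piO_mem_DS_iff hQ hE hev]; exact refl_notMem_DS hQ hE hv

lemma exists_of_DS_sq {g : SS Q} (hg : g ∈ DS Q) (hc : chi (g.c : F) = 1) :
    ∃ (h : OG Q) (l : Fˣ), Even (rk h) ∧ g = SS.ofO Q h * SS.sc Q l := by
  obtain ⟨h, l, rfl⟩ := exists_ofO_mul_sc' (DS_le_GO hg) ((chi_eq_one_iff g.c.ne_zero).1 hc)
  rw [mul_mem_cancel_right (sc_mem_DS hev l), ofO_mem_DS_iff hQ hE] at hg
  exact ⟨h, l, hg, rfl⟩

lemma piO_of_DS_sq {g : SS Q} (hg : g ∈ DS Q) (hc : chi (g.c : F) = 1) :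
    piO Q g = 1 ∨ piO Q g = zO Q := by
  obtain ⟨h, l, h1, rfl⟩ := exists_of_DS_sq hQ hE hev hg hc
  rw [map_mul, piO_sc, mul_one]
  exact piO_of_even hQ hE h1

lemma DS_map_le {S : Subgroup (Ou Q)} (hz : zO Q ∈ S) {δ : SS Q} (hδ : δ ∈ DS Q)
    (hc : chi (δ.c : F) = -1) (h : piO Q δ ∈ S) : (DS Q).map (piO Q) ≤ S := by
  have key : ∀ g ∈ DS Q, chi (g.c : F) = 1 → piO Q g ∈ S := fun g hg h1 => by
    rcases piO_of_DS_sq hQ hE hev hg h1 with h | h <;> simp [h, hz]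
  rintro _ ⟨g, hg, rfl⟩
  by_cases h1 : chi (g.c : F) = 1
  · exact key g hg h1
  · have := key _ (mul_mem hg hδ) (by rw [chi_c_mul, hc, chi_unit_of_ne h1]; simp)
    rwa [map_mul, mul_mem_cancel_right h] at this

lemma GO_map_le {S : Subgroup (Ou Q)} (hS : (DS Q).map (piO Q) ≤ S) {v : V} (hv : Q v ≠ 0)
    (h : rO Q v ∈ S) : (GO Q).map (piO Q) ≤ S := by
  rintro _ ⟨g, hg, rfl⟩
  by_cases h1 : g ∈ DS Q
  · exact hS (mem_map_of_mem _ h1)
  · have := hS (mem_map_of_mem _ ((mul_refl_mem_DS_iff hQ hE hev hg hv).2 h1))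
    rwa [map_mul, mul_mem_cancel_right h] at this

lemma conj_eq_or [Nontrivial V] (y : Ou Q) {x : Ou Q} (hx : x ∈ (GO Q).map (piO Q)) :
    y * x * y⁻¹ = x ∨ y * x * y⁻¹ = x * zO Q := by
  obtain ⟨g, rfl⟩ := piO_surjective y
  obtain ⟨x, hx, rfl⟩ := hx
  have h1 : x⁻¹ * (g * x * g⁻¹) ∈ DS Q := by
    rw [mul_mem_DS_iff hQ hE hev (inv_mem hx) ((instNormalGO Q).conj_mem x hx g), inv_mem_iff,
      instNormalDS.mem_comm_iff, inv_mul_cancel_left]
  have h2 := piO_of_DS_sq hQ hE hev h1 (by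
    rw [chi_c_mul, chi_c_mul, chi_c_mul, chi_c_inv, chi_c_inv, mul_right_comm,
      chi_mul_self g.c.ne_zero, one_mul, chi_mul_self x.c.ne_zero])
  simp only [map_mul, map_inv, inv_mul_eq_iff_eq_mul, mul_one] at h2
  exact h2

lemma sq_comm_GO [Nontrivial V] (y : Ou Q) {x : Ou Q} (hx : x ∈ (GO Q).map (piO Q)) :
    Commute x (y ^ 2) := by
  have : y ^ 2 * x * (y ^ 2)⁻¹ = x := by
    have e : y ^ 2 * x * (y ^ 2)⁻¹ = y * (y * x * y⁻¹) * y⁻¹ := by rw [pow_two]; group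
    rw [e]
    rcases conj_eq_or hQ hE hev y hx with h | h
    · rw [h, h]
    · rw [h, ← mul_assoc, mul_assoc, (zO_comm hQ hE _).eq, ← mul_assoc, h, mul_assoc,
        zO_mul_self hQ hE, mul_one]
  exact (mul_inv_eq_iff_eq_mul.1 this).symm

lemma zO_eq_one_iff (h2 : (2 : F) ≠ 0) (hn : 2 ≤ finrank F V) : zO Q = 1 ↔ disc Q = -1 := by
  obtain ⟨s, h1, h3⟩ := exists_theta_neg hQ hE h2 hn
  rw [← piO_eq_z hQ hE h1 h3, piO_eq_one_iff, ofO_mem_KS_iff, mem_commutator_iff hQ hE,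
    mem_commutator_iff hQ hE, even_rk_mul hQ hE, theta_mul hQ hE, h3, rk_negOne h2,
    theta_negOne h2 hev]
  simp [h1, hev, neg_eq_iff_eq_neg]

lemma piO_mul_self_eq {g h : SS Q} (hg : g ∈ DS Q) (hh : h ∈ DS Q)
    (hc : chi (g.c : F) = chi (h.c : F)) : piO Q g * piO Q g = piO Q h * piO Q h := by
  have := piO_of_DS_sq hQ hE hev (mul_mem (inv_mem hh) hg)
    (by rw [chi_c_mul, chi_c_inv, hc, chi_mul_self h.c.ne_zero])
  simp only [map_mul, map_inv, inv_mul_eq_iff_eq_mul, mul_one] at this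
  rcases this with e | e
  · rw [e]
  · rw [e, mul_assoc, ← mul_assoc (zO Q), (zO_comm hQ hE _).eq, mul_assoc, zO_mul_self hQ hE, mul_one]

end

theorem piO_delta_sq (h2 : (2 : F) ≠ 0) (hQ : ND Q) {k : ℕ} (hk : finrank F V = 2 * k)
    (hk0 : 1 ≤ k) {δ : SS Q} (hδ : δ ∈ DS Q) (hc : chi (δ.c : F) = -1) :
    piO Q δ * piO Q δ = zO Q ^ k := by
  have hE := nonExc_of_two hQ h2
  have hev : Even (finrank F V) := ⟨k, by omega⟩
  obtain ⟨m, rfl⟩ : ∃ m, k = m + 1 := ⟨k - 1, by omega⟩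
  obtain ⟨e, f, u, v, h⟩ := exists_frame (m := m) h2 hQ hk
  have hu := h.Qu
  have hv := h.Qv
  obtain ⟨s, t, hst⟩ := exists_sq_comb h2 hu hv (δ.c * Q u)
  obtain ⟨d, h1, h3, h4, h5, h6, h7⟩ := h.exists_sim δ.c hst
  have hc0 := δ.c.ne_zero
  have ht : t ≠ 0 := by
    rintro rfl
    have : (δ.c : F) = s * s := by
      apply mul_right_cancel₀ hu; rw [← hst]; ring
    exact chi_eq_neg_one_iff.1 hc ⟨s, this⟩
  obtain ⟨g, hg⟩ := exists_ofO_mul_sc (mul_mem (DS_le_GO h1) (DS_le_GO h1)) (l := δ.c)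
    (by rw [SS.mul_c_of_GO (DS_le_GO h1), h3, pow_two])
  have hl := mem_GO.1 (DS_le_GO h1)
  have hg' : ∀ x, g.1 x = (δ.c : F)⁻¹ • d.γ (d.γ x) := fun x => by
    rw [← SS.mul_apply, hg]; simp [smul_smul]
  have he : Even (rk g) := by
    rw [← ofO_mem_DS_iff hQ hE, ← mul_mem_cancel_right (sc_mem_DS hev δ.c), ← hg]
    exact mul_mem h1 h1
  have hc' : (δ.c : F) = (s ^ 2 * Q u + t ^ 2 * Q v) / Q u := by rw [hst]; field_simp
  have hs : 1 - (s ^ 2 - t ^ 2 * Q v / Q u) / δ.c = 2 * t ^ 2 * Q v / (Q u * δ.c) := by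
    field_simp; linear_combination -hst
  have h8 := h.theta_rot hQ (g := g) (μ := δ.c) (s := (s ^ 2 - t ^ 2 * Q v / Q u) / δ.c)
    (t := 2 * s * t / δ.c) (by field_simp; linear_combination (s ^ 2 * Q u + t ^ 2 * Q v + δ.c * Q u) * hst)
    (fun h9 => by
      rw [h9, sub_self, eq_comm] at hs
      simp [h2, ht, hu, hv] at hs)
    (fun i => by simp [hg', h4, d.map_smul, hl, smul_smul])
    (fun i => by simp [hg', h5])
    (by
      simp only [hg', h6, h7, map_add, d.map_smul, hl, RingAut.one_apply]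
      match_scalars <;> field_simp <;> ring)
    (by
      simp only [hg', h6, h7, map_add, d.map_smul, hl, RingAut.one_apply]
      match_scalars <;> field_simp <;> ring)
  rw [piO_mul_self_eq hQ hE hev hδ h1 (by rw [h3]), ← map_mul, hg, map_mul, piO_sc, mul_one]
  refine piO_eq_z_pow hQ hE he ?_
  rw [h8, hs, show 2 * (2 * t ^ 2 * Q v / (Q u * δ.c)) * (Q u * Q v) =
    (2 * t * Q v / δ.c) ^ 2 * δ.c by field_simp, map_mul, chi_sq (by simp [h2, ht, hv]), hc, pow_succ,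
    one_mul]

end Cfsg.Agent.H7
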