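import Cfsg.Agent.H7.OutS
import Cfsg.Agent.H6.Lang

/-!
Isomorphism types of the outer diagonal, conformal and full outer groups.
-/

set_option autoImplicit false

namespace Cfsg.Agent.H7

open QuadraticMap Module Subgroup

variable {F V : Type*} [Field F] [AddCommGroup V] [Module F V] {Q : QuadraticForm F V}
  [Finite F] [FiniteDimensional F V]

omit [Finite F] in
lemma exists_Q_ne_zero (hQ : ND Q) (h : 1 ≤ finrank F V) : ∃ v, Q v ≠ 0 := by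
  have := Module.nontrivial_of_finrank_pos (R := F) (M := V) h
  obtain ⟨v, -, hv⟩ := exists_nonsing (Q := Q) (W := ⊤)
    (fun x _ hx => hQ.eq_zero fun y => hx y trivial) top_ne_bot
  exact ⟨v, hv⟩

lemma piO_ne_one_of_nsq {δ : SS Q} (hc : chi (δ.c : F) = -1) : piO Q δ ≠ 1 := fun h => by
  rw [chi_c_of_mem_KS (piO_eq_one_iff.1 h)] at hc; omega

section even
variable (h2 : (2 : F) ≠ 0) (hQ : ND Q) {k : ℕ} (hk : finrank F V = 2 * k) (hk0 : 1 ≤ k)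
include h2 hQ hk hk0

lemma exists_delta : ∃ δ ∈ DS Q, chi (δ.c : F) = -1 := by
  have := Module.nontrivial_of_finrank_pos (R := F) (M := V) (by omega)
  obtain ⟨a, ha⟩ := exists_chi_eq_neg_one h2
  obtain ⟨δ, h1, rfl⟩ := exists_DS_c hQ (nonExc_of_two hQ h2) ⟨k, by omega⟩ a
  exact ⟨δ, h1, ha⟩

omit hk0 in
lemma DS_map_eq {δ : SS Q} (hδ : δ ∈ DS Q) (hc : chi (δ.c : F) = -1) :
    (DS Q).map (piO Q) = zpowers (zO Q) ⊔ zpowers (piO Q δ) :=
  le_antisymm (DS_map_le hQ (nonExc_of_two hQ h2) ⟨k, by omega⟩ (mem_sup_left (mem_zpowers _)) hδ hc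
    (mem_sup_right (mem_zpowers _))) (sup_le (zpowers_le.2 (zO_mem_DS hQ (nonExc_of_two hQ h2)))
      (zpowers_le.2 (mem_map_of_mem _ hδ)))

omit hk0 in
lemma GO_map_eq {δ : SS Q} (hδ : δ ∈ DS Q) (hc : chi (δ.c : F) = -1) {v : V} (hv : Q v ≠ 0) :
    (GO Q).map (piO Q) = zpowers (piO Q δ) ⊔ zpowers (rO Q v) := by
  have hE := nonExc_of_two hQ h2
  have hev : Even (finrank F V) := ⟨k, by omega⟩
  have h1 : piO Q δ ∈ zpowers (piO Q δ) ⊔ zpowers (rO Q v) := mem_sup_left (mem_zpowers _)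
  have h3 : rO Q v ∈ zpowers (piO Q δ) ⊔ zpowers (rO Q v) := mem_sup_right (mem_zpowers _)
  refine le_antisymm (GO_map_le hQ hE hev (DS_map_le hQ hE hev ?_ hδ hc h1) hv h3)
    (sup_le (zpowers_le.2 (mem_map_of_mem _ (DS_le_GO hδ))) (zpowers_le.2 (rO_mem_GO v)))
  rw [← mul_mem_cancel_left h3, ← conj_rO_of_nsq hQ hE hc hv]
  exact mul_mem (mul_mem h1 h3) (inv_mem h1)

lemma zO_ne_one (hd : disc Q = 1) : zO Q ≠ 1 := by
  rw [Ne, zO_eq_one_iff hQ (nonExc_of_two hQ h2) ⟨k, by omega⟩ h2 (by omega), hd]; omega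

lemma zO_eq_one (hd : disc Q = -1) : zO Q = 1 :=
  (zO_eq_one_iff hQ (nonExc_of_two hQ h2) ⟨k, by omega⟩ h2 (by omega)).2 hd

theorem equiv_GO_d8 (hd : disc Q = 1) : Nonempty ((GO Q).map (piO Q) ≃* DihedralGroup 4) := by
  have hE := nonExc_of_two hQ h2
  obtain ⟨δ, hδ, hc⟩ := exists_delta h2 hQ hk hk0
  obtain ⟨v, hv⟩ := exists_Q_ne_zero hQ (by omega)
  rw [GO_map_eq h2 hQ hk hδ hc hv]
  refine nonempty_equiv_d8 (rO_mul_self v) (zO_mul_self hQ hE) (zO_ne_one h2 hQ hk hk0 hd)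
    (zO_comm hQ hE _) (zO_comm hQ hE _) (conj_rO_of_nsq hQ hE hc hv) ?_
  rw [piO_delta_sq h2 hQ hk hk0 hδ hc]
  exact mem_zpowers_of_mul_self' (zO_mul_self hQ hE) (pow_mem (mem_zpowers _) k)

theorem equiv_GO_klein (hd : disc Q = -1) :
    Nonempty ((GO Q).map (piO Q) ≃* Multiplicative (ZMod 2 × ZMod 2)) := by
  have hE := nonExc_of_two hQ h2
  have hev : Even (finrank F V) := ⟨k, by omega⟩
  obtain ⟨δ, hδ, hc⟩ := exists_delta h2 hQ hk hk0
  obtain ⟨v, hv⟩ := exists_Q_ne_zero hQ (by omega)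
  have hz := zO_eq_one h2 hQ hk hk0 hd
  have h1 := piO_delta_sq h2 hQ hk hk0 hδ hc
  have h3 := conj_rO_of_nsq hQ hE hc hv
  rw [hz, one_pow] at h1
  rw [hz, mul_one, mul_inv_eq_iff_eq_mul] at h3
  have h4 := rO_notMem_DS hQ hE hev hv
  rw [GO_map_eq h2 hQ hk hδ hc hv]
  exact nonempty_two_gen_equiv (orderOf_eq_two' h1 (piO_ne_one_of_nsq hc))
    (orderOf_eq_two' (rO_mul_self v) fun h => h4 (h ▸ one_mem _)) h3
    (disjoint_zpowers_of_mul_self (rO_mul_self v)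
      fun h => h4 (zpowers_le.2 (mem_map_of_mem _ hδ) h)).symm

theorem equiv_DS_two (hd : disc Q = -1) :
    Nonempty ((DS Q).map (piO Q) ≃* Multiplicative (ZMod 2)) := by
  obtain ⟨δ, hδ, hc⟩ := exists_delta h2 hQ hk hk0
  have hz := zO_eq_one h2 hQ hk hk0 hd
  have h1 := piO_delta_sq h2 hQ hk hk0 hδ hc
  rw [hz, one_pow] at h1
  rw [DS_map_eq h2 hQ hk hδ hc, hz, zpowers_one_eq_bot, bot_sup_eq]
  exact nonempty_zpowers_equiv (orderOf_eq_two' h1 (piO_ne_one_of_nsq hc))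

theorem equiv_DS_four (hd : disc Q = 1) (ho : Odd k) :
    Nonempty ((DS Q).map (piO Q) ≃* Multiplicative (ZMod 4)) := by
  have hE := nonExc_of_two hQ h2
  obtain ⟨δ, hδ, hc⟩ := exists_delta h2 hQ hk hk0
  have h1 := piO_delta_sq h2 hQ hk hk0 hδ hc
  obtain ⟨j, rfl⟩ := ho
  rw [pow_succ, pow_mul, pow_two, zO_mul_self hQ hE, one_pow, one_mul] at h1
  rw [DS_map_eq h2 hQ hk hδ hc, sup_eq_right.2
    (zpowers_le.2 (h1 ▸ mul_mem (mem_zpowers _) (mem_zpowers _)))]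
  exact nonempty_zpowers_equiv (orderOf_eq_four' h1 (zO_mul_self hQ hE) (zO_ne_one h2 hQ hk hk0 hd))

omit h2 hk hk0 in
lemma piO_ne_z_of_nsq (hE : NonExc Q) {δ : SS Q} (hc : chi (δ.c : F) = -1) : piO Q δ ≠ zO Q := by
  intro h
  rcases zO_cases hQ hE with h1 | ⟨s, -, -, h1⟩
  · exact piO_ne_one_of_nsq hc (h.trans h1)
  · have := chi_c_eq_of_piO (h.trans h1)
    rw [hc, SS.ofO_c, Units.val_one, map_one] at this
    omega

theorem equiv_DS_klein (hd : disc Q = 1) (ho : Even k) :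
    Nonempty ((DS Q).map (piO Q) ≃* Multiplicative (ZMod 2 × ZMod 2)) := by
  have hE := nonExc_of_two hQ h2
  obtain ⟨δ, hδ, hc⟩ := exists_delta h2 hQ hk hk0
  have h1 := piO_delta_sq h2 hQ hk hk0 hδ hc
  obtain ⟨j, rfl⟩ := ho
  rw [← two_mul, pow_mul, pow_two, zO_mul_self hQ hE, one_pow] at h1
  rw [DS_map_eq h2 hQ hk hδ hc]
  refine nonempty_two_gen_equiv (orderOf_eq_two' (zO_mul_self hQ hE) (zO_ne_one h2 hQ hk hk0 hd))
    (orderOf_eq_two' h1 (piO_ne_one_of_nsq hc)) (zO_comm hQ hE _)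
    (disjoint_zpowers_of_mul_self h1 fun h => ?_).symm
  rcases mem_zpowers_of_mul_self' (zO_mul_self hQ hE) h with h | h
  · exact piO_ne_one_of_nsq hc h
  · exact piO_ne_z_of_nsq hQ hE hc h

theorem card_DS_map : Nat.card ((DS Q).map (piO Q)) = if disc Q = 1 then 4 else 2 := by
  split_ifs with hd
  · rcases Nat.even_or_odd k with h | h
    · obtain ⟨e⟩ := equiv_DS_klein h2 hQ hk hk0 hd h
      rw [Nat.card_congr e.toEquiv]; simp
    · obtain ⟨e⟩ := equiv_DS_four h2 hQ hk hk0 hd h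
      rw [Nat.card_congr e.toEquiv]; simp
  · obtain ⟨e⟩ := equiv_DS_two h2 hQ hk hk0 ((disc_dichotomy hQ).resolve_left hd)
    rw [Nat.card_congr e.toEquiv]; simp

theorem card_SOG_map :
    Nat.card (((SOG Q).map (SS.ofO Q)).map (piO Q)) = if disc Q = 1 then 2 else 1 := by
  have hE := nonExc_of_two hQ h2
  rw [map_SOG_eq hQ hE h2, Nat.card_zpowers]
  split_ifs with hd
  · exact orderOf_eq_two' (zO_mul_self hQ hE) (zO_ne_one h2 hQ hk hk0 hd)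
  · rw [zO_eq_one h2 hQ hk hk0 ((disc_dichotomy hQ).resolve_left hd), orderOf_one]

theorem exists_hom_GO_SO : ∃ ψ : GO Q →* Multiplicative (ZMod 2 × ZMod 2),
    Function.Surjective ψ ∧ ∀ g : GO Q, ψ g = 1 ↔ g.1 ∈ (SOG Q).map (SS.ofO Q) ⊔ ZS Q := by
  have hE := nonExc_of_two hQ h2
  have hev : Even (finrank F V) := ⟨k, by omega⟩
  have := Module.nontrivial_of_finrank_pos (R := F) (M := V) (by omega)
  obtain ⟨δ, hδ, hc⟩ := exists_delta h2 hQ hk hk0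
  obtain ⟨v, hv⟩ := exists_Q_ne_zero hQ (by omega)
  refine ⟨signHom₂ (fun g : GO Q => g.1 ∈ DS Q) (fun g : GO Q => chi (g.1.c : F) = 1)
    (fun g h => mul_mem_DS_iff hQ hE hev g.2 h.2)
    (fun g h => by rw [← chi_mul_eq_one_iff, coe_mul, chi_c_mul, map_mul]),
    signHom₂_surjective (x := ⟨_, ofO_mem_GO (refl Q v)⟩) (y := ⟨δ, DS_le_GO hδ⟩)
      (refl_notMem_DS hQ hE hv) (by simp) hδ (by simp [hc]), fun g => ?_⟩
  rw [signHom₂_eq_one_iff, ← SetLike.mem_coe (p := _ ⊔ _), Subgroup.mul_normal]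
  constructor
  · rintro ⟨h1, h3⟩
    obtain ⟨h, l, h4, h5⟩ := exists_of_DS_sq hQ hE hev h1 h3
    exact ⟨_, ⟨h, mem_SOG.2 ((det_eq_one_iff h2 hQ h).2 h4), rfl⟩, _, ⟨l, rfl⟩, h5.symm⟩
  · rintro ⟨_, ⟨h, h4, rfl⟩, _, ⟨l, rfl⟩, h5⟩
    rw [← h5]
    exact ⟨mul_mem ((ofO_mem_DS_iff hQ hE).2 ((det_eq_one_iff h2 hQ h).1 (mem_SOG.1 h4)))
      (sc_mem_DS hev l), by simpa using chi_sq l.ne_zero⟩

end even

lemma GO_map_of_two (h2 : (2 : F) = 0) (hQ : ND Q) (hE : NonExc Q) (hev : Even (finrank F V))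
    {v : V} (hv : Q v ≠ 0) : (GO Q).map (piO Q) = zpowers (rO Q v) := by
  refine le_antisymm (GO_map_le hQ hE hev ?_ hv (mem_zpowers _)) (zpowers_le.2 (rO_mem_GO v))
  rintro _ ⟨g, hg, rfl⟩
  rw [DS_of_two h2] at hg
  rw [piO_eq_one_iff.2 hg]; exact one_mem _

lemma orderOf_rO (hQ : ND Q) (hE : NonExc Q) (hev : Even (finrank F V))
    {v : V} (hv : Q v ≠ 0) : orderOf (rO Q v) = 2 :=
  orderOf_eq_two' (rO_mul_self v) fun h => rO_notMem_DS hQ hE hev hv (h ▸ one_mem _)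

section odd
variable (h2 : (2 : F) ≠ 0) (hQ : ND Q) (ho : Odd (finrank F V))
include hQ ho

omit [Finite F] in
lemma isSquare_c_of_odd {g : SS Q} (hg : g ∈ GO Q) : IsSquare (g.c : F) := by
  obtain ⟨k, hk⟩ := ho
  have := SS.det_sq hQ hg
  refine ⟨g.det / g.c ^ k, ?_⟩
  have h0 := g.c.ne_zero
  field_simp
  rw [this, hk]; ring

include h2

lemma exists_of_GO_odd {g : SS Q} (hg : g ∈ GO Q) :
    ∃ (h : OG Q) (l : Fˣ), Even (rk h) ∧ g = SS.ofO Q h * SS.sc Q l := by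
  obtain ⟨h, l, rfl⟩ := exists_ofO_mul_sc' hg (isSquare_c_of_odd hQ ho hg)
  by_cases h1 : Even (rk h)
  · exact ⟨h, l, h1, rfl⟩
  · refine ⟨h * negOne Q, -l, ?_, ?_⟩
    · rw [even_rk_mul hQ (nonExc_of_two hQ h2), rk_negOne h2]
      exact iff_of_false h1 (Nat.not_even_iff_odd.2 ho)
    · rw [map_mul, ← sc_neg_one, mul_assoc, ← map_mul]; simp

lemma GO_map_of_odd : (GO Q).map (piO Q) = zpowers (zO Q) := by
  have hE := nonExc_of_two hQ h2
  refine le_antisymm ?_ (zpowers_le.2 (zO_mem_GO hQ hE))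
  rintro _ ⟨g, hg, rfl⟩
  obtain ⟨h, l, h1, rfl⟩ := exists_of_GO_odd h2 hQ ho hg
  rw [map_mul, piO_sc, mul_one]
  rcases piO_of_even hQ hE h1 with h | h <;> simp [h]

lemma orderOf_zO_of_odd (hn : 2 ≤ finrank F V) : orderOf (zO Q) = 2 := by
  have hE := nonExc_of_two hQ h2
  refine orderOf_eq_two' (zO_mul_self hQ hE) ?_
  obtain ⟨s, h1, h3⟩ := exists_theta_neg hQ hE h2 hn
  rw [← piO_eq_z hQ hE h1 h3, Ne, piO_eq_one_iff, ofO_mem_KS_iff, mem_commutator_iff hQ hE,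
    mem_commutator_iff hQ hE, even_rk_mul hQ hE, h3, rk_negOne h2]
  simp [h1, Nat.not_even_iff_odd.2 ho]

theorem out_odd (hn : 2 ≤ finrank F V) {φ : SS Q} {f : ℕ} (h1 : ∀ τ, τ ∈ zpowers φ.σ)
    (hf : Nat.card (F ≃+* F) = f) (h3 : φ ^ f = 1) :
    Nonempty (Ou Q ≃* Multiplicative (ZMod 2 × ZMod f)) := by
  have hE := nonExc_of_two hQ h2
  obtain ⟨e⟩ := nonempty_equiv_ker_prod (sigO Q) (φ := piO Q φ) h1 hf
    (by rw [← map_pow, h3, map_one]) (by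
      rw [ker_sigO, GO_map_of_odd h2 hQ ho]
      rintro _ ⟨i, rfl⟩
      exact (zO_comm hQ hE _).zpow_left i)
  rw [ker_sigO, GO_map_of_odd h2 hQ ho] at e
  obtain ⟨e1⟩ := nonempty_zpowers_equiv (orderOf_zO_of_odd h2 hQ ho hn)
  exact ⟨e.trans ((e1.prodCongr (MulEquiv.refl _)).trans (MulEquiv.prodMultiplicative _ _).symm)⟩

end odd

theorem exists_split (hQ : ND Q) (hE : NonExc Q) {k : ℕ} (hk : finrank F V = 2 * k) (hk0 : 1 ≤ k)
    {φ : SS Q} {f : ℕ} (hc : chi (φ.c : F) = 1) (h3 : piO Q φ ^ f = 1) :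
    ∃ ψ : Ou Q, sigO Q ψ = φ.σ ∧ ψ ^ f = 1 ∧ ∀ x ∈ (GO Q).map (piO Q), Commute x ψ := by
  have hev : Even (finrank F V) := ⟨k, by omega⟩
  have := Module.nontrivial_of_finrank_pos (R := F) (M := V) (by omega)
  obtain ⟨v, hv⟩ := exists_Q_ne_zero hQ (by omega)
  have h4 : Commute (rO Q v) (piO Q φ) :=
    (mul_inv_eq_iff_eq_mul.1 (conj_rO_of_sq hQ hE hc hv)).symm
  have key : ∀ {a b ψ : Ou Q}, Commute a ψ → Commute b ψ →
      ∀ x ∈ zpowers a ⊔ zpowers b, Commute x ψ := fun {a b ψ} ha hb x hx =>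
    (show zpowers a ⊔ zpowers b ≤ centralizer {ψ} from sup_le
      (zpowers_le.2 (mem_centralizer_singleton_iff.2 ha))
      (zpowers_le.2 (mem_centralizer_singleton_iff.2 hb))) hx ψ rfl |>.symm
  by_cases h2 : (2 : F) = 0
  · refine ⟨piO Q φ, rfl, h3, ?_⟩
    rw [GO_map_of_two h2 hQ hE hev hv]
    rintro _ ⟨i, rfl⟩
    exact h4.zpow_left i
  obtain ⟨δ, hδ, hd⟩ := exists_delta h2 hQ hk hk0
  rw [GO_map_eq h2 hQ hk hδ hd hv]
  by_cases h5 : Commute (piO Q δ) (piO Q φ)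
  · exact ⟨piO Q φ, rfl, h3, key h5 h4⟩
  have h6 := (conj_eq_or hQ hE hev (piO Q φ) (mem_map_of_mem _ (DS_le_GO hδ))).resolve_left
    fun h => h5 (mul_inv_eq_iff_eq_mul.1 h).symm
  have h7 := conj_rO_of_nsq hQ hE hd hv
  rw [mul_inv_eq_iff_eq_mul] at h6 h7
  have hz := zO_comm hQ hE
  refine ⟨piO Q φ * rO Q v, by simp, ?_, key ?_ (h4.mul_right (Commute.refl _))⟩
  · rcases Nat.even_or_odd' f with ⟨j, rfl | rfl⟩
    · rw [h4.symm.mul_pow, h3, pow_mul, pow_two, rO_mul_self, one_pow, one_mul]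
    · refine absurd ?_ h5
      rw [pow_succ, mul_eq_one_iff_eq_inv, pow_mul] at h3
      rw [← Commute.inv_right_iff, ← h3]
      exact (sq_comm_GO hQ hE hev _ (mem_map_of_mem _ (DS_le_GO hδ))).pow_right j
  · have h8 : rO Q v * piO Q δ = zO Q * (piO Q δ * rO Q v) := by
      rw [h7, ← (hz (rO Q v)).eq, ← mul_assoc, ← mul_assoc, zO_mul_self hQ hE, one_mul]
    change _ = _
    rw [mul_assoc, h8, ← mul_assoc (piO Q φ), ← (hz (piO Q φ)).eq, mul_assoc, ← mul_assoc (piO Q φ),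
      h6, ← (hz (piO Q δ)).eq]
    simp only [← mul_assoc, zO_mul_self hQ hE, one_mul]

theorem out_split (hQ : ND Q) (hE : NonExc Q) {k : ℕ} (hk : finrank F V = 2 * k) (hk0 : 1 ≤ k)
    {φ : SS Q} {f : ℕ} (h1 : ∀ τ, τ ∈ zpowers φ.σ) (hf : Nat.card (F ≃+* F) = f)
    (hc : chi (φ.c : F) = 1) (h3 : piO Q φ ^ f = 1) :
    Nonempty (Ou Q ≃* (GO Q).map (piO Q) × Multiplicative (ZMod f)) := by
  obtain ⟨ψ, h4, h5, h6⟩ := exists_split hQ hE hk hk0 hc h3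
  rw [← ker_sigO] at h6 ⊢
  exact nonempty_equiv_ker_prod (sigO Q) (φ := ψ) (h4 ▸ h1) hf h5 h6

section minus
variable (hQ : ND Q) (hE : NonExc Q) {k : ℕ} (hk : finrank F V = 2 * k) (hk0 : 1 ≤ k)
  {φ : SS Q} {f : ℕ} (h1 : ∀ τ, τ ∈ zpowers φ.σ) (hf : Nat.card (F ≃+* F) = f)
  {w : V} (hw : Q w ≠ 0) (h3 : φ ^ f = SS.ofO Q (refl Q w))
include hQ hE hk hk0 h1 hf hw h3

omit hk0 in
lemma orderOf_piO_minus : orderOf (piO Q φ) = 2 * f := by
  have := H6.ringAut_finite (F := F)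
  have hev : Even (finrank F V) := ⟨k, by omega⟩
  refine orderOf_eq_two_mul (sigO Q) (hf ▸ Nat.card_pos)
    ((orderOf_eq_card_of_forall_mem_zpowers h1).trans hf) ?_ ?_
  · rw [← map_pow, h3, rO_mul_self]
  · rw [← map_pow, h3]
    exact fun h => rO_notMem_DS hQ hE hev hw (by rw [rO, h]; exact one_mem _)

omit hk0 in
theorem out_minus_two (h2 : (2 : F) = 0) : IsCyclic (Ou Q) ∧ Nat.card (Ou Q) = 2 * f := by
  have h4 := ker_sup_zpowers_eq_top (sigO Q) (φ := piO Q φ) h1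
  rw [ker_sigO, GO_map_of_two h2 hQ hE ⟨k, by omega⟩ hw, sup_eq_right.2
    (zpowers_le.2 (by rw [rO, ← h3, map_pow]; exact pow_mem (mem_zpowers _) f))] at h4
  refine ⟨⟨⟨piO Q φ, fun x => (h4 ▸ mem_top x : x ∈ zpowers (piO Q φ))⟩⟩, ?_⟩
  rw [← card_top, ← h4, Nat.card_zpowers, orderOf_piO_minus hQ hE hk h1 hf hw h3]

theorem out_minus_nsq (h2 : (2 : F) ≠ 0) (hd : disc Q = -1) :
    Nonempty (Ou Q ≃* Multiplicative (ZMod 2 × ZMod (2 * f))) := by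
  have hev : Even (finrank F V) := ⟨k, by omega⟩
  have := Module.nontrivial_of_finrank_pos (R := F) (M := V) (by omega)
  obtain ⟨δ, hδ, hc⟩ := exists_delta h2 hQ hk hk0
  have hz := zO_eq_one h2 hQ hk hk0 hd
  have h5 := piO_delta_sq h2 hQ hk hk0 hδ hc
  rw [hz, one_pow] at h5
  have h6 : piO Q φ ^ f = rO Q w := by rw [rO, ← h3, map_pow]
  have h4 := ker_sup_zpowers_eq_top (sigO Q) (φ := piO Q φ) h1
  rw [ker_sigO, GO_map_eq h2 hQ hk hδ hc hw, sup_assoc, sup_eq_right.2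
    (show zpowers (rO Q w) ≤ zpowers (piO Q φ) from
      zpowers_le.2 (by rw [← h6]; exact pow_mem (mem_zpowers _) f))] at h4
  have h7 := conj_eq_or hQ hE hev (piO Q φ) (mem_map_of_mem _ (DS_le_GO hδ))
  rw [hz, mul_one, or_self, mul_inv_eq_iff_eq_mul] at h7
  obtain ⟨e⟩ := nonempty_two_gen_equiv (orderOf_eq_two' h5 (piO_ne_one_of_nsq hc))
    (orderOf_piO_minus hQ hE hk h1 hf hw h3) h7.symm (disjoint_zpowers_of_mul_self h5 fun h => by
      have h8 := mem_zpowers_pow_of_mem_ker (sigO Q) (φ := piO Q φ)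
        ((orderOf_eq_card_of_forall_mem_zpowers h1).trans hf) (DS_le_GO hδ) h
      rw [h6] at h8
      rcases mem_zpowers_of_mul_self' (rO_mul_self w) h8 with h9 | h9
      · exact piO_ne_one_of_nsq hc h9
      · exact rO_notMem_DS hQ hE hev hw (h9 ▸ mem_map_of_mem _ hδ))
  rw [h4] at e
  exact ⟨topEquiv.symm.trans e⟩

theorem out_minus_sq (h2 : (2 : F) ≠ 0) (hd : disc Q = 1) (hc : chi (φ.c : F) = 1) (ho : Odd f) :
    Nonempty (Ou Q ≃* DihedralGroup 4 × Multiplicative (ZMod f)) := by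
  have h4 : Commute (rO Q w) (piO Q φ) :=
    (mul_inv_eq_iff_eq_mul.1 (conj_rO_of_sq hQ hE hc hw)).symm
  obtain ⟨e⟩ := out_split hQ hE hk hk0 (φ := φ * SS.ofO Q (refl Q w)) (by simpa using h1) hf
    (by simpa using hc) (by
      obtain ⟨j, rfl⟩ := ho
      rw [map_mul, h4.symm.mul_pow, ← map_pow, h3, pow_succ, pow_mul, pow_two, rO_mul_self, one_pow,
        one_mul, rO_mul_self])
  obtain ⟨e1⟩ := equiv_GO_d8 h2 hQ hk hk0 hd
  exact ⟨e.trans (e1.prodCongr (MulEquiv.refl _))⟩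

end minus

end Cfsg.Agent.H7
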