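import Cfsg.Agent.H7.LongRoot

/-!
The `p`-central elements of `Ω` are the long root elements.  Semilinearity criteria.
-/

set_option autoImplicit false

namespace Cfsg.Agent.H7

open QuadraticMap Module

variable {F V : Type*} [Field F] [AddCommGroup V] [Module F V] {Q : QuadraticForm F V}

lemma stab_span {e f : V} {g : OG Q} (h1 : g.1 e = e) (h2 : g.1 f - f ∈ F ∙ e) {y : V}
    (hy : y ∈ Submodule.span F {e, f}) : g.1 y ∈ Submodule.span F {e, f} := by
  obtain ⟨a, b, rfl⟩ := Submodule.mem_span_pair.1 hy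
  obtain ⟨c, hc⟩ := Submodule.mem_span_singleton.1 h2
  refine Submodule.mem_span_pair.2 ⟨a + b * c, b, ?_⟩
  rw [map_add, map_smul, map_smul, h1]
  linear_combination (norm := module) b • hc

lemma stab_inv {e f : V} {g : OG Q} (h1 : g.1 e = e) (h2 : g.1 f - f ∈ F ∙ e) :
    (g⁻¹).1 e = e ∧ (g⁻¹).1 f - f ∈ F ∙ e := by
  have h3 : (g⁻¹).1 e = e := OG.inv_apply_eq.2 h1.symm
  obtain ⟨c, hc⟩ := Submodule.mem_span_singleton.1 h2
  refine ⟨h3, Submodule.mem_span_singleton.2 ⟨-c, ?_⟩⟩
  have := congrArg (g⁻¹).1 hc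
  rw [map_smul, h3, map_sub, OG.inv_apply_apply] at this
  linear_combination (norm := module) -this

lemma stab_line {e : V} {g : OG Q} (h1 : g.1 e = e) {y : V} (hy : y ∈ F ∙ e) : g.1 y = y := by
  obtain ⟨c, rfl⟩ := Submodule.mem_span_singleton.1 hy
  rw [map_smul, h1]

variable (Q) in
/-- the unipotent radical of the stabiliser of a point-line flag -/
def flagU (e f : V) : Subgroup (Om Q) where
  carrier := {g | g.1.1 e = e ∧ g.1.1 f - f ∈ F ∙ e ∧
    ∀ x, polar Q e x = 0 → polar Q f x = 0 → g.1.1 x - x ∈ Submodule.span F {e, f}}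
  one_mem' := ⟨rfl, by simp, fun x _ _ => by simp⟩
  mul_mem' {g h} hg hh := by
    refine ⟨by simp [hg.1, hh.1], ?_, fun x h1 h2 => ?_⟩
    · have := add_mem hh.2.1 hg.2.1
      rw [← stab_line hg.1 hh.2.1, map_sub] at this
      simpa using this
    · have := add_mem (stab_span hg.1 hg.2.1 (hh.2.2 x h1 h2)) (hg.2.2 x h1 h2)
      rw [map_sub] at this
      simpa using this
  inv_mem' {g} hg := by
    obtain ⟨h1, h2⟩ := stab_inv hg.1 hg.2.1
    refine ⟨h1, h2, fun x h3 h4 => ?_⟩
    have := neg_mem (stab_span h1 h2 (hg.2.2 x h3 h4))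
    rw [map_sub, OG.inv_apply_apply, neg_sub] at this
    exact this

lemma conj_mem_flagU {e f : V} {g x : Om Q} (h1 : g.1.1 e = e) (h2 : g.1.1 f - f ∈ F ∙ e)
    (hx : x ∈ flagU Q e f) : g * x * g⁻¹ ∈ flagU Q e f := by
  obtain ⟨h3, h4⟩ := stab_inv h1 h2
  refine ⟨?_, ?_, fun y h5 h6 => ?_⟩
  · change g.1.1 (x.1.1 ((g.1⁻¹).1 e)) = e
    rw [h3, hx.1, h1]
  · change g.1.1 (x.1.1 ((g.1⁻¹).1 f)) - f ∈ _
    have e1 : (g.1⁻¹).1 f = f + ((g.1⁻¹).1 f - f) := by module
    have e2 : x.1.1 ((g.1⁻¹).1 f) = (x.1.1 f - f) + (g.1⁻¹).1 f := by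
      rw [e1, map_add, stab_line hx.1 h4]; module
    rw [e2, map_add, OG.apply_inv_apply, stab_line h1 hx.2.1]
    simpa using hx.2.1
  · change g.1.1 (x.1.1 ((g.1⁻¹).1 y)) - y ∈ _
    obtain ⟨c, hc⟩ := Submodule.mem_span_singleton.1 h2
    have := stab_span h1 h2 (hx.2.2 ((g.1⁻¹).1 y) (by rw [← OG.B_left, h1, h5]) (by
      rw [← OG.B_left, ← sub_add_cancel (g.1.1 f) f, ← hc]; qsimp; rw [h5, h6]; ring))
    rwa [map_sub, OG.apply_inv_apply] at this

section pc
variable {p : ℕ} [Fact p.Prime] [CharP F p]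

lemma pow_eq_one_of_nilp {g : OG Q}
    (h : (g.1.toLinearMap - 1) ^ 5 = 0) : g ^ p ^ 3 = 1 := by
  rcases subsingleton_or_nontrivial V with hV | hV
  · exact OG.ext' fun x => Subsingleton.elim _ _
  have : CharP (Module.End F V) p :=
    charP_of_injective_algebraMap (algebraMap F (Module.End F V)).injective p
  have h1 := sub_pow_char_pow_of_commute (R := Module.End F V) p 3
    (Commute.one_right g.1.toLinearMap)
  have h2 : 5 ≤ p ^ 3 := le_trans (by norm_num)
    (Nat.pow_le_pow_left (Fact.out : p.Prime).two_le 3)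
  rw [pow_eq_zero_of_le h2 h, one_pow] at h1
  apply OG.ext'
  intro x
  have h3 := LinearMap.congr_fun (sub_eq_zero.1 h1.symm) x
  rw [Module.End.pow_apply] at h3
  simpa [LinearEquiv.pow_apply] using h3

lemma flagU_isPGroup (e f : V) : IsPGroup p (flagU Q e f) := by
  rintro ⟨g, h1, h2, h3⟩
  refine ⟨3, Subtype.ext (Subtype.ext (pow_eq_one_of_nilp (LinearMap.ext fun x => ?_)))⟩
  obtain ⟨h4, h5⟩ := stab_inv h1 h2
  set N := g.1.1.toLinearMap - 1
  have hN : ∀ y, N y = g.1.1 y - y := fun _ => rfl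
  have s1 : ∀ y, polar Q e (N y) = 0 := fun y => by
    rw [hN, polar_sub_right, B_comm, OG.B_left, h4, B_comm, sub_self]
  have s2 : ∀ y, polar Q e y = 0 → polar Q f (N y) = 0 := fun y hy => by
    obtain ⟨c, hc⟩ := Submodule.mem_span_singleton.1 h5
    rw [hN, polar_sub_right, B_comm, OG.B_left, B_comm Q f, ← polar_sub_right, ← hc, B_smul_right,
      B_comm, hy, mul_zero]
  have s4 : ∀ y ∈ Submodule.span F {e, f}, N y ∈ F ∙ e := fun y hy => by
    obtain ⟨a, b, rfl⟩ := Submodule.mem_span_pair.1 hy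
    rw [map_add, map_smul, map_smul, hN, hN, h1, sub_self, smul_zero, zero_add]
    exact Submodule.smul_mem _ _ h2
  have e5 : (N ^ 5) x = N (N (N (N (N x)))) := by simp [pow_succ]
  rw [e5, hN, stab_line h1 (s4 (N (N (N x))) (h3 _ (s1 _) (s2 _ (s1 _)))), sub_self]; rfl

variable [FiniteDimensional F V] [Finite F]

lemma exists_sylow_flag (hQ : ND Q) (h : 5 ≤ finrank F V) (P : Sylow p (Om Q)) :
    ∃ e f, Q e = 0 ∧ polar Q e f = 0 ∧ Q f = 0 ∧ e ≠ 0 ∧ f ∉ F ∙ e ∧
      (∀ g ∈ (P : Subgroup (Om Q)), g.1.1 e = e ∧ g.1.1 f - f ∈ F ∙ e) ∧ flagU Q e f ≤ P := by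
  let ρ : P →* OG Q := (Om Q).subtype.comp (P : Subgroup (Om Q)).subtype
  obtain ⟨e, -, he0, he, h1⟩ := exists_fixed_sing hQ P.isPGroup' ρ (U := ⊥)
    (fun u hu => by rw [(Submodule.mem_bot F).1 hu, QuadraticMap.map_zero])
    (fun g u hu => by rw [(Submodule.mem_bot F).1 hu]; simp) (by simp; omega)
  simp only [Submodule.mem_bot, sub_eq_zero] at he0 h1
  obtain ⟨f, hef, hfe, hf, h2⟩ := exists_fixed_sing hQ P.isPGroup' ρ (U := F ∙ e)
    (ts_span (by simpa using he) (by simp [he]))
    (fun g u hu => by rw [stab_line (h1 g) hu]; exact hu) (by rw [finrank_span_singleton he0]; omega)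
  have h3 : ∀ g ∈ (P : Subgroup (Om Q)), g.1.1 e = e ∧ g.1.1 f - f ∈ F ∙ e :=
    fun g hg => ⟨h1 ⟨g, hg⟩, h2 ⟨g, hg⟩⟩
  refine ⟨e, f, he, mem_perp.1 hef e (Submodule.mem_span_singleton_self e), hf, he0, hfe, h3, ?_⟩
  have hn : (P : Subgroup (Om Q)) ≤ Subgroup.normalizer (flagU Q e f : Set (Om Q)) := by
    intro g hg
    rw [Subgroup.mem_normalizer_iff]
    intro x
    refine ⟨conj_mem_flagU (h3 g hg).1 (h3 g hg).2, fun hx => ?_⟩
    have := conj_mem_flagU (h3 _ (inv_mem hg)).1 (h3 _ (inv_mem hg)).2 hx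
    simpa [mul_assoc] using this
  have hp := IsPGroup.to_sup_of_normal_left' (flagU_isPGroup (p := p) e f) P.isPGroup' hn
  have := P.is_maximal' hp le_sup_right
  exact this ▸ le_sup_left

omit [Finite F] in
lemma siegel_mem_flagU (hQ : ND Q) (h : 5 ≤ finrank F V) {e f w : V} (he : Q e = 0)
    (hef : polar Q e f = 0) (hw : polar Q e w = 0) :
    (⟨_, siegel_mem_Om hQ h he hw⟩ : Om Q) ∈ flagU Q e f := by
  have : ∀ x, polar Q e x = 0 → (siegel e w he hw).1 x - x ∈ F ∙ e := fun x hx =>
    Submodule.mem_span_singleton.2 ⟨polar Q x w, by rw [siegel_apply, B_comm Q x e, hx]; module⟩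
  exact ⟨siegel_self he hw, this f hef, fun x hx _ =>
    Submodule.span_mono (by simp) (this x hx)⟩

theorem pCentral_iff (hQ : ND Q) (h : 5 ≤ finrank F V) (s : Om Q) :
    H6.PCentral p s ↔ LR s.1 ∨ s.1 = 1 := by
  have : Finite V := Module.finite_of_finite F
  have : Finite (V ≃ₗ[F] V) := Finite.of_injective _ DFunLike.coe_injective
  constructor
  · rintro ⟨P, hs, hc⟩
    obtain ⟨e, f, he, hef, hf, he0, hfe, h1, h2⟩ := exists_sylow_flag hQ h P
    obtain ⟨u, hu, hsu⟩ := eq_siegel_of hQ he0 he (h1 s hs).1 fun w hw => by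
      have h3 := congrArg Subtype.val (hc _ (h2 (siegel_mem_flagU hQ h he hef hw)))
      simp only [Subgroup.coe_mul] at h3
      rw [← mul_inv_eq_iff_eq_mul, siegel_conj] at h3
      exact sub_mem_of_siegel_eq hQ he0 he hw (by rw [← (h1 s hs).1, OG.map_B, hw])
        (h3.symm.trans (siegel_congr _ _ (h1 s hs).1 rfl))
    have key : ∀ w, polar Q e w = 0 → polar Q f w = 0 →
        polar Q u w • f - polar Q u f • w - (Q w * polar Q u f) • f ∈ F ∙ e := fun w h3 h4 => by
      have hfix : (siegel f w hf h4).1 e = e := by rw [siegel_apply, h3, hef]; simp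
      have hm : (⟨_, siegel_mem_Om hQ h hf h4⟩ : Om Q) ∈ flagU Q e f := by
        refine ⟨hfix, by simp [siegel_self], fun x _ hx => Submodule.mem_span_pair.2
          ⟨0, polar Q x w, ?_⟩⟩
        change _ = (siegel f w hf h4).1 x - x
        rw [siegel_apply, B_comm Q x f, hx]; module
      have h5 := congrArg Subtype.val (hc _ (h2 hm))
      simp only [Subgroup.coe_mul] at h5
      rw [eq_comm, ← mul_inv_eq_iff_eq_mul, hsu, siegel_conj] at h5
      have := sub_mem_of_siegel_eq hQ he0 he hu (by rw [← hfix, OG.map_B, hu])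
        (h5.symm.trans (siegel_congr _ _ hfix rfl))
      rw [siegel_apply] at this
      convert this using 1
      module
    have hL := finrank_perp hQ (Submodule.span F {e, f})
    rw [finrank_span_pair_of he0 hfe] at hL
    have huf : polar Q u f = 0 := by
      by_contra h0
      have : perp Q (Submodule.span F {e, f}) ≤ Submodule.span F {e, f} := by
        intro w hw
        rw [mem_perp_span] at hw
        obtain ⟨c, hc⟩ := Submodule.mem_span_singleton.1 (key w (hw e (by simp)) (hw f (by simp)))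
        refine Submodule.mem_span_pair.2 ⟨-c / polar Q u f,
          (polar Q u w - Q w * polar Q u f) / polar Q u f, ?_⟩
        apply smul_right_injective V h0
        simp only [smul_add, smul_smul]
        rw [mul_div_cancel₀ _ h0, mul_div_cancel₀ _ h0]
        linear_combination (norm := module) -hc
      have := Submodule.finrank_mono this
      rw [finrank_span_pair_of he0 hfe] at this
      omega
    have hu2 : u ∈ Submodule.span F {e, f} := by
      rw [← perp_perp hQ (Submodule.span F {e, f}), mem_perp]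
      intro w hw
      rw [mem_perp_span] at hw
      have := key w (hw e (by simp)) (hw f (by simp))
      rw [huf] at this
      by_contra h0
      apply hfe
      have h6 := Submodule.smul_mem _ (polar Q w u)⁻¹ this
      simpa [B_comm Q u w, smul_smul, inv_mul_cancel₀ h0] using h6
    obtain ⟨a, b, rfl⟩ := Submodule.mem_span_pair.1 hu2
    rw [hsu]
    exact lr_or_one _ _ (by qsimp; rw [he, hf, hef]; ring)
  · rintro (⟨e', f', he', hef', hf', he0', hfe', hs⟩ | hs)
    · obtain ⟨P⟩ := (inferInstance : Nonempty (Sylow p (Om Q)))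
      obtain ⟨e, f, he, hef, hf, he0, hfe, h1, h2⟩ := exists_sylow_flag hQ h P
      have h3 : H6.PCentral p (⟨_, siegel_mem_Om hQ h he hef⟩ : Om Q) := by
        refine ⟨P, h2 (siegel_mem_flagU hQ h he hef hef), fun y hy => Subtype.ext ?_⟩
        simp only [Subgroup.coe_mul]
        rw [eq_comm, ← mul_inv_eq_iff_eq_mul, siegel_conj]
        obtain ⟨c, hc⟩ := Submodule.mem_span_singleton.1 (h1 y hy).2
        rw [siegel_congr _ _ (h1 y hy).1 (show y.1.1 f = f + c • e by rw [hc]; module),
          siegel_add_smul]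
      obtain ⟨g, -, hg⟩ := witt_family hQ gen_top ![e, f] ![e', f']
        (linearIndependent_pair_of he0 hfe) (linearIndependent_pair_of he0' hfe')
        (fun i => by fin_cases i <;> simp [he, he', hf, hf'])
        (fun i j => by
          fin_cases i <;> fin_cases j <;>
            simp [he, he', hf, hf', hef, hef', B_comm Q f e, B_comm Q f' e'])
      have h4 := (H6.pCentral_aut_iff (MulAut.conjNormal (H := Om Q) g) _).2 h3
      convert h4
      apply Subtype.ext
      rw [MulAut.conjNormal_apply, hs, siegel_conj]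
      exact siegel_congr _ _ (hg 0).symm (hg 1).symm
    · obtain ⟨P⟩ := (inferInstance : Nonempty (Sylow p (Om Q)))
      have : s = 1 := Subtype.ext hs
      exact ⟨P, this ▸ one_mem _, fun y _ => by simp [this]⟩

end pc

section semi
variable [FiniteDimensional F V] [Finite F] {V' : Type*} [AddCommGroup V'] [Module F V']

lemma semilinear_of_sing (hQ : ND Q) (h : 5 ≤ finrank F V) (θ : V ≃+ V')
    (h1 : ∀ u, Q u = 0 → ∀ a : F, θ (a • u) ∈ F ∙ θ u)
    (h2 : ∀ u v, Q u = 0 → θ v ∈ F ∙ θ u → v ∈ F ∙ u) :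
    ∃ σ : F ≃+* F, ∀ (a : F) v, θ (a • v) = σ a • θ v := by
  have : ∀ u, ∃ s : F → F, Q u = 0 → ∀ a, θ (a • u) = s a • θ u := fun u => by
    by_cases hu : Q u = 0
    · choose s hs using fun a => Submodule.mem_span_singleton.1 (h1 u hu a)
      exact ⟨s, fun _ a => (hs a).symm⟩
    · exact ⟨id, fun h => absurd h hu⟩
  choose s hs using this
  obtain ⟨e, he0, he⟩ := exists_sing_of_three_le Q (by omega)
  have key : ∀ u, u ≠ 0 → Q u = 0 → s u = s e := fun u hu0 hu =>
    sing_conn hQ h s (fun u v hu hv huv hu0 hm => by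
      funext a
      have h3 := hs (u + v) (by rw [Q_add, hu, hv, huv]; ring) a
      rw [smul_add, map_add, map_add, hs u hu, hs v hv] at h3
      have h4 := LinearIndependent.pair_iff.1 (linearIndependent_pair_of
        (show θ u ≠ 0 by simpa using hu0) (mt (h2 u v hu) hm))
        (s u a - s (u + v) a) (s v a - s (u + v) a) (by linear_combination (norm := module) h3)
      linear_combination h4.1 - h4.2) hu0 he0 hu he
  have hall : ∀ a v, θ (a • v) = s e a • θ v := fun a v => by
    have := addHom_ext_sing hQ (by omega)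
      (a := (θ : V →+ V').comp (DistribSMul.toAddMonoidHom V a))
      (b := (DistribSMul.toAddMonoidHom V' (s e a)).comp (θ : V →+ V')) fun u hu => by
        by_cases hu0 : u = 0
        · simp [hu0]
        · simpa [key u hu0 hu] using hs u hu a
    exact DFunLike.congr_fun this v
  have hθ : θ e ≠ 0 := by simpa using he0
  let σ : F →+* F :=
    { toFun := s e
      map_one' := smul_left_injective F hθ (by simpa using (hall 1 e).symm)
      map_zero' := smul_left_injective F hθ (by simpa using (hall 0 e).symm)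
      map_mul' := fun a b => smul_left_injective F hθ (by
        simp only
        rw [← hall, mul_smul, hall, hall, mul_smul])
      map_add' := fun a b => smul_left_injective F hθ (by
        simp only
        rw [← hall, add_smul, map_add, hall, hall, add_smul]) }
  exact ⟨RingEquiv.ofBijective σ (Finite.injective_iff_bijective.1 σ.injective), hall⟩

lemma similar_of_sing (hQ : ND Q) (h : 5 ≤ finrank F V) {Q' : QuadraticForm F V'} (θ : V →+ V')
    {σ : F ≃+* F} (h1 : ∀ (a : F) v, θ (a • v) = σ a • θ v) (h2 : ∀ u, Q u = 0 → Q' (θ u) = 0) :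
    ∃ c : F, ∀ v, Q' (θ v) = c * σ (Q v) := by
  obtain ⟨e, f, he, hf, hef⟩ := exists_hyp_pair hQ (by omega)
  have hd := finrank_hp1 he hf hef
  have key : ∀ x, Q x = 0 → (∀ w ∈ hp1 Q e f, polar Q x w = 0) →
      ∀ w ∈ hp1 Q e f, polar Q' (θ x) (θ w) = 0 := fun x hx hx' w hw => by
    refine sing_gen (nd_hp1 hQ he hf hef) (by omega)
      (((polarBilin Q' (θ x)).toAddMonoidHom.comp
        (θ.comp (hp1 Q e f).subtype.toAddMonoidHom)).ker) (fun u hu => ?_) ⟨w, hw⟩
    have h3 := h2 (x + u) (by rw [Q_add, hx, hx' u u.2]; simpa using hu)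
    rw [map_add, Q_add, h2 x hx, h2 u hu] at h3
    simpa using h3
  have k1 := key e he fun w hw => by rw [B_comm]; exact (mem_hp1.1 hw).1
  have k2 := key f hf fun w hw => by rw [B_comm]; exact (mem_hp1.1 hw).2
  refine ⟨polar Q' (θ e) (θ f), fun v => ?_⟩
  have hw := proj_mem_hp1 he hf hef v
  obtain ⟨h3, h4⟩ := mem_hp1.1 hw
  set w := v - polar Q v f • e - polar Q v e • f with hwd
  have h5 := h2 (e + w - Q w • f) (by qsimp; rw [he, hf, hef, h4, B_comm Q e w, h3]; ring)
  have hv : v = polar Q v f • e + polar Q v e • f + w := by rw [hwd]; module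
  have h6 : Q v = polar Q v f * polar Q v e + Q w := by
    nth_rewrite 1 [hv]
    qsimp; rw [he, hf, hef, B_comm Q e w, B_comm Q f w, h3, h4]; ring
  rw [h6]
  nth_rewrite 1 [hv]
  rw [map_sub, map_add, h1] at h5
  rw [map_add θ, map_add θ, h1, h1]
  revert h5
  qsimp
  rw [h2 e he, h2 f hf, k1 w hw, k2 w hw, B_comm Q' (θ w), k2 w hw, map_add, map_mul]
  intro h5
  linear_combination h5

end semi

end Cfsg.Agent.H7
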