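import Cfsg.Agent.H7.Levi

set_option autoImplicit false

namespace Cfsg.Agent.H7

open QuadraticMap Module Matrix

variable {F V : Type*} [Field F] [AddCommGroup V] [Module F V] {Q : QuadraticForm F V}

/-- image of a subspace under an isometry -/
abbrev img (g : OG Q) (U : Submodule F V) : Submodule F V := U.map g.1.toLinearMap

lemma img_mul (g h : OG Q) (U : Submodule F V) : img (g * h) U = img g (img h U) := by
  rw [img, img, img, ← Submodule.map_comp]; rfl

lemma img_one (U : Submodule F V) : img (1 : OG Q) U = U := Submodule.map_id U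

lemma img_inv_img (g : OG Q) (U : Submodule F V) : img g⁻¹ (img g U) = U := by
  rw [← img_mul, inv_mul_cancel, img_one]

lemma img_img_inv (g : OG Q) (U : Submodule F V) : img g (img g⁻¹ U) = U := by
  rw [← img_mul, mul_inv_cancel, img_one]

lemma mem_img {g : OG Q} {U : Submodule F V} {x : V} : x ∈ img g U ↔ (g⁻¹).1 x ∈ U := by
  constructor
  · rintro ⟨y, hy, rfl⟩; simpa using hy
  · intro h; exact ⟨_, h, by simp⟩

lemma img_inf (g : OG Q) (U W : Submodule F V) : img g (U ⊓ W) = img g U ⊓ img g W :=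
  Submodule.map_inf _ g.1.injective

lemma finrank_img (g : OG Q) (U : Submodule F V) : finrank F (img g U) = finrank F U :=
  LinearEquiv.finrank_map_eq _ _

lemma img_perp (g : OG Q) (U : Submodule F V) : img g (perp Q U) = perp Q (img g U) := by
  ext x
  rw [mem_img, mem_perp, mem_perp]
  constructor
  · rintro h _ ⟨u, hu, rfl⟩
    rw [LinearEquiv.coe_coe, OG.B_left, h u hu]
  · intro h u hu
    rw [← OG.B_left]; exact h _ ⟨u, hu, rfl⟩

lemma img_eq_of_fix {g : OG Q} {U : Submodule F V} (h : ∀ u ∈ U, g.1 u = u) : img g U = U := by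
  ext x
  constructor
  · rintro ⟨y, hy, rfl⟩; rw [LinearEquiv.coe_coe, h y hy]; exact hy
  · intro hx; exact ⟨x, hx, h x hx⟩

lemma img_refl_of_mem {v : V} {U : Submodule F V} (h : v ∈ U) : img (refl Q v) U = U := by
  ext x
  rw [mem_img, refl_inv, refl_apply, Submodule.sub_mem_iff_left _ (U.smul_mem _ h)]

lemma img_refl_of_mem_perp {v : V} {U : Submodule F V} (h : v ∈ perp Q U) :
    img (refl Q v) U = U :=
  img_eq_of_fix fun u hu => refl_of_perp (mem_perp.1 h u hu)

variable [FiniteDimensional F V]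

lemma img_eq_of_le {g : OG Q} {U : Submodule F V} (h : ∀ u ∈ U, g.1 u ∈ U) : img g U = U :=
  Submodule.eq_of_le_of_finrank_eq (by rintro _ ⟨u, hu, rfl⟩; exact h u hu) (finrank_img g U)

/-- Witt's theorem for subspaces. -/
lemma exists_img_eq (hQ : ND Q) {U W : Submodule F V} (e : U ≃ₗ[F] W)
    (he : ∀ u : U, Q (e u) = Q u) : ∃ g : OG Q, img g U = W ∧ ∀ u : U, g.1 u = e u := by
  obtain ⟨g, hg⟩ := witt hQ U (W.subtype ∘ₗ e.toLinearMap) (W.injective_subtype.comp e.injective) he
  refine ⟨g, ?_, hg⟩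
  ext x
  constructor
  · rintro ⟨u, hu, rfl⟩
    have := hg ⟨u, hu⟩
    simp only at this
    rw [LinearEquiv.coe_coe, this]; exact (e _).2
  · intro hx
    obtain ⟨u, hu⟩ := e.surjective ⟨x, hx⟩
    exact ⟨u, u.2, by rw [LinearEquiv.coe_coe, hg u]; simp [hu]⟩

lemma TS.exists_img_eq (hQ : ND Q) {U W : Submodule F V} (hU : TS Q U) (hW : TS Q W)
    (h : finrank F U = finrank F W) : ∃ g : OG Q, img g U = W := by
  obtain ⟨g, hg, -⟩ := H7.exists_img_eq hQ (LinearEquiv.ofFinrankEq U W h)
    (fun u => by rw [hU u u.2, hW _ (LinearEquiv.ofFinrankEq U W h u).2])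
  exact ⟨g, hg⟩

lemma TS.perp_eq (hQ : ND Q) {U : Submodule F V} (hU : TS Q U)
    (h : 2 * finrank F U = finrank F V) : perp Q U = U := by
  symm
  apply Submodule.eq_of_le_of_finrank_eq hU.le_perp
  have := finrank_perp hQ U
  omega

omit [FiniteDimensional F V] in
lemma finrank_sup_span {X : Submodule F V} [FiniteDimensional F X] {u : V} (hu : u ∉ X) :
    finrank F (X ⊔ F ∙ u : Submodule F V) = finrank F X + 1 := by
  have h0 : u ≠ 0 := by rintro rfl; exact hu X.zero_mem
  have := Submodule.finrank_sup_add_finrank_inf_eq X (F ∙ u)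
  rw [((Submodule.disjoint_span_singleton' h0).2 hu).eq_bot, finrank_bot,
    finrank_span_singleton h0] at this
  omega

lemma finrank_inf_ker {W : Submodule F V} (φ : V →ₗ[F] F) {w : V} (hw : w ∈ W) (hφ : φ w ≠ 0) :
    finrank F (W ⊓ LinearMap.ker φ : Submodule F V) + 1 = finrank F W := by
  rw [← finrank_sup_span (X := W ⊓ LinearMap.ker φ) (u := w) (fun h => hφ h.2)]
  suffices h : W ⊓ LinearMap.ker φ ⊔ F ∙ w = W by rw [h]
  apply le_antisymm
  · exact sup_le inf_le_left ((Submodule.span_singleton_le_iff_mem _ _).2 hw)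
  · intro x hx
    have : x = (x - (φ x / φ w) • w) + (φ x / φ w) • w := by abel
    rw [this]
    refine Submodule.add_mem_sup ⟨W.sub_mem hx (W.smul_mem _ hw), ?_⟩
      (Submodule.smul_mem _ _ (Submodule.mem_span_singleton_self w))
    simp [hφ]

lemma parity_step (hQ : ND Q) {U W : Submodule F V} (hU : TS Q U) (hW : TS Q W)
    (hU' : 2 * finrank F U = finrank F V) (hW' : 2 * finrank F W = finrank F V) {v : V}
    (hv : Q v ≠ 0) :
    finrank F (U ⊓ W : Submodule F V) = finrank F (U ⊓ img (refl Q v) W : Submodule F V) + 1 ∨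
      finrank F (U ⊓ img (refl Q v) W : Submodule F V) = finrank F (U ⊓ W : Submodule F V) + 1 := by
  have hvW : v ∉ W := fun h => hv (hW v h)
  obtain ⟨w, hw, hwv⟩ : ∃ w ∈ W, polar Q w v ≠ 0 := by
    by_contra! hc
    exact hvW (hW.perp_eq hQ hW' ▸ mem_perp.2 hc)
  set W0 := W ⊓ LinearMap.ker ((polarBilin Q).flip v) with hW0
  have mem0 : ∀ x, x ∈ W0 ↔ x ∈ W ∧ polar Q x v = 0 := fun x => by simp [hW0]
  have h0 : finrank F W0 + 1 = finrank F W := finrank_inf_ker _ hw (by simpa using hwv)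
  have hP : perp Q W0 = W ⊔ F ∙ v := by
    symm
    apply Submodule.eq_of_le_of_finrank_eq
    · refine sup_le (fun x hx => mem_perp.2 fun u hu => hW.polar_eq ((mem0 u).1 hu).1 hx) ?_
      rw [Submodule.span_singleton_le_iff_mem, mem_perp]
      exact fun u hu => ((mem0 u).1 hu).2
    · rw [finrank_sup_span hvW]
      have := finrank_perp hQ W0
      omega
  set W' := img (refl Q v) W with hW'def
  have hW'ts : TS Q W' := hW.map _
  have h1 : W0 ≤ W' := fun x hx => by
    rw [hW'def, mem_img, refl_inv, refl_of_perp ((mem0 x).1 hx).2]; exact ((mem0 x).1 hx).1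
  have h2 : ∀ x, x ∈ W → x ∈ W' → x ∈ W0 := by
    intro x hx hx'
    rw [hW'def, mem_img, refl_inv, refl_apply, Submodule.sub_mem_iff_right _ hx] at hx'
    refine (mem0 x).2 ⟨hx, ?_⟩
    by_contra hne
    exact hvW ((Submodule.smul_mem_iff _ (mul_ne_zero (inv_ne_zero hv) hne)).1 hx')
  set X := U ⊓ W0 with hX
  set Y := U ⊓ perp Q W0 with hY
  have hYd : finrank F Y = finrank F X + 1 := by
    have e1 : Y = perp Q (U ⊔ W0) := by rw [perp_sup, hU.perp_eq hQ hU']
    have e2 := finrank_perp hQ (U ⊔ W0)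
    have e3 := Submodule.finrank_sup_add_finrank_inf_eq U W0
    rw [← e1] at e2
    rw [← hX] at e3
    omega
  have key : ∀ A : Submodule F V, X ≤ A → A ≤ Y →
      (A ≤ X ∧ finrank F A = finrank F X) ∨ (A = Y ∧ finrank F A = finrank F X + 1) := by
    intro A hA1 hA2
    have e1 := Submodule.finrank_mono hA1
    have e2 := Submodule.finrank_mono hA2
    by_cases h : finrank F A = finrank F X
    · exact Or.inl ⟨(Submodule.eq_of_le_of_finrank_eq hA1 h.symm).ge, h⟩
    · exact Or.inr ⟨Submodule.eq_of_le_of_finrank_eq hA2 (by omega), by omega⟩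
  have k1 := key (U ⊓ W) (inf_le_inf_left _ inf_le_left)
    (inf_le_inf_left _ (hP ▸ le_sup_left))
  have k2 := key (U ⊓ W') (inf_le_inf_left _ h1)
    (inf_le_inf_left _ fun x hx => mem_perp.2 fun u hu => hW'ts.polar_eq (h1 hu) hx)
  have hne : ¬ Y ≤ X := fun h => by have := Submodule.finrank_mono h; omega
  rcases k1 with ⟨a1, a2⟩ | ⟨a1, a2⟩ <;> rcases k2 with ⟨b1, b2⟩ | ⟨b1, b2⟩
  · exfalso
    apply hne
    rintro u ⟨hu, hu'⟩
    rw [hP] at hu'
    obtain ⟨x, hx, z, hz, rfl⟩ := Submodule.mem_sup.1 hu'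
    obtain ⟨a, rfl⟩ := Submodule.mem_span_singleton.1 hz
    have hq := hU _ hu
    rw [Q_add, Q_smul, hW x hx, B_smul_right] at hq
    by_cases ha : a = 0
    · apply a1; refine ⟨hu, ?_⟩; simpa [ha] using hx
    · apply b1; refine ⟨hu, ?_⟩
      have : x + a • v = (refl Q v).1 x := by
        rw [refl_apply, sub_eq_add_neg, ← neg_smul]
        congr 2
        field_simp
        apply mul_left_cancel₀ ha
        linear_combination hq
      rw [this]
      exact ⟨x, hx, rfl⟩
  · right; omega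
  · left; omega
  · exfalso
    apply hne
    intro u hu
    have e1 : u ∈ U ⊓ W := a1 ▸ hu
    have e2 : u ∈ U ⊓ W' := b1 ▸ hu
    exact ⟨e1.1, h2 u e1.2 e2.2⟩

/-- The Dickson invariant decides whether an isometry preserves the class of a maximal totally
singular subspace. -/
theorem parity_iff (hQ : ND Q) (hE : NonExc Q) {U : Submodule F V} (hU : TS Q U)
    (hU' : 2 * finrank F U = finrank F V) (g : OG Q) :
    Even (finrank F U - finrank F (U ⊓ img g U : Submodule F V)) ↔ Even (rk g) := by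
  induction g using refl_induction hQ hE with
  | one => rw [img_one, inf_idem]; simp [rk_one]
  | step g v hv ih =>
    rw [even_rk_mul_refl hQ g hv, ← ih]
    have : g * refl Q v = refl Q (g.1 v) * g := by rw [← refl_conj]; group
    rw [this, img_mul]
    have h1 := parity_step (W := img g U) hQ hU (hU.map g) hU' (by rw [finrank_img, hU']) (v := g.1 v)
      (by simpa using hv)
    have h2 : finrank F (U ⊓ img g U : Submodule F V) ≤ finrank F U :=
      Submodule.finrank_mono inf_le_left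
    have h3 : finrank F (U ⊓ img (refl Q (g.1 v)) (img g U) : Submodule F V) ≤ finrank F U :=
      Submodule.finrank_mono inf_le_left
    simp only [Nat.even_iff]
    omega

lemma even_rk_of_stab (hQ : ND Q) (hE : NonExc Q) {U : Submodule F V} (hU : TS Q U)
    (hU' : 2 * finrank F U = finrank F V) {g : OG Q} (hg : img g U = U) : Even (rk g) := by
  rw [← parity_iff hQ hE hU hU', hg, inf_idem]; simp

lemma det_refl {v : V} (hv : Q v ≠ 0) : LinearMap.det (refl Q v).1.toLinearMap = -1 := by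
  have : (refl Q v).1.toLinearMap =
      LinearMap.transvection (-((Q v)⁻¹ • (polarBilin Q).flip v)) v := by
    ext x
    simp [refl_apply, LinearMap.transvection.apply, sub_eq_add_neg]
  rw [this, LinearMap.transvection.det]
  simp only [LinearMap.neg_apply, LinearMap.smul_apply, LinearMap.flip_apply,
    polarBilin_apply_apply, B_self, smul_eq_mul]
  field_simp; ring

lemma det_eq_neg_one_pow (hQ : ND Q) (hE : NonExc Q) (g : OG Q) :
    LinearMap.det g.1.toLinearMap = (-1) ^ rk g := by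
  induction g using refl_induction hQ hE with
  | one => simp [rk_one]
  | step g v hv ih =>
    have : (g * refl Q v).1.toLinearMap = g.1.toLinearMap ∘ₗ (refl Q v).1.toLinearMap := rfl
    rw [this, LinearMap.det_comp, ih, det_refl hv]
    rcases rk_mul_refl hQ g hv with h | h <;> rw [h] <;> ring

lemma det_eq_one_iff (h2 : (2 : F) ≠ 0) (hQ : ND Q) (g : OG Q) :
    LinearMap.det g.1.toLinearMap = 1 ↔ Even (rk g) := by
  rw [det_eq_neg_one_pow hQ (nonExc_of_two hQ h2), neg_one_pow_eq_one_iff_even]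
  intro h; apply h2; linear_combination -h

variable [Finite F]

/-- If the stabiliser of `U` covers `O/Ω` as far as `g` needs it, `Ω` is transitive. -/
lemma exists_Omega_img (hQ : ND Q) (hE : NonExc Q) {U W : Submodule F V} {g : OG Q}
    (hg : img g U = W) (s : OG Q) (hs : img s U = U) (h1 : Even (rk s) ↔ Even (rk g))
    (h2 : theta s = theta g) : ∃ g' ∈ commutator (OG Q), img g' U = W := by
  refine ⟨g * s, ?_, by rw [img_mul, hs, hg]⟩
  rw [mem_commutator_iff hQ hE, even_rk_mul hQ hE, theta_mul hQ hE, h2, theta_mul_self hQ hE]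
  exact ⟨h1.symm, rfl⟩

lemma exists_Omega_img_of_refl (hQ : ND Q) (hE : NonExc Q) {U W : Submodule F V} {g : OG Q}
    (hg : img g U = W) (h : ∀ c : F, c ≠ 0 → ∃ v, Q v ≠ 0 ∧ chi (Q v) = chi c ∧
      img (refl Q v) U = U) : ∃ g' ∈ commutator (OG Q), img g' U = W := by
  obtain ⟨c, hc, hcg⟩ : ∃ c : F, c ≠ 0 ∧ chi c = theta g := by
    obtain ⟨vs, hvs, rfl⟩ := exists_refl_list hQ hE g
    refine ⟨_, ?_, (theta_list hQ vs hvs).symm⟩
    apply List.prod_ne_zero
    simp only [List.mem_map, not_exists, not_and]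
    exact fun v h h0 => hvs v h h0
  obtain ⟨v, hv, hvc, hvU⟩ := h c hc
  obtain ⟨u, hu, huc, huU⟩ := h 1 one_ne_zero
  by_cases hev : Even (rk g)
  · refine exists_Omega_img hQ hE hg (refl Q u * refl Q v) (by rw [img_mul, hvU, huU]) ?_ ?_
    · rw [even_rk_mul_refl hQ _ hv, rk_refl hQ hu]; simp [hev]
    · rw [theta_mul_refl hQ _ hv, theta_refl hQ hu, huc, hvc, hcg]; simp
  · refine exists_Omega_img hQ hE hg (refl Q v) hvU ?_ ?_
    · rw [rk_refl hQ hv]; simp [hev]
    · rw [theta_refl hQ hv, hvc, hcg]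

lemma exists_chi_eq_theta (hQ : ND Q) (hE : NonExc Q) (g : OG Q) :
    ∃ c : F, c ≠ 0 ∧ chi c = theta g := by
  obtain ⟨vs, hvs, rfl⟩ := exists_refl_list hQ hE g
  refine ⟨_, ?_, (theta_list hQ vs hvs).symm⟩
  apply List.prod_ne_zero
  simp only [List.mem_map, not_exists, not_and]
  exact fun v h h0 => hvs v h h0

/-- a hyperbolic rotation stabilising a non-zero totally singular subspace -/
lemma TS.exists_stab_theta (hQ : ND Q) {U : Submodule F V} (hU : TS Q U) (hU0 : U ≠ ⊥) {c : F}
    (hc : c ≠ 0) : ∃ s : OG Q, img s U = U ∧ Even (rk s) ∧ theta s = chi c := by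
  obtain ⟨p, hp, hp0⟩ := Submodule.exists_mem_ne_zero_of_ne_bot hU0
  obtain ⟨q, hq, hpq⟩ := exists_hyp_partner hQ hp0 (hU p hp)
  have h1 : Q (p + q) = 1 := by qsimp; rw [hU p hp, hq, hpq]; ring
  have h2 : Q (p + c • q) = c := by qsimp; rw [hU p hp, hq, hpq]; ring
  refine ⟨refl Q (p + q) * refl Q (p + c • q), img_eq_of_le fun u hu => ?_, ?_, ?_⟩
  · rw [rot_apply (hU p hp) hq hpq hc, hU.polar_eq hu hp]
    simpa using U.add_mem hu (U.smul_mem _ hp)
  · rw [even_rk_mul_refl hQ _ (h2.trans_ne hc), rk_refl hQ (h1.trans_ne one_ne_zero)]; decide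
  · rw [theta_mul_refl hQ _ (h2.trans_ne hc), theta_refl hQ (h1.trans_ne one_ne_zero), h1, h2]
    simp

end Cfsg.Agent.H7
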