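import Cfsg.Agent.H7.Parity
import Cfsg.Agent.H6.Induced

/-!
Singular vectors (generation, connectedness), semisimilarities and their action on `PΩ`.
-/

set_option autoImplicit false

namespace Cfsg.Agent.H7

open QuadraticMap Module

variable {F V : Type*} [Field F] [AddCommGroup V] [Module F V] {Q : QuadraticForm F V}

section sing

lemma hypSys_one {e f : V} (he : Q e = 0) (hf : Q f = 0) (hef : polar Q e f = 1) :
    HypSys Q (fun _ : Unit => e) (fun _ : Unit => f) where
  Qe _ := he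
  Qf _ := hf
  ee _ _ := by rw [B_self, he, mul_zero]
  ff _ _ := by rw [B_self, hf, mul_zero]
  ef _ _ := by simpa using hef

/-- the orthogonal complement of a pair of vectors -/
abbrev hp1 (Q : QuadraticForm F V) (e f : V) : Submodule F V :=
  hperp Q (fun _ : Unit => e) (fun _ : Unit => f)

lemma mem_hp1 {e f x : V} : x ∈ hp1 Q e f ↔ polar Q x e = 0 ∧ polar Q x f = 0 :=
  ⟨fun h => h (), fun h _ => h⟩

lemma nd_hp1 (hQ : ND Q) {e f : V} (he : Q e = 0) (hf : Q f = 0) (hef : polar Q e f = 1) :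
    ND (Q.restrict (hp1 Q e f)) := (hypSys_one he hf hef).nd_hperp hQ

lemma finrank_hp1 [FiniteDimensional F V] {e f : V} (he : Q e = 0) (hf : Q f = 0)
    (hef : polar Q e f = 1) : finrank F V = 2 + finrank F (hp1 Q e f) := by
  simpa using (hypSys_one he hf hef).finrank_eq

/-- the projection onto the complement of a hyperbolic pair -/
lemma proj_mem_hp1 {e f : V} (he : Q e = 0) (hf : Q f = 0) (hef : polar Q e f = 1) (x : V) :
    x - polar Q x f • e - polar Q x e • f ∈ hp1 Q e f := by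
  rw [mem_hp1]
  constructor
  · qsimp; rw [he, B_comm Q f e, hef]; ring
  · qsimp; rw [hf, hef]; ring

variable [FiniteDimensional F V] [Finite F]

lemma exists_sing_perp {k : ℕ} (x : Fin k → V) (h : k + 3 ≤ finrank F V) :
    ∃ w, w ≠ 0 ∧ Q w = 0 ∧ ∀ i, polar Q (x i) w = 0 := by
  let φ : V →ₗ[F] (Fin k → F) := LinearMap.pi fun i => polarBilin Q (x i)
  have h1 := LinearMap.finrank_range_add_finrank_ker φ
  have h2 : finrank F (LinearMap.range φ) ≤ k := by
    simpa using Submodule.finrank_le (LinearMap.range φ)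
  obtain ⟨w, hw, hw0⟩ := exists_sing_of_three_le (Q.restrict (LinearMap.ker φ)) (by omega)
  exact ⟨w, fun e => hw (Subtype.ext e), hw0, fun i => congrFun w.2 i⟩

lemma exists_sing_perp2 (h : 5 ≤ finrank F V) (u v : V) :
    ∃ w, w ≠ 0 ∧ Q w = 0 ∧ polar Q u w = 0 ∧ polar Q v w = 0 := by
  obtain ⟨w, h1, h2, h3⟩ := exists_sing_perp (Q := Q) ![u, v] h
  exact ⟨w, h1, h2, h3 0, h3 1⟩

lemma exists_hyp_pair (hQ : ND Q) (h : 3 ≤ finrank F V) :
    ∃ e f, Q e = 0 ∧ Q f = 0 ∧ polar Q e f = 1 := by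
  obtain ⟨e, he0, he⟩ := exists_sing_of_three_le Q h
  obtain ⟨f, hf, hef⟩ := exists_hyp_partner hQ he0 he
  exact ⟨e, f, he, hf, hef⟩

/-- The singular vectors generate the additive group. -/
lemma sing_gen (hQ : ND Q) (h : 3 ≤ finrank F V) (S : AddSubgroup V)
    (hS : ∀ u, Q u = 0 → u ∈ S) (v : V) : v ∈ S := by
  obtain ⟨e, f, he, hf, hef⟩ := exists_hyp_pair hQ h
  obtain ⟨h1, h2⟩ := mem_hp1.1 (proj_mem_hp1 he hf hef v)
  set w := v - polar Q v f • e - polar Q v e • f with hw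
  have : v = (e + w - Q w • f) + (polar Q v f - 1) • e + (polar Q v e + Q w) • f := by
    rw [hw]; module
  rw [this]
  refine add_mem (add_mem (hS _ ?_) (hS _ ?_)) (hS _ ?_)
  · qsimp; rw [he, hf, hef, h2, B_comm Q e w, h1]; ring
  · rw [Q_smul, he, mul_zero]
  · rw [Q_smul, hf, mul_zero]

lemma addHom_ext_sing {W : Type*} [AddCommGroup W] (hQ : ND Q) (h : 3 ≤ finrank F V)
    {a b : V →+ W} (hab : ∀ u, Q u = 0 → a u = b u) : a = b :=
  AddMonoidHom.ext fun v => sing_gen hQ h (a.eqLocus b) hab v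

/-- A singular vector has a singular neighbour. -/
lemma exists_sing_nbr (hQ : ND Q) (h : 5 ≤ finrank F V) {u : V} (hu0 : u ≠ 0) (hu : Q u = 0) :
    ∃ w, Q w = 0 ∧ polar Q u w = 0 ∧ w ∉ F ∙ u := by
  obtain ⟨f, -, huf⟩ := exists_hyp_partner hQ hu0 hu
  obtain ⟨w, hw0, hw, h1, h2⟩ := exists_sing_perp2 (Q := Q) h u f
  refine ⟨w, hw, h1, fun hm => hw0 ?_⟩
  obtain ⟨a, rfl⟩ := Submodule.mem_span_singleton.1 hm
  rw [B_smul_right, B_comm, huf, mul_one] at h2
  rw [h2, zero_smul]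

/-- The collinearity graph on singular vectors is connected. -/
lemma sing_conn (hQ : ND Q) (h : 5 ≤ finrank F V) {α : Sort*} (P : V → α)
    (hP : ∀ u v, Q u = 0 → Q v = 0 → polar Q u v = 0 → u ≠ 0 → v ∉ F ∙ u → P u = P v)
    {u v : V} (hu0 : u ≠ 0) (hv0 : v ≠ 0) (hu : Q u = 0) (hv : Q v = 0) : P u = P v := by
  by_cases huv : polar Q u v = 0
  · by_cases hm : v ∈ F ∙ u
    · obtain ⟨w, hw, h1, h2⟩ := exists_sing_nbr hQ h hu0 hu
      obtain ⟨a, rfl⟩ := Submodule.mem_span_singleton.1 hm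
      rw [hP u w hu hw h1 hu0 h2, hP (a • u) w hv hw (by rw [B_smul_left, h1, mul_zero]) hv0
        fun h3 => h2 (Submodule.span_singleton_le_iff_mem _ _ |>.2 hm h3)]
    · exact hP u v hu hv huv hu0 hm
  · obtain ⟨w, hw0, hw, h1, h2⟩ := exists_sing_perp2 (Q := Q) h u v
    rw [hP u w hu hw h1 hu0, hP v w hv hw h2 hv0]
    · intro hm
      obtain ⟨a, rfl⟩ := Submodule.mem_span_singleton.1 hm
      rw [B_smul_right, mul_eq_zero] at h1
      exact hw0 (by rw [h1.resolve_right huv, zero_smul])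
    · intro hm
      obtain ⟨a, rfl⟩ := Submodule.mem_span_singleton.1 hm
      rw [B_smul_right, B_comm, mul_eq_zero] at h2
      exact hw0 (by rw [h2.resolve_right huv, zero_smul])

/-- An additive map fixing all singular points is a scalar. -/
lemma scalar_of_fix_sing (hQ : ND Q) (h : 5 ≤ finrank F V) (γ : V →+ V)
    (hγ : ∀ u, Q u = 0 → γ u ∈ F ∙ u) : ∃ l : F, ∀ v, γ v = l • v := by
  classical
  have : ∀ u, ∃ l : F, Q u = 0 → γ u = l • u := fun u => by
    by_cases hu : Q u = 0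
    · obtain ⟨l, hl⟩ := Submodule.mem_span_singleton.1 (hγ u hu)
      exact ⟨l, fun _ => hl.symm⟩
    · exact ⟨0, fun h => absurd h hu⟩
  choose l hl using this
  obtain ⟨e, he0, he⟩ := exists_sing_of_three_le Q (by omega)
  have key : ∀ u, u ≠ 0 → Q u = 0 → l u = l e := fun u hu0 hu =>
    sing_conn hQ h l (fun u v hu hv huv hu0 hm => by
      have h1 := hl (u + v) (by rw [Q_add, hu, hv, huv]; ring)
      rw [map_add, hl u hu, hl v hv] at h1
      have h2 := LinearIndependent.pair_iff.1 (linearIndependent_pair_of hu0 hm)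
        (l u - l (u + v)) (l v - l (u + v)) (by linear_combination (norm := module) h1)
      linear_combination h2.1 - h2.2) hu0 he0 hu he
  refine ⟨l e, fun v => ?_⟩
  have := addHom_ext_sing hQ (by omega) (a := γ) (b := DistribSMul.toAddMonoidHom V (l e))
    fun u hu => by
      by_cases hu0 : u = 0
      · simp [hu0]
      · rw [hl u hu, key u hu0 hu]; rfl
  exact DFunLike.congr_fun this v

end sing

section siegel

lemma siegel_congr {p w p' w' : V} (hp : Q p = 0) (hw : polar Q p w = 0) (h1 : p = p')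
    (h2 : w = w') : siegel p w hp hw = siegel p' w' (h1 ▸ hp) (h1 ▸ h2 ▸ hw) := by
  subst h1 h2; rfl

lemma siegel_add_smul {p w : V} (hp : Q p = 0) (hw : polar Q p w = 0) (c : F)
    (hw' : polar Q p (w + c • p) = 0) : siegel p (w + c • p) hp hw' = siegel p w hp hw := by
  apply OG.ext'
  intro x
  simp only [siegel_apply]
  qsimp
  rw [hp, B_comm Q w p, hw]
  module

lemma siegel_smul_left {p w : V} (c : F) (hp : Q p = 0)
    (hp' : Q (c • p) = 0) (hw' : polar Q (c • p) w = 0) (hw'' : polar Q p (c • w) = 0) :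
    siegel (c • p) w hp' hw' = siegel p (c • w) hp hw'' := by
  apply OG.ext'
  intro x
  simp only [siegel_apply]
  qsimp
  module

lemma siegel_self {p w : V} (hp : Q p = 0) (hw : polar Q p w = 0) : (siegel p w hp hw).1 p = p := by
  rw [siegel_apply, hw, B_self, hp]; simp

lemma siegel_zero {p : V} (hp : Q p = 0) (hw : polar Q p 0 = 0) : siegel p 0 hp hw = 1 := by
  apply OG.ext'
  intro x
  simp [siegel_apply]

lemma sub_mem_of_siegel_eq [FiniteDimensional F V] (hQ : ND Q) {p w w' : V} (hp0 : p ≠ 0)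
    (hp : Q p = 0) (hw : polar Q p w = 0) (hw' : polar Q p w' = 0)
    (h : siegel p w hp hw = siegel p w' hp hw') : w' - w ∈ F ∙ p := by
  obtain ⟨f, -, hf⟩ := exists_hyp_partner hQ hp0 hp
  have := congrArg (fun g : OG Q => g.1 f) h
  simp only [siegel_apply, B_comm Q f p, hf] at this
  exact Submodule.mem_span_singleton.2 ⟨polar Q f w' - polar Q f w + Q w - Q w',
    by linear_combination (norm := module) -this⟩

end siegel

/-- Semisimilarities of a quadratic form. -/
@[ext] structure SS (Q : QuadraticForm F V) where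
  /-- the field automorphism -/
  σ : F ≃+* F
  /-- the multiplier -/
  c : Fˣ
  /-- the underlying map -/
  γ : V ≃+ V
  map_smul : ∀ a v, γ (a • v) = σ a • γ v
  map_Q : ∀ v, Q (γ v) = c * σ (Q v)

namespace SS

instance instGroupSS : Group (SS Q) where
  mul g h := ⟨g.σ * h.σ, g.c * Units.map (g.σ : F →* F) h.c, h.γ.trans g.γ,
    fun a v => by simp [g.map_smul, h.map_smul],
    fun v => by simp [g.map_Q, h.map_Q, mul_assoc]⟩
  one := ⟨1, 1, AddEquiv.refl V, fun _ _ => rfl, fun v => by simp⟩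
  inv g := ⟨g.σ⁻¹, Units.map (g.σ⁻¹ : F ≃+* F) g.c⁻¹, g.γ.symm,
    fun a v => by
      apply g.γ.injective
      rw [g.map_smul]; simp,
    fun v => by
      apply g.σ.injective
      have := g.map_Q (g.γ.symm v)
      rw [AddEquiv.apply_symm_apply] at this
      simp [this]⟩
  mul_assoc g h k := by
    refine SS.ext rfl ?_ rfl
    ext
    change _ * g.σ _ * (g.σ * h.σ) _ = _ * g.σ (_ * h.σ _)
    simp [mul_assoc]
  one_mul g := by
    refine SS.ext rfl ?_ rfl
    ext
    change 1 * (g.c : F) = _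
    simp
  mul_one g := by
    refine SS.ext rfl ?_ rfl
    ext
    change (g.c : F) * g.σ 1 = _
    simp
  inv_mul_cancel g := by
    refine SS.ext (inv_mul_cancel g.σ) ?_ (g.γ.self_trans_symm)
    ext
    change g.σ⁻¹ ((g.c⁻¹ : Fˣ) : F) * g.σ⁻¹ g.c = 1
    rw [← map_mul]; simp

@[simp] lemma mul_σ (g h : SS Q) : (g * h).σ = g.σ * h.σ := rfl
@[simp] lemma mul_c (g h : SS Q) : ((g * h).c : F) = g.c * g.σ h.c := rfl
@[simp] lemma mul_apply (g h : SS Q) (x : V) : (g * h).γ x = g.γ (h.γ x) := rfl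
@[simp] lemma one_σ : (1 : SS Q).σ = 1 := rfl
@[simp] lemma one_c : (1 : SS Q).c = 1 := rfl
@[simp] lemma one_apply (x : V) : (1 : SS Q).γ x = x := rfl
@[simp] lemma inv_σ (g : SS Q) : g⁻¹.σ = g.σ⁻¹ := rfl
lemma inv_c (g : SS Q) : (g⁻¹.c : F) = g.σ⁻¹ (g.c : F)⁻¹ := by
  change g.σ⁻¹ ((g.c⁻¹ : Fˣ) : F) = _
  simp
@[simp] lemma apply_inv (g : SS Q) (x : V) : g.γ (g⁻¹.γ x) = x := g.γ.apply_symm_apply x
@[simp] lemma inv_apply (g : SS Q) (x : V) : g⁻¹.γ (g.γ x) = x := g.γ.symm_apply_apply x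

lemma map_B (g : SS Q) (x y : V) : polar Q (g.γ x) (g.γ y) = g.c * g.σ (polar Q x y) := by
  simp only [polar, ← map_add, g.map_Q, map_sub]; ring

lemma B_left (g : SS Q) (x y : V) :
    polar Q (g.γ x) y = g.c * g.σ (polar Q x (g⁻¹.γ y)) := by
  rw [← map_B, apply_inv]

lemma Q_eq_zero_iff (g : SS Q) {x : V} : Q (g.γ x) = 0 ↔ Q x = 0 := by simp [g.map_Q]

lemma B_eq_zero_iff (g : SS Q) {x y : V} : polar Q (g.γ x) (g.γ y) = 0 ↔ polar Q x y = 0 := by
  simp [g.map_B]

lemma apply_ne_zero (g : SS Q) {x : V} (hx : x ≠ 0) : g.γ x ≠ 0 := by simpa using hx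

variable (Q) in
/-- the field automorphism attached to a semisimilarity -/
def sig : SS Q →* (F ≃+* F) where
  toFun := SS.σ
  map_one' := rfl
  map_mul' _ _ := rfl

@[simp] lemma sig_apply (g : SS Q) : sig Q g = g.σ := rfl

lemma ext_of_apply (hQ : ND Q) [Nontrivial V] {g h : SS Q} (H : ∀ x, g.γ x = h.γ x) : g = h := by
  obtain ⟨z, -, hz⟩ := exists_nonsing (Q := Q) (W := ⊤)
    (fun x _ hx => hQ.eq_zero fun y => hx y trivial) top_ne_bot
  have hz0 : z ≠ 0 := by rintro rfl; simp at hz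
  have h1 : g.σ = h.σ := by
    ext a
    have := H (a • z)
    rw [g.map_smul, h.map_smul, H] at this
    exact smul_left_injective F (h.apply_ne_zero hz0) this
  refine SS.ext h1 ?_ (AddEquiv.ext H)
  have h2 := g.map_Q z
  rw [H, h.map_Q, h1] at h2
  ext
  exact (mul_right_cancel₀ (by simpa using hz) h2).symm

variable (Q) in
/-- isometries as semisimilarities -/
def ofO : OG Q →* SS Q where
  toFun g := ⟨1, 1, g.1.toAddEquiv, fun a v => g.1.map_smul a v, fun v => by simp⟩
  map_one' := rfl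
  map_mul' g h := SS.ext rfl (by ext; simp) rfl

@[simp] lemma ofO_σ (g : OG Q) : (ofO Q g).σ = 1 := rfl
@[simp] lemma ofO_c (g : OG Q) : (ofO Q g).c = 1 := rfl
@[simp] lemma ofO_apply (g : OG Q) (x : V) : (ofO Q g).γ x = g.1 x := rfl

lemma ofO_injective : Function.Injective (ofO Q) := fun _ _ h =>
  OG.ext' fun x => congrArg (fun g : SS Q => g.γ x) h

lemma mem_range_ofO {g : SS Q} : g ∈ (ofO Q).range ↔ g.σ = 1 ∧ g.c = 1 := by
  constructor
  · rintro ⟨g, rfl⟩; exact ⟨rfl, rfl⟩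
  · rintro ⟨h1, h2⟩
    refine ⟨⟨{ g.γ with map_smul' := fun a v => by simp [g.map_smul, h1] }, fun v => ?_⟩,
      SS.ext h1.symm h2.symm rfl⟩
    change Q (g.γ v) = Q v
    simp [g.map_Q, h1, h2]

variable (Q) in
/-- scalars as semisimilarities -/
def sc : Fˣ →* SS Q where
  toFun l := ⟨1, l ^ 2, DistribMulAction.toAddEquiv V l,
    fun a v => by simp [smul_comm l a v], fun v => by
      change Q ((l : F) • v) = _
      simp [Q_smul]⟩
  map_one' := SS.ext rfl (by simp) (by ext; simp)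
  map_mul' g h := SS.ext rfl (by ext; simp [mul_pow]) (by ext; simp [mul_smul])

@[simp] lemma sc_σ (l : Fˣ) : (sc Q l).σ = 1 := rfl
@[simp] lemma sc_c (l : Fˣ) : (sc Q l).c = l ^ 2 := rfl
@[simp] lemma sc_apply (l : Fˣ) (x : V) : (sc Q l).γ x = (l : F) • x := rfl

lemma conj_sc (g : SS Q) (l : Fˣ) : g * sc Q l * g⁻¹ = sc Q (Units.map (g.σ : F →* F) l) := by
  refine SS.ext (by simp) ?_ ?_
  · ext; simp [inv_c]; field_simp
  · ext x; simp [g.map_smul]

lemma conj_ofO_mem (g : SS Q) (h : OG Q) : g * ofO Q h * g⁻¹ ∈ (ofO Q).range :=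
  mem_range_ofO.2 ⟨by simp, by ext; simp [inv_c]⟩

variable (Q) in
/-- conjugation action on the orthogonal group -/
noncomputable def actO : SS Q →* MulAut (OG Q) :=
  (H6.resAut (ofO Q) ofO_injective).comp
    ((H6.conjStab (ofO Q) ⊤ fun g _ s => conj_ofO_mem g s).comp Subgroup.topEquiv.symm.toMonoidHom)

lemma ofO_actO (g : SS Q) (h : OG Q) : ofO Q (actO Q g h) = g * ofO Q h * g⁻¹ :=
  H6.j_resAut ofO_injective _ h

lemma actO_apply (g : SS Q) (h : OG Q) (x : V) : (actO Q g h).1 x = g.γ (h.1 (g⁻¹.γ x)) :=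
  congrArg (fun k : SS Q => k.γ x) (ofO_actO g h)

lemma actO_apply' (g : SS Q) (h : OG Q) (x : V) : (actO Q g h).1 (g.γ x) = g.γ (h.1 x) := by
  rw [actO_apply, inv_apply]

lemma actO_ofO (g h : OG Q) : actO Q (ofO Q g) h = g * h * g⁻¹ :=
  ofO_injective (by rw [ofO_actO]; simp)

lemma actO_sc (l : Fˣ) : actO Q (sc Q l) = 1 := by
  ext h x
  obtain ⟨x, rfl⟩ := (sc Q l).γ.surjective x
  rw [actO_apply']; simp

lemma actO_refl (g : SS Q) (v : V) : actO Q g (refl Q v) = refl Q (g.γ v) := by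
  apply OG.ext'
  intro x
  obtain ⟨x, rfl⟩ := g.γ.surjective x
  rw [actO_apply', refl_apply, refl_apply, map_sub, g.map_smul, g.map_Q, g.map_B]
  congr 2
  simp only [map_mul, map_inv₀]
  by_cases h : g.σ (Q v) = 0
  · simp [h]
  · field_simp

lemma actO_siegel (g : SS Q) {p w : V} (hp : Q p = 0) (hw : polar Q p w = 0) :
    actO Q g (siegel p w hp hw) = siegel ((g.c : F)⁻¹ • g.γ p) (g.γ w)
      (by simp [Q_smul, g.map_Q, hp]) (by simp [g.map_B, hw]) := by
  apply OG.ext'
  intro x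
  obtain ⟨x, rfl⟩ := g.γ.surjective x
  rw [actO_apply', siegel_apply, siegel_apply]
  simp only [map_sub, map_add, g.map_smul, g.map_Q, g.map_B, B_smul_right, map_mul]
  match_scalars <;> field_simp

end SS

/-- the commutator subgroup of the orthogonal group -/
abbrev Om (Q : QuadraticForm F V) : Subgroup (OG Q) := commutator (OG Q)

/-- the projective group `PΩ` -/
abbrev POm (Q : QuadraticForm F V) : Type _ := Om Q ⧸ Subgroup.center (Om Q)

/-- the projection onto `PΩ` -/
abbrev pm (Q : QuadraticForm F V) : Om Q →* POm Q := QuotientGroup.mk' _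

variable (Q) in
/-- the action of the semisimilarities on `Ω` -/
noncomputable def actOm : SS Q →* MulAut (Om Q) := (MulAut.characteristic _).comp (SS.actO Q)

lemma actOm_coe (g : SS Q) (s : Om Q) : (actOm Q g s : OG Q) = SS.actO Q g s := rfl

variable (Q) in
/-- the action of the semisimilarities on `PΩ` -/
noncomputable def act : SS Q →* MulAut (POm Q) := (H6.cqAut _).comp (actOm Q)

lemma act_pm (g : SS Q) (s : Om Q) : act Q g (pm Q s) = pm Q (actOm Q g s) := rfl

lemma act_ofO (s : Om Q) : act Q (SS.ofO Q s) = MulAut.conj (pm Q s) := by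
  ext x
  obtain ⟨x, rfl⟩ := QuotientGroup.mk'_surjective _ x
  rw [act_pm, MulAut.conj_apply, ← map_inv, ← map_mul, ← map_mul]
  congr 1
  exact Subtype.ext (SS.actO_ofO _ _)

lemma act_sc (l : Fˣ) : act Q (SS.sc Q l) = 1 := by
  simp only [act, actOm, MonoidHom.comp_apply, SS.actO_sc, map_one]

section center
variable [FiniteDimensional F V] [Finite F]

omit [Finite F] in
lemma siegel_mem_Om (hQ : ND Q) (h : 5 ≤ finrank F V) {p w : V} (hp : Q p = 0)
    (hw : polar Q p w = 0) : siegel p w hp hw ∈ Om Q :=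
  siegel_mem_commutator hQ (nonExc_of_finrank hQ (by omega)) hp hw

/-- A semisimilarity centralising all Siegel transformations fixes all singular points. -/
lemma fix_of_comm_siegel (hQ : ND Q) (h : 5 ≤ finrank F V) (g : SS Q)
    (hg : ∀ p w hp hw, SS.actO Q g (siegel p w hp hw) = siegel p w hp hw) {u : V} (hu : Q u = 0) :
    g.γ u ∈ F ∙ u := by
  by_cases hu0 : u = 0
  · simp [hu0]
  obtain ⟨f, hf, huf⟩ := exists_hyp_partner hQ hu0 hu
  -- `g u` is fixed by all Siegel maps with centre `u`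
  have key : ∀ w (hw : polar Q u w = 0), (siegel u w hu hw).1 (g.γ u) = g.γ u := fun w hw => by
    rw [← hg u w hu hw, SS.actO_apply', siegel_self]
  have h1 : polar Q (g.γ u) u = 0 := by
    by_contra h0
    obtain ⟨w, hw, h2, h3⟩ := exists_sing_nbr hQ h hu0 hu
    have := key w h2
    rw [siegel_apply, hw] at this
    apply h3
    refine Submodule.mem_span_singleton.2 ⟨polar Q (g.γ u) w / polar Q (g.γ u) u, ?_⟩
    apply smul_right_injective V h0
    simp only [smul_smul]
    rw [mul_div_cancel₀ _ h0]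
    linear_combination (norm := module) this
  have h2 : ∀ w, polar Q u w = 0 → polar Q (g.γ u) w = 0 := fun w hw => by
    have := key w hw
    rw [siegel_apply, h1] at this
    have h3 : polar Q (g.γ u) w • u = 0 := by linear_combination (norm := module) this
    exact (smul_eq_zero.1 h3).resolve_right hu0
  rw [← perp_perp hQ (F ∙ u), mem_perp]
  intro w hw
  rw [B_comm]
  exact h2 w (mem_perp.1 hw u (Submodule.mem_span_singleton_self u))

lemma exists_sc_of_fix (hQ : ND Q) (h : 5 ≤ finrank F V) (g : SS Q)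
    (hg : ∀ u, Q u = 0 → g.γ u ∈ F ∙ u) : ∃ l, g = SS.sc Q l := by
  have : Nontrivial V := Module.nontrivial_of_finrank_pos (R := F) (by omega)
  obtain ⟨l, hl⟩ := scalar_of_fix_sing hQ h (g.γ : V →+ V) hg
  obtain ⟨x, hx⟩ := exists_ne (0 : V)
  have hl0 : l ≠ 0 := by
    rintro rfl
    exact g.apply_ne_zero hx (by simpa using hl x)
  exact ⟨Units.mk0 l hl0, SS.ext_of_apply hQ hl⟩

lemma mem_center_Om_iff (hQ : ND Q) (h : 5 ≤ finrank F V) {z : Om Q} :
    z ∈ Subgroup.center (Om Q) ↔ ∃ l : F, ∀ v, z.1.1 v = l • v := by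
  constructor
  · intro hz
    obtain ⟨l, hl⟩ := exists_sc_of_fix hQ h (SS.ofO Q z) fun u hu =>
      fix_of_comm_siegel hQ h _ (fun p w hp hw => by
        rw [SS.actO_ofO, mul_inv_eq_iff_eq_mul]
        exact (congrArg Subtype.val
          (Subgroup.mem_center_iff.1 hz ⟨_, siegel_mem_Om hQ h hp hw⟩)).symm) hu
    exact ⟨l, fun v => congrArg (fun k : SS Q => k.γ v) hl⟩
  · rintro ⟨l, hl⟩
    rw [Subgroup.mem_center_iff]
    intro g
    refine Subtype.ext (OG.ext' fun x => ?_)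
    simp [hl]

lemma pm_eq_iff (hQ : ND Q) (h : 5 ≤ finrank F V) {s t : Om Q} :
    pm Q s = pm Q t ↔ ∃ l : F, ∀ v, t.1.1 v = l • s.1.1 v := by
  rw [QuotientGroup.mk'_apply, QuotientGroup.mk'_apply, QuotientGroup.eq, mem_center_Om_iff hQ h]
  refine exists_congr fun l => forall_congr' fun v => ?_
  change (s.1⁻¹).1 (t.1.1 v) = _ ↔ _
  rw [OG.inv_apply_eq, map_smul]

lemma eq_of_pm_eq (hQ : ND Q) (h : 5 ≤ finrank F V) {s t : Om Q} (hst : pm Q s = pm Q t) {v : V}
    (hv : v ≠ 0) (hs : s.1.1 v = v) (ht : t.1.1 v = v) : s = t := by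
  obtain ⟨l, hl⟩ := (pm_eq_iff hQ h).1 hst
  have h1 := hl v
  rw [hs, ht] at h1
  have h2 : l = 1 := (smul_left_injective F hv (by simpa using h1)).symm
  exact Subtype.ext (OG.ext' fun x => by rw [hl, h2, one_smul])

/-- The kernel of the action on `PΩ` consists of the scalars. -/
theorem act_eq_one_iff (hQ : ND Q) (h : 5 ≤ finrank F V) {g : SS Q} :
    act Q g = 1 ↔ ∃ l, g = SS.sc Q l := by
  constructor
  · intro hg
    refine exists_sc_of_fix hQ h g fun u hu => fix_of_comm_siegel hQ h g (fun p w hp hw => ?_) hu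
    have h1 : pm Q (actOm Q g ⟨_, siegel_mem_Om hQ h hp hw⟩) =
        pm Q ⟨_, siegel_mem_Om hQ h hp hw⟩ := by rw [← act_pm, hg]; rfl
    obtain ⟨v, hv0, -, hv⟩ : ∃ v, v ≠ 0 ∧ True ∧ ∀ i, polar Q (![p, w, g.γ p, g.γ w] i) v = 0 := by
      let φ : V →ₗ[F] (Fin 4 → F) := LinearMap.pi fun i => polarBilin Q (![p, w, g.γ p, g.γ w] i)
      have := LinearMap.ker_ne_bot_of_finrank_lt (f := φ) (by simp; omega)
      obtain ⟨z, hz, hz0⟩ := Submodule.exists_mem_ne_zero_of_ne_bot this
      exact ⟨z, hz0, trivial, fun i => congrFun hz i⟩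
    have a0 : polar Q v p = 0 := by rw [B_comm]; exact hv 0
    have a1 : polar Q v w = 0 := by rw [B_comm]; exact hv 1
    have a2 : polar Q v (g.γ p) = 0 := by rw [B_comm]; exact hv 2
    have a3 : polar Q v (g.γ w) = 0 := by rw [B_comm]; exact hv 3
    refine congrArg Subtype.val (eq_of_pm_eq hQ h h1 hv0 ?_ ?_)
    · rw [actOm_coe, SS.actO_siegel, siegel_apply, B_smul_right, a2, a3]; simp
    · rw [siegel_apply, a0, a1]; simp
  · rintro ⟨l, rfl⟩; exact act_sc l

end center

end Cfsg.Agent.H7
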